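import Mathlib
import Groth.Agent.Lib.Helper45.NowhereDense
import Groth.Agent.Lib.Helper49.RestrictStalk
import Groth.Agent.Lib.Helper49.StalkKerCoker
import Groth.Agent.Lib.Helper49.FiniteTypeAffine

/-!
# The graph trick for coherent modules

Given coherent modules `F`, `G` on a locally Noetherian scheme and a linear map `ψ : F_ξ → G_ξ`
between stalks, there is a coherent module `H` with morphisms `p₁ : H ⟶ F`, `p₂ : H ⟶ G` such that
`p₁` is bijective on stalks at `ξ` and `(p₂)_ξ = ψ ∘ (p₁)_ξ` (the closure of the graph of a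
morphism defined near `ξ` inducing `ψ`).

Shared library of helper45 (namespace `Groth.Agent.Lib.Helper45.GraphTrick`).
-/

set_option autoImplicit false
set_option linter.style.haveILetI false
universe u
open CategoryTheory CategoryTheory.Limits AlgebraicGeometry TopologicalSpace

namespace Groth.Agent.Lib.Helper45.GraphTrick

open Groth.Agent.Lib.Helper45 Groth.Agent.Lib.Helper49

variable {X : Scheme.{u}}

section Biprod

theorem isQuasicoherent_biprod (F G : X.Modules) [F.IsQuasicoherent] [G.IsQuasicoherent] :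
    (F ⊞ G).IsQuasicoherent := by
  have h : (limit (pair F G)).IsQuasicoherent :=
    isQuasicoherent_finite_limit (pair F G) (by rintro ⟨_ | _⟩ <;> assumption)
  exact isQuasicoherent_of_iso (biprod.isoProd F G).symm h

theorem biprod_section_eq (F G : X.Modules) (V : X.Opens) (s : Γ(F ⊞ G, V)) :
    s = (biprod.inl : F ⟶ F ⊞ G).app V ((biprod.fst : F ⊞ G ⟶ F).app V s) +
      (biprod.inr : G ⟶ F ⊞ G).app V ((biprod.snd : F ⊞ G ⟶ G).app V s) := by
  have h := congrArg (fun m => m.app V s) (biprod.total (X := F) (Y := G))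
  exact h.symm

theorem isFiniteType_biprod (F G : X.Modules) [F.IsQuasicoherent] [G.IsQuasicoherent]
    (hF : SheafOfModules.IsFiniteType (R := X.ringCatSheaf) F)
    (hG : SheafOfModules.IsFiniteType (R := X.ringCatSheaf) G) :
    SheafOfModules.IsFiniteType (R := X.ringCatSheaf) (F ⊞ G) := by
  haveI := isQuasicoherent_biprod F G
  refine isFiniteType_of_finite_sections (F ⊞ G) fun U => ?_
  haveI := Groth.Agent.Lib.Helper49.finite_sections_of_isFiniteType F hF U.2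
  haveI := Groth.Agent.Lib.Helper49.finite_sections_of_isFiniteType G hG U.2
  let L : (Γ(F, U.1) × Γ(G, U.1)) →ₗ[Γ(X, U.1)] Γ(F ⊞ G, U.1) :=
    (Helper45.appₗ (biprod.inl : F ⟶ F ⊞ G) U.1).coprod
      (Helper45.appₗ (biprod.inr : G ⟶ F ⊞ G) U.1)
  refine Module.Finite.of_surjective L fun s => ?_
  refine ⟨((biprod.fst : F ⊞ G ⟶ F).app U.1 s, (biprod.snd : F ⊞ G ⟶ G).app U.1 s), ?_⟩
  exact (biprod_section_eq F G U.1 s).symm

end Biprod

section Graph

variable (F G : X.Modules) (W : X.Opens) (φ : F.restrict W.ι ⟶ G.restrict W.ι)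

/-- The target `j_* (G|_W)` of the two maps defining the graph. -/
noncomputable abbrev tgt : X.Modules := (Scheme.Modules.pushforward W.ι).obj (G.restrict W.ι)

/-- The map `F ⟶ j_* (F|_W) ⟶ j_* (G|_W)`. -/
noncomputable def α : F ⟶ tgt G W :=
  toPushRestrict F W ≫ (Scheme.Modules.pushforward W.ι).map φ

/-- The map `G ⟶ j_* (G|_W)`. -/
noncomputable abbrev β : G ⟶ tgt G W := toPushRestrict G W

/-- The difference map `F ⊞ G ⟶ j_* (G|_W)` whose kernel is the closure of the graph of `φ`. -/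
noncomputable def Φ : F ⊞ G ⟶ tgt G W :=
  biprod.fst ≫ α F G W φ - biprod.snd ≫ β G W

/-- The closure of the graph of `φ`. -/
noncomputable abbrev graph : X.Modules := kernel (Φ F G W φ)

/-- The first projection of the graph. -/
noncomputable def p₁ : graph F G W φ ⟶ F := kernel.ι (Φ F G W φ) ≫ biprod.fst

/-- The second projection of the graph. -/
noncomputable def p₂ : graph F G W φ ⟶ G := kernel.ι (Φ F G W φ) ≫ biprod.snd

theorem α_app (V : X.Opens) (f : Γ(F, V)) :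
    (α F G W φ).app V f =
      φ.app (W.ι ⁻¹ᵁ V) (F.presheaf.map (homOfLE (W.ι.image_preimage_le V)).op f) := rfl

theorem β_app (V : X.Opens) (g : Γ(G, V)) :
    (β G W).app V g = G.presheaf.map (homOfLE (W.ι.image_preimage_le V)).op g := rfl

theorem graph_cond (V : X.Opens) (h : Γ(graph F G W φ, V)) :
    (α F G W φ).app V ((p₁ F G W φ).app V h) = (β G W).app V ((p₂ F G W φ).app V h) := by
  have h0 : (α F G W φ).app V ((biprod.fst : F ⊞ G ⟶ F).app V
        ((kernel.ι (Φ F G W φ)).app V h)) -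
      (β G W).app V ((biprod.snd : F ⊞ G ⟶ G).app V ((kernel.ι (Φ F G W φ)).app V h)) = 0 :=
    congrArg (fun m => m.app V h) (kernel.condition (Φ F G W φ))
  exact sub_eq_zero.mp h0

theorem fst_inl_add_inr (V : X.Opens) (f : Γ(F, V)) (g : Γ(G, V)) :
    (biprod.fst : F ⊞ G ⟶ F).app V
      ((biprod.inl : F ⟶ F ⊞ G).app V f + (biprod.inr : G ⟶ F ⊞ G).app V g) = f := by
  rw [map_add]
  have h1 : (biprod.fst : F ⊞ G ⟶ F).app V ((biprod.inl : F ⟶ F ⊞ G).app V f) = f :=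
    congrArg (fun m => m.app V f) (biprod.inl_fst (X := F) (Y := G))
  have h2 : (biprod.fst : F ⊞ G ⟶ F).app V ((biprod.inr : G ⟶ F ⊞ G).app V g) = 0 :=
    congrArg (fun m => m.app V g) (biprod.inr_fst (X := F) (Y := G))
  rw [h1, h2, add_zero]

theorem snd_inl_add_inr (V : X.Opens) (f : Γ(F, V)) (g : Γ(G, V)) :
    (biprod.snd : F ⊞ G ⟶ G).app V
      ((biprod.inl : F ⟶ F ⊞ G).app V f + (biprod.inr : G ⟶ F ⊞ G).app V g) = g := by
  rw [map_add]
  have h1 : (biprod.snd : F ⊞ G ⟶ G).app V ((biprod.inl : F ⟶ F ⊞ G).app V f) = 0 :=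
    congrArg (fun m => m.app V f) (biprod.inl_snd (X := F) (Y := G))
  have h2 : (biprod.snd : F ⊞ G ⟶ G).app V ((biprod.inr : G ⟶ F ⊞ G).app V g) = g :=
    congrArg (fun m => m.app V g) (biprod.inr_snd (X := F) (Y := G))
  rw [h1, h2, zero_add]

theorem exists_graph_section (V : X.Opens) (f : Γ(F, V)) (g : Γ(G, V))
    (hfg : (α F G W φ).app V f = (β G W).app V g) :
    ∃ h : Γ(graph F G W φ, V), (p₁ F G W φ).app V h = f ∧ (p₂ F G W φ).app V h = g := by
  set s : Γ(F ⊞ G, V) :=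
    (biprod.inl : F ⟶ F ⊞ G).app V f + (biprod.inr : G ⟶ F ⊞ G).app V g with hs
  have hΦ : (Φ F G W φ).app V s = 0 := by
    have h0 : (Φ F G W φ).app V s = (α F G W φ).app V ((biprod.fst : F ⊞ G ⟶ F).app V s) -
        (β G W).app V ((biprod.snd : F ⊞ G ⟶ G).app V s) := rfl
    rw [h0, hs, fst_inl_add_inr, snd_inl_add_inr, hfg, sub_self]
  obtain ⟨h, hh⟩ := (NowhereDense.app_exact_kernel (Φ F G W φ) V s).mp hΦ
  refine ⟨h, ?_, ?_⟩
  · change (biprod.fst : F ⊞ G ⟶ F).app V ((kernel.ι (Φ F G W φ)).app V h) = f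
    rw [hh, hs, fst_inl_add_inr]
  · change (biprod.snd : F ⊞ G ⟶ G).app V ((kernel.ι (Φ F G W φ)).app V h) = g
    rw [hh, hs, snd_inl_add_inr]

theorem graph_section_ext (V : X.Opens) (h : Γ(graph F G W φ, V))
    (h1 : (p₁ F G W φ).app V h = 0) (h2 : (p₂ F G W φ).app V h = 0) : h = 0 := by
  apply Helper45.app_injective_of_mono (kernel.ι (Φ F G W φ)) V
  rw [map_zero, biprod_section_eq F G V ((kernel.ι (Φ F G W φ)).app V h)]
  change (biprod.inl : F ⟶ F ⊞ G).app V ((p₁ F G W φ).app V h) +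
    (biprod.inr : G ⟶ F ⊞ G).app V ((p₂ F G W φ).app V h) = 0
  rw [h1, h2, map_zero, map_zero, add_zero]

theorem graph_jointly_mono {T : X.Modules} (a : T ⟶ graph F G W φ)
    (h1 : a ≫ p₁ F G W φ = 0) (h2 : a ≫ p₂ F G W φ = 0) : a = 0 := by
  rw [← cancel_mono (kernel.ι (Φ F G W φ)), zero_comp]
  apply biprod.hom_ext
  · rw [Category.assoc, zero_comp]
    exact h1
  · rw [Category.assoc, zero_comp]
    exact h2

variable {F G W φ}

theorem exists_restrict_eq_zero_of_germ_eq_zero (M : X.Modules) {ξ : X} {V : X.Opens}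
    (hξV : ξ ∈ V) (m : Γ(M, V)) (hm : M.presheaf.germ V ξ hξV m = 0) :
    ∃ (V' : X.Opens) (_ : ξ ∈ V') (hV' : V' ≤ V), M.presheaf.map (homOfLE hV').op m = 0 := by
  have h := TopCat.Presheaf.germ_eq M.presheaf ξ hξV hξV m 0 (hm.trans (map_zero _).symm)
  obtain ⟨V', hξV', iU, iV, e⟩ := h
  refine ⟨V', hξV', iU.le, ?_⟩
  rw [map_zero] at e
  exact e

/-- The germ of `α f` at a point `ξ ∈ W` is `ψ` of the germ of `f`, when `φ` induces `ψ` at `ξ`. -/
theorem germ_α {ξ : X} (hξW : ξ ∈ W)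
    (ψ : ↑(F.presheaf.stalk ξ) →ₗ[X.presheaf.stalk ξ] ↑(G.presheaf.stalk ξ))
    (hφ : ∀ a : ↑(F.presheaf.stalk ξ), (conjStalkMap W.ι φ (⟨ξ, hξW⟩ : W)).hom a = ψ a)
    (V : X.Opens) (hξV : ξ ∈ V) (f : Γ(F, V)) :
    G.presheaf.germ (W.ι ''ᵁ W.ι ⁻¹ᵁ V) ξ ⟨⟨ξ, hξW⟩, hξV, rfl⟩ ((α F G W φ).app V f) =
      ψ (F.presheaf.germ V ξ hξV f) := by
  rw [α_app]
  have h1 := conjStalkMap_germ W.ι φ (⟨ξ, hξW⟩ : W) (W.ι ⁻¹ᵁ V) hξV
    (F.presheaf.map (homOfLE (W.ι.image_preimage_le V)).op f)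
  rw [hφ] at h1
  refine h1.symm.trans ?_
  exact congrArg ψ (TopCat.Presheaf.germ_res_apply F.presheaf
    (homOfLE (W.ι.image_preimage_le V)) ξ ⟨⟨ξ, hξW⟩, hξV, rfl⟩ f)

theorem germ_β {ξ : X} (hξW : ξ ∈ W) (V : X.Opens) (hξV : ξ ∈ V) (g : Γ(G, V)) :
    G.presheaf.germ (W.ι ''ᵁ W.ι ⁻¹ᵁ V) ξ ⟨⟨ξ, hξW⟩, hξV, rfl⟩ ((β G W).app V g) =
      G.presheaf.germ V ξ hξV g := by
  rw [β_app]
  exact TopCat.Presheaf.germ_res_apply G.presheaf (homOfLE (W.ι.image_preimage_le V)) ξ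
    ⟨⟨ξ, hξW⟩, hξV, rfl⟩ g

/-- The second projection of the graph is `ψ` composed with the first projection, on stalks. -/
theorem stalkMap_p₂ {ξ : X} (hξW : ξ ∈ W)
    (ψ : ↑(F.presheaf.stalk ξ) →ₗ[X.presheaf.stalk ξ] ↑(G.presheaf.stalk ξ))
    (hφ : ∀ a : ↑(F.presheaf.stalk ξ), (conjStalkMap W.ι φ (⟨ξ, hξW⟩ : W)).hom a = ψ a)
    (b : ↑((graph F G W φ).presheaf.stalk ξ)) :
    (stalkMap (p₂ F G W φ) ξ).hom b = ψ ((stalkMap (p₁ F G W φ) ξ).hom b) := by
  obtain ⟨V, hξV, h, rfl⟩ := TopCat.Presheaf.exists_germ_eq (graph F G W φ).presheaf b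
  rw [stalkMap_germ, stalkMap_germ, ← germ_β hξW V hξV, ← graph_cond, germ_α hξW ψ hφ V hξV]

/-- The two projections of the graph are jointly injective on stalks. -/
theorem graph_stalk_ext (z : X) (b : ↑((graph F G W φ).presheaf.stalk z))
    (hb : (stalkMap (p₁ F G W φ) z).hom b = 0) (hb2 : (stalkMap (p₂ F G W φ) z).hom b = 0) :
    b = 0 := by
  obtain ⟨V, hξV, h, rfl⟩ := TopCat.Presheaf.exists_germ_eq (graph F G W φ).presheaf b
  rw [stalkMap_germ] at hb hb2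
  obtain ⟨V₁, hξV₁, hV₁V, h1⟩ := exists_restrict_eq_zero_of_germ_eq_zero F hξV _ hb
  obtain ⟨V₂, hξV₂, hV₂V, h2⟩ := exists_restrict_eq_zero_of_germ_eq_zero G hξV _ hb2
  have hle : V₁ ⊓ V₂ ≤ V := inf_le_left.trans hV₁V
  have hξ12 : z ∈ V₁ ⊓ V₂ := ⟨hξV₁, hξV₂⟩
  rw [← TopCat.Presheaf.germ_res_apply (graph F G W φ).presheaf (homOfLE hle) z hξ12 h]
  have h0 : (graph F G W φ).presheaf.map (homOfLE hle).op h = 0 := by
    apply graph_section_ext
    · rw [app_map]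
      exact NowhereDense.map_eq_zero_of_le F inf_le_left hV₁V _ h1
    · rw [app_map]
      exact NowhereDense.map_eq_zero_of_le G inf_le_right hV₂V _ h2
  rw [h0, map_zero]

theorem stalkMap_p₁_injective {ξ : X} (hξW : ξ ∈ W)
    (ψ : ↑(F.presheaf.stalk ξ) →ₗ[X.presheaf.stalk ξ] ↑(G.presheaf.stalk ξ))
    (hφ : ∀ a : ↑(F.presheaf.stalk ξ), (conjStalkMap W.ι φ (⟨ξ, hξW⟩ : W)).hom a = ψ a) :
    Function.Injective (stalkMap (p₁ F G W φ) ξ).hom := by
  rw [injective_iff_map_eq_zero]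
  intro b hb
  have hb2 : (stalkMap (p₂ F G W φ) ξ).hom b = 0 := by
    rw [stalkMap_p₂ hξW ψ hφ, hb, map_zero]
  exact graph_stalk_ext ξ b hb hb2

theorem stalkMap_p₁_surjective {ξ : X} (hξW : ξ ∈ W) :
    Function.Surjective (stalkMap (p₁ F G W φ) ξ).hom := by
  intro a
  obtain ⟨V₀, hξV₀, f₀, rfl⟩ := TopCat.Presheaf.exists_germ_eq F.presheaf a
  -- shrink to `V ≤ W`
  set V : X.Opens := V₀ ⊓ W with hV
  have hξV : ξ ∈ V := ⟨hξV₀, hξW⟩
  set f : Γ(F, V) := F.presheaf.map (homOfLE (inf_le_left : V₀ ⊓ W ≤ V₀)).op f₀ with hf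
  have hVW : V ≤ W.ι ''ᵁ W.ι ⁻¹ᵁ V := by
    intro x hx
    exact ⟨⟨x, hx.2⟩, hx, rfl⟩
  let g : Γ(G, V) := G.presheaf.map (homOfLE hVW).op ((α F G W φ).app V f)
  have hfg : (α F G W φ).app V f = (β G W).app V g := by
    rw [β_app]
    change _ = G.presheaf.map (homOfLE (W.ι.image_preimage_le V)).op
      (G.presheaf.map (homOfLE hVW).op ((α F G W φ).app V f))
    rw [map_map]
    have : G.presheaf.map (homOfLE (W.ι.image_preimage_le V) ≫ homOfLE hVW).op = 𝟙 _ :=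
      G.presheaf.map_id _
    rw [this]
    rfl
  obtain ⟨h, hh1, -⟩ := exists_graph_section F G W φ V f g hfg
  refine ⟨(graph F G W φ).presheaf.germ V ξ hξV h, ?_⟩
  rw [stalkMap_germ, hh1, hf]
  exact TopCat.Presheaf.germ_res_apply F.presheaf (homOfLE (inf_le_left : V₀ ⊓ W ≤ V₀)) ξ hξV f₀

end Graph

section Coh

variable [IsLocallyNoetherian X]

theorem isCoh_kernel {A B : X.Modules} (f : A ⟶ B) (hA : Coh.IsCoh A) (hB : B.IsQuasicoherent) :
    Coh.IsCoh (kernel f) := by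
  haveI := hA.1
  haveI : (kernel f).IsQuasicoherent := isQuasicoherent_kernel f hA.1 hB
  exact ⟨inferInstance, isFiniteType_of_mono (kernel.ι f) hA.2⟩

omit [IsLocallyNoetherian X] in
theorem isCoh_cokernel {A B : X.Modules} (f : A ⟶ B) (hA : A.IsQuasicoherent)
    (hB : Coh.IsCoh B) : Coh.IsCoh (cokernel f) :=
  ⟨isQuasicoherent_cokernel f hA hB.1, isFiniteType_of_epi (cokernel.π f) hB.2⟩

omit [IsLocallyNoetherian X] in
theorem isCoh_biprod {F G : X.Modules} (hF : Coh.IsCoh F) (hG : Coh.IsCoh G) :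
    Coh.IsCoh (F ⊞ G) := by
  haveI := hF.1
  haveI := hG.1
  exact ⟨isQuasicoherent_biprod F G, isFiniteType_biprod F G hF.2 hG.2⟩

/-- **The graph trick.** -/
theorem exists_graph (F G : X.Modules) (hF : Coh.IsCoh F) (hG : Coh.IsCoh G) (ξ : X)
    (ψ : ↑(F.presheaf.stalk ξ) →ₗ[X.presheaf.stalk ξ] ↑(G.presheaf.stalk ξ)) :
    ∃ (H : X.Modules) (q₁ : H ⟶ F) (q₂ : H ⟶ G), Coh.IsCoh H ∧
      Function.Bijective (stalkMap q₁ ξ).hom ∧
      (∀ b, (stalkMap q₂ ξ).hom b = ψ ((stalkMap q₁ ξ).hom b)) ∧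
      (∀ (T : X.Modules) (a : T ⟶ H), a ≫ q₁ = 0 → a ≫ q₂ = 0 → a = 0) ∧
      (∀ (z : X) (b : ↑(H.presheaf.stalk z)), (stalkMap q₁ z).hom b = 0 →
        (stalkMap q₂ z).hom b = 0 → b = 0) := by
  haveI := hF.1
  haveI := hG.1
  obtain ⟨W, hξW, φ, hφ⟩ := exists_hom_restrict_of_stalk_linearMap F G hF.2 ξ ψ
  refine ⟨graph F G W φ, p₁ F G W φ, p₂ F G W φ, ?_,
    ⟨stalkMap_p₁_injective hξW ψ hφ, stalkMap_p₁_surjective hξW⟩, stalkMap_p₂ hξW ψ hφ,
    fun T a => graph_jointly_mono F G W φ a, fun z b => graph_stalk_ext z b⟩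
  haveI : (G.restrict W.ι).IsQuasicoherent := Scheme.Modules.isQuasicoherent_restrictFunctor _ _
  have hE : (tgt G W).IsQuasicoherent := isQuasicoherent_pushforward _ W.ι
  exact isCoh_kernel (Φ F G W φ) (isCoh_biprod hF hG) hE

end Coh

end Groth.Agent.Lib.Helper45.GraphTrick
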