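import Mathlib
import Groth.Agent.Lib.Helper45.Dev.GraphTrick
import Groth.Agent.Lib.Helper45.S1Alg
import Groth.Agent.Lib.Helper85.HS.FiniteLength
import Groth.Agent.Lib.Helper12.QuasiFlat

/-!
# The core of dévissage for coherent modules

Shared library of helper45 (namespace `Groth.Agent.Lib.Helper45.DevCore`).
-/

set_option autoImplicit false
set_option linter.style.haveILetI false
universe u
open CategoryTheory CategoryTheory.Limits AlgebraicGeometry TopologicalSpace

namespace Groth.Agent.Lib.Helper45.DevCore

open Groth.Agent.Lib.Helper45 Groth.Agent.Lib.Helper49 Groth.Agent.Lib.Helper45.GraphTrick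

section Algebra

/-- A nontrivial Noetherian module over a local ring surjects onto any simple module. -/
theorem exists_surjective_to_simple (R : Type*) [CommRing R] [IsLocalRing R] (M S : Type*)
    [AddCommGroup M] [Module R M] [AddCommGroup S] [Module R S] [Nontrivial M] [IsNoetherian R M]
    [IsSimpleModule R S] : ∃ ψ : M →ₗ[R] S, Function.Surjective ψ := by
  obtain ⟨N, hN, -⟩ := (eq_top_or_exists_le_coatom (⊥ : Submodule R M)).resolve_left bot_ne_top
  haveI : IsSimpleModule R (M ⧸ N) := isSimpleModule_iff_isCoatom.mpr hN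
  obtain ⟨I₁, hI₁, ⟨e₁⟩⟩ :=
    (isSimpleModule_iff_quot_maximal (R := R) (M := M ⧸ N)).mp inferInstance
  obtain ⟨I₂, hI₂, ⟨e₂⟩⟩ := (isSimpleModule_iff_quot_maximal (R := R) (M := S)).mp inferInstance
  have h1 : I₁ = IsLocalRing.maximalIdeal R := IsLocalRing.eq_maximalIdeal hI₁
  have h2 : I₂ = IsLocalRing.maximalIdeal R := IsLocalRing.eq_maximalIdeal hI₂
  subst h1
  subst h2
  refine ⟨(e₂.symm.toLinearMap.comp e₁.toLinearMap).comp N.mkQ, ?_⟩
  exact (e₂.symm.surjective.comp e₁.surjective).comp N.mkQ_surjective

end Algebra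

variable {X : Scheme.{u}}

section Support

attribute [local instance] stalkModuleSections

/-- If the prime of `x ∈ V` (affine) is in the support of `Γ(M, V)`, then `x` is in the support of
the quasi-coherent module `M`. -/
theorem mem_support_of_primeIdealOf_mem {V : X.Opens} (hV : IsAffineOpen V) (M : X.Modules)
    [M.IsQuasicoherent] (x : V)
    (h : hV.primeIdealOf x ∈ Module.support Γ(X, V) Γ(M, V)) : (x : X) ∈ CohB1.support M := by
  rw [Module.mem_support_iff] at h
  have := isLocalizedModule_germₗ hV M x
  have e := IsLocalizedModule.iso (hV.primeIdealOf x).asIdeal.primeCompl (germₗ M x)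
  exact not_subsingleton_iff_nontrivial.mpr e.symm.toEquiv.nontrivial

theorem support_subset_of_mono {A B : X.Modules} (f : A ⟶ B) [Mono f] :
    CohB1.support A ⊆ CohB1.support B := by
  intro z hz hB
  exact hz (stalkMap_injective_of_mono f z).subsingleton

/-- The stalk at `ξ` of a coherent module supported in the closure of `ξ` has finite length. -/
theorem isFiniteLength_stalk [IsLocallyNoetherian X] (M : X.Modules) (hM : Coh.IsCoh M) (ξ : X)
    (hsupp : CohB1.support M ⊆ closure {ξ}) :
    IsFiniteLength (X.presheaf.stalk ξ) (M.presheaf.stalk ξ) := by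
  haveI := hM.1
  obtain ⟨_, ⟨V, hV : IsAffineOpen V, rfl⟩, hξV, -⟩ :=
    X.isBasis_affineOpens.exists_subset_of_mem_open (Set.mem_univ ξ) isOpen_univ
  obtain ⟨x, rfl⟩ : ∃ x : V, (x : X) = ξ := ⟨⟨ξ, hξV⟩, rfl⟩
  haveI : IsNoetherianRing Γ(X, V) := IsLocallyNoetherian.component_noetherian ⟨V, hV⟩
  haveI : Module.Finite Γ(X, V) Γ(M, V) := finite_sections_of_isCoh hV M hM
  haveI := hV.isLocalization_stalk x
  haveI := isLocalizedModule_germₗ hV M x
  haveI : Module.Finite (X.presheaf.stalk (x : X)) (M.presheaf.stalk (x : X)) :=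
    Groth.Agent.Lib.Helper12.QuasiFlat.finite_stalk_of_isCoh M hM x
  haveI : IsNoetherianRing (X.presheaf.stalk (x : X)) :=
    IsLocalization.isNoetherianRing (hV.primeIdealOf x).asIdeal.primeCompl _ inferInstance
  apply Groth.Agent.Lib.Helper85.HS.isFiniteLength_of_supportDim_le_zero
  rcases withBot_enat_le_zero_or_one_le
    (Module.supportDim (X.presheaf.stalk (x : X)) (M.presheaf.stalk (x : X))) with h | h
  · exact h
  · exfalso
    obtain ⟨q, hq, hqp⟩ := (one_le_supportDim_iff (hV.primeIdealOf x).asIdeal
      (X.presheaf.stalk (x : X)) (germₗ M x)).mp h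
    obtain ⟨z, hz⟩ := exists_primeIdealOf_eq hV q
    have hzM : (z : X) ∈ CohB1.support M := mem_support_of_primeIdealOf_mem hV M z (hz ▸ hq)
    have hspec : (x : X) ⤳ (z : X) := specializes_iff_mem_closure.mpr (hsupp hzM)
    have hle : (hV.primeIdealOf x).asIdeal ≤ (hV.primeIdealOf z).asIdeal :=
      (primeIdealOf_le_iff hV z x).mpr hspec
    rw [hz] at hle
    exact absurd hqp (not_lt_of_ge hle)

end Support

section Core

open Groth.Agent.Lib.Helper45.CoprimarySheaf Groth.Agent.Lib.Helper45.NowhereDense

/-- **Core of dévissage.** Let `ξ` be a point of a locally Noetherian scheme and `P` an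
isomorphism-invariant property of modules such that: two-out-of-three holds for short exact
sequences of coherent modules supported in `closure {ξ}`; `P` holds for coherent modules supported
in `closure {ξ}` with zero stalk at `ξ`; and `P` holds for one coherent `G` supported in
`closure {ξ}` whose stalk at `ξ` is a simple module. Then `P` holds for all coherent modules
supported in `closure {ξ}`. -/
theorem devissage_core [IsLocallyNoetherian X] (P : X.Modules → Prop)
    (hiso : ∀ A B : X.Modules, Nonempty (A ≅ B) → P A → P B) (ξ : X)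
    (hex : ∀ S : ShortComplex X.Modules, S.ShortExact → Coh.IsCoh S.X₁ → Coh.IsCoh S.X₂ →
      Coh.IsCoh S.X₃ → CohB1.support S.X₂ ⊆ closure {ξ} →
      (P S.X₁ → P S.X₂ → P S.X₃) ∧ (P S.X₁ → P S.X₃ → P S.X₂) ∧ (P S.X₂ → P S.X₃ → P S.X₁))
    (hsmall : ∀ M : X.Modules, Coh.IsCoh M → CohB1.support M ⊆ closure {ξ} →
      Subsingleton ↑(M.presheaf.stalk ξ) → P M)
    (G : X.Modules) (hG : Coh.IsCoh G) (hGsupp : CohB1.support G ⊆ closure {ξ}) (hPG : P G)
    (hGsimple : IsSimpleModule (X.presheaf.stalk ξ) ↑(G.presheaf.stalk ξ))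
    (M : X.Modules) (hM : Coh.IsCoh M) (hMsupp : CohB1.support M ⊆ closure {ξ}) : P M := by
  have key : ∀ (n : ℕ) (M : X.Modules), Coh.IsCoh M → CohB1.support M ⊆ closure {ξ} →
      Module.length (X.presheaf.stalk ξ) ↑(M.presheaf.stalk ξ) ≤ n → P M := by
    intro n
    induction n with
    | zero =>
      intro M hM hsM hlen
      apply hsmall M hM hsM
      have h0 : Module.length (X.presheaf.stalk ξ) ↑(M.presheaf.stalk ξ) = 0 := by
        simpa using hlen
      exact Module.length_eq_zero_iff.mp h0
    | succ n ih =>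
      intro M hM hsM hlen
      by_cases hsub : Subsingleton ↑(M.presheaf.stalk ξ)
      · exact hsmall M hM hsM hsub
      · haveI hnt : Nontrivial ↑(M.presheaf.stalk ξ) := not_subsingleton_iff_nontrivial.mp hsub
        have hfl := isFiniteLength_stalk M hM ξ hsM
        obtain ⟨hNoeth, hArt⟩ := isFiniteLength_iff_isNoetherian_isArtinian.mp hfl
        obtain ⟨ψ, hψ⟩ := exists_surjective_to_simple (X.presheaf.stalk ξ)
          ↑(M.presheaf.stalk ξ) ↑(G.presheaf.stalk ξ)
        obtain ⟨H, q₁, q₂, hH, hbij, hq₂, -, hjs⟩ := exists_graph M G hM hG ξ ψ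
        haveI := hM.1
        haveI := hG.1
        haveI := hH.1
        -- support of `H`
        have hHsupp : CohB1.support H ⊆ closure {ξ} := by
          intro z hz
          by_contra hcon
          apply hz
          have hMz : Subsingleton ↑(M.presheaf.stalk z) := by
            by_contra h
            exact hcon (hsM h)
          have hGz : Subsingleton ↑(G.presheaf.stalk z) := by
            by_contra h
            exact hcon (hGsupp h)
          refine ⟨fun a b => ?_⟩
          have h0 : ∀ c : ↑(H.presheaf.stalk z), c = 0 := fun c =>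
            hjs z c (hMz.elim _ _) (hGz.elim _ _)
          rw [h0 a, h0 b]
        -- coherence of the auxiliary modules
        have hK₁ : Coh.IsCoh (kernel q₁) := isCoh_kernel q₁ hH hM.1
        have hK₂ : Coh.IsCoh (kernel q₂) := isCoh_kernel q₂ hH hG.1
        have hC₁ : Coh.IsCoh (cokernel q₁) := isCoh_cokernel q₁ hH.1 hM
        have hC₂ : Coh.IsCoh (cokernel q₂) := isCoh_cokernel q₂ hH.1 hG
        haveI := hK₁.1
        haveI := hK₂.1
        haveI := hC₁.1
        haveI := hC₂.1
        have hI₁ : Coh.IsCoh (kernel (cokernel.π q₁)) := isCoh_kernel _ hM hC₁.1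
        have hI₂ : Coh.IsCoh (kernel (cokernel.π q₂)) := isCoh_kernel _ hG hC₂.1
        have hCI₁ : Coh.IsCoh (cokernel (kernel.ι q₁)) := isCoh_cokernel _ hK₁.1 hH
        have hCI₂ : Coh.IsCoh (cokernel (kernel.ι q₂)) := isCoh_cokernel _ hK₂.1 hH
        -- supports
        have sK₁ : CohB1.support (kernel q₁) ⊆ closure {ξ} :=
          (support_subset_of_mono (kernel.ι q₁)).trans hHsupp
        have sK₂ : CohB1.support (kernel q₂) ⊆ closure {ξ} :=
          (support_subset_of_mono (kernel.ι q₂)).trans hHsupp
        have sC₁ : CohB1.support (cokernel q₁) ⊆ closure {ξ} :=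
          (support_subset_of_epi (cokernel.π q₁)).trans hsM
        have sC₂ : CohB1.support (cokernel q₂) ⊆ closure {ξ} :=
          (support_subset_of_epi (cokernel.π q₂)).trans hGsupp
        -- the stalk of `q₂` at `ξ` is surjective
        have hq₂surj : Function.Surjective (stalkMap q₂ ξ).hom := by
          intro g
          obtain ⟨m, rfl⟩ := hψ g
          obtain ⟨b, rfl⟩ := hbij.2 m
          exact ⟨b, hq₂ b⟩
        -- `P` for the small pieces
        have PK₁ : P (kernel q₁) :=
          hsmall _ hK₁ sK₁ ((subsingleton_stalk_kernel_iff q₁ ξ).mpr hbij.1)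
        have PC₁ : P (cokernel q₁) :=
          hsmall _ hC₁ sC₁ ((subsingleton_stalk_cokernel_iff q₁ ξ).mpr hbij.2)
        have PC₂ : P (cokernel q₂) :=
          hsmall _ hC₂ sC₂ ((subsingleton_stalk_cokernel_iff q₂ ξ).mpr hq₂surj)
        -- `P` for the kernel of `q₂` by induction
        have PK₂ : P (kernel q₂) := by
          apply ih _ hK₂ sK₂
          let L := stalkMapLinear (kernel.ι q₂ ≫ q₁) ξ
          have hLapp : ∀ b, L b = (stalkMap q₁ ξ).hom ((stalkMap (kernel.ι q₂) ξ).hom b) :=
            fun b => stalkMap_comp_apply' _ _ ξ b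
          have hLinj : Function.Injective L := by
            intro a b hab
            rw [hLapp, hLapp] at hab
            exact stalkMap_injective_of_mono (kernel.ι q₂) ξ (hbij.1 hab)
          have hLker : ∀ b, L b ∈ LinearMap.ker ψ := by
            intro b
            rw [LinearMap.mem_ker, hLapp, ← hq₂]
            exact stalkMap_eq_zero_of_comp_eq_zero _ _ (kernel.condition q₂) ξ b
          let L' : ↑((kernel q₂).presheaf.stalk ξ) →ₗ[X.presheaf.stalk ξ] LinearMap.ker ψ :=
            L.codRestrict _ hLker
          have hL'inj : Function.Injective L' := by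
            intro a b hab
            apply hLinj
            exact congrArg Subtype.val hab
          have h1 := Module.length_le_of_injective L' hL'inj
          have hne : LinearMap.ker ψ ≠ ⊤ := by
            intro htop
            have hzero : ∀ g : ↑(G.presheaf.stalk ξ), g = 0 := by
              intro g
              obtain ⟨m, rfl⟩ := hψ g
              exact LinearMap.mem_ker.mp (htop ▸ Submodule.mem_top)
            haveI : Nontrivial ↑(G.presheaf.stalk ξ) := IsSimpleModule.nontrivial (X.presheaf.stalk ξ) _
            obtain ⟨g, hg⟩ := exists_ne (0 : ↑(G.presheaf.stalk ξ))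
            exact hg (hzero g)
          have h2 := Submodule.length_lt hne
          have h3 : Module.length (X.presheaf.stalk ξ) ↑((kernel q₂).presheaf.stalk ξ) <
              (n : ℕ∞) + 1 := by
            refine lt_of_le_of_lt h1 (lt_of_lt_of_le h2 ?_)
            simpa using hlen
          exact (ENat.lt_add_one_iff (ENat.natCast_ne_top n)).mp h3
        -- chain of short exact sequences
        have PI₂ : P (kernel (cokernel.π q₂)) :=
          (hex _ (shortExact_kernel (cokernel.π q₂)) hI₂ hG hC₂ hGsupp).2.2 hPG PC₂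
        have PCI₂ : P (cokernel (kernel.ι q₂)) :=
          hiso _ _ ⟨(Abelian.coimageIsoImage q₂).symm⟩ PI₂
        have PH : P H :=
          (hex _ (shortExact_cokernel (kernel.ι q₂)) hK₂ hH hCI₂ hHsupp).2.1 PK₂ PCI₂
        have PCI₁ : P (cokernel (kernel.ι q₁)) :=
          (hex _ (shortExact_cokernel (kernel.ι q₁)) hK₁ hH hCI₁ hHsupp).1 PK₁ PH
        have PI₁ : P (kernel (cokernel.π q₁)) :=
          hiso _ _ ⟨Abelian.coimageIsoImage q₁⟩ PCI₁
        exact (hex _ (shortExact_kernel (cokernel.π q₁)) hI₁ hM hC₁ hsM).2.1 PI₁ PC₁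
  have hfl := isFiniteLength_stalk M hM ξ hMsupp
  obtain ⟨n, hn⟩ := ENat.ne_top_iff_exists.mp (Module.length_ne_top_iff.mpr hfl)
  exact key n M hM hMsupp hn.symm.le

end Core

end Groth.Agent.Lib.Helper45.DevCore
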