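import Mathlib
import Groth.Agent.Lib.Helper45.Dev.GraphTrick
import Groth.Agent.Lib.Helper67.DevGlobal

/-!
# Support of the direct image of a nonzero ideal of an integral closed subscheme

Shared library of helper45 (namespace `Groth.Agent.Lib.Helper45.IdealSupport`).
-/

set_option autoImplicit false
set_option linter.style.haveILetI false
universe u
open CategoryTheory CategoryTheory.Limits AlgebraicGeometry TopologicalSpace

namespace Groth.Agent.Lib.Helper45.IdealSupport

open Groth.Agent.Lib.Helper45 Groth.Agent.Lib.Helper49 Groth.Agent.Lib.Helper45.GraphTrick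

variable {Z : Scheme.{u}}

/-- Restriction of sections of the structure module is restriction of functions. -/
theorem structureModule_map {V W : Z.Opens} (i : V ⟶ W) (s : Γ(Coh.structureModule Z, W)) :
    (Coh.structureModule Z).presheaf.map i.op s = Z.presheaf.map i.op (show Γ(Z, W) from s) :=
  rfl

/-- On an integral scheme, a section of the structure module vanishing on a nonempty open is
zero. -/
theorem structureModule_eq_zero_of_map_eq_zero [IsIntegral Z] {V W : Z.Opens} (i : V ⟶ W)
    (hV : (V : Set Z).Nonempty) (s : Γ(Coh.structureModule Z, W))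
    (h : (Coh.structureModule Z).presheaf.map i.op s = 0) : s = 0 := by
  haveI : Nonempty V := hV.to_subtype
  have hinj := map_injective_of_isIntegral Z i
  have h2 : Z.presheaf.map i.op (show Γ(Z, W) from s) = Z.presheaf.map i.op 0 := by
    rw [map_zero]
    exact h
  exact hinj h2

section

attribute [local instance] stalkModuleSections

/-- A nonzero quasi-coherent ideal of an integral scheme has nonzero sections on every affine
open neighbourhood of every point. -/
theorem exists_section_ne_zero [IsIntegral Z] (I : Z.Modules) [I.IsQuasicoherent]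
    (ι : I ⟶ Coh.structureModule Z) [Mono ι] (hI : ¬ IsZero I) (z : Z) :
    ∃ (W : Z.Opens) (_ : z ∈ W) (t : Γ(I, W)), ι.app W t ≠ 0 := by
  -- a nonzero section on some affine open
  obtain ⟨z₀, hz₀⟩ : ∃ z₀ : Z, ¬ Subsingleton ↑(I.presheaf.stalk z₀) := by
    by_contra hcon
    push Not at hcon
    exact hI ((isZero_iff_stalk_subsingleton I).mpr hcon)
  obtain ⟨_, ⟨W₀, hW₀ : IsAffineOpen W₀, rfl⟩, hz₀W, -⟩ :=
    Z.isBasis_affineOpens.exists_subset_of_mem_open (Set.mem_univ z₀) isOpen_univ
  have hnt₀ : ¬ Subsingleton Γ(I, W₀) := by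
    intro hsub
    apply hz₀
    obtain ⟨x, rfl⟩ : ∃ x : W₀, (x : Z) = z₀ := ⟨⟨z₀, hz₀W⟩, rfl⟩
    have := isLocalizedModule_germₗ hW₀ I x
    have e := IsLocalizedModule.iso (hW₀.primeIdealOf x).asIdeal.primeCompl (germₗ I x)
    exact e.symm.toEquiv.subsingleton
  obtain ⟨t₀, ht₀⟩ : ∃ t₀ : Γ(I, W₀), t₀ ≠ 0 := by
    by_contra hcon
    push Not at hcon
    exact hnt₀ ⟨fun a b => (hcon a).trans (hcon b).symm⟩
  have hιt₀ : ι.app W₀ t₀ ≠ 0 := by
    intro h
    apply ht₀
    apply app_injective_of_mono ι W₀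
    rw [h, map_zero]
  -- an affine open neighbourhood of `z`
  obtain ⟨_, ⟨W, hW : IsAffineOpen W, rfl⟩, hzW, -⟩ :=
    Z.isBasis_affineOpens.exists_subset_of_mem_open (Set.mem_univ z) isOpen_univ
  -- a point in the intersection
  obtain ⟨y, hyW, hyW₀⟩ : ∃ y : Z, y ∈ W ∧ y ∈ W₀ := by
    have := nonempty_preirreducible_inter (X := Z) W.2 W₀.2 ⟨z, hzW⟩ ⟨z₀, hz₀W⟩
    obtain ⟨y, hy1, hy2⟩ := this
    exact ⟨y, hy1, hy2⟩
  -- the stalk at `y` is nonzero
  have hy : ¬ Subsingleton ↑(I.presheaf.stalk y) := by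
    intro hsub
    have hg : I.presheaf.germ W₀ y hyW₀ t₀ = 0 := hsub.elim _ _
    obtain ⟨V', hyV', hV', hres⟩ := exists_restrict_eq_zero_of_germ_eq_zero I hyW₀ t₀ hg
    apply hιt₀
    apply structureModule_eq_zero_of_map_eq_zero (homOfLE hV') ⟨y, hyV'⟩
    rw [← app_map, hres, map_zero]
  have hnt : ¬ Subsingleton Γ(I, W) := by
    intro hsub
    apply hy
    obtain ⟨x, rfl⟩ : ∃ x : W, (x : Z) = y := ⟨⟨y, hyW⟩, rfl⟩
    have := isLocalizedModule_germₗ hW I x
    have e := IsLocalizedModule.iso (hW.primeIdealOf x).asIdeal.primeCompl (germₗ I x)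
    exact e.symm.toEquiv.subsingleton
  obtain ⟨t, ht⟩ : ∃ t : Γ(I, W), t ≠ 0 := by
    by_contra hcon
    push Not at hcon
    exact hnt ⟨fun a b => (hcon a).trans (hcon b).symm⟩
  refine ⟨W, hzW, t, ?_⟩
  intro h
  apply ht
  apply app_injective_of_mono ι W
  rw [h, map_zero]

end

/-- The direct image of a nonzero quasi-coherent ideal of an integral closed subscheme is supported
on the whole closed subscheme. -/
theorem range_subset_support_push {X : Scheme.{u}} (i : Z ⟶ X) [IsClosedImmersion i] [IsIntegral Z]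
    (I : Z.Modules) [I.IsQuasicoherent] (ι : I ⟶ Coh.structureModule Z) [Mono ι]
    (hI : ¬ IsZero I) : Set.range ⇑i ⊆ CohB1.support ((Coh.push i).obj I) := by
  rintro _ ⟨z, rfl⟩ hsub
  obtain ⟨W, hzW, t, ht⟩ := exists_section_ne_zero I ι hI z
  obtain ⟨U, rfl⟩ := Groth.Agent.Lib.Helper67.Devissage.exists_preimage_eq i W
  have hzU : i z ∈ U := hzW
  let t' : Γ((Coh.push i).obj I, U) := t
  have hg : ((Coh.push i).obj I).presheaf.germ U (i z) hzU t' = 0 := hsub.elim _ _
  obtain ⟨U', hzU', hU', hres⟩ :=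
    exists_restrict_eq_zero_of_germ_eq_zero ((Coh.push i).obj I) hzU t' hg
  apply ht
  have hle : i ⁻¹ᵁ U' ≤ i ⁻¹ᵁ U := fun a ha => hU' ha
  apply structureModule_eq_zero_of_map_eq_zero (homOfLE hle) ⟨z, hzU'⟩
  rw [← app_map]
  have : I.presheaf.map (homOfLE hle).op t = 0 := hres
  rw [this, map_zero]

end Groth.Agent.Lib.Helper45.IdealSupport
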