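import Mathlib
import Groth.Agent.Lib.Helper11.ProjFormulaDerived
import Groth.Agent.Lib.Helper11.PullbackTensor
import Groth.Agent.Lib.Helper11.GlobalGen
import Groth.Agent.Lib.Helper11.TensorBasis
import Groth.Agent.Lib.Helper17.HHIso
import Groth.Agent.Lib.Helper1.HHTools
import Groth.Agent.S0012

/-!
# The Serre vanishing property `H^p(X, F ⊗ L^n) = 0` for `n ≫ 0`, `p > 0`

Shared library of helper45 (namespace `Groth.Agent.Lib.Helper45.SerreVanish`).

* `SerreVanish L F`: there is `n₀` with `H^p(X, F ⊗ L^{⊗ n}) = 0` for all `n ≥ n₀`, `p > 0`.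
* closure properties for `L` invertible: retracts, isomorphisms, zero modules, extensions.
* `serreVanish_push`: for `f` affine and `E` quasi-coherent on the source,
  `SerreVanish (f^* L) E → SerreVanish L (f_* E)` (projection formula + cohomology along affine
  morphisms).
-/

set_option autoImplicit false
set_option linter.style.haveILetI false
set_option linter.dupNamespace false
universe u
open CategoryTheory CategoryTheory.Limits AlgebraicGeometry TopologicalSpace

namespace Groth.Agent.Lib.Helper45.SerreVanish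

open Groth.Agent.Lib.Helper11.FinFreeAdj Groth.Agent.Lib.Helper11.TensorMap
  Groth.Agent.Lib.Helper11.TensorFormulas Groth.Agent.Lib.Helper11.GenLocus
  Groth.Agent.Lib.Helper17.HHIso

variable {X : Scheme.{u}}

/-- Invertible modules are finite locally free. -/
theorem isFinLocFree_of_isInvertible {L : X.Modules} (hL : PicF.IsInvertible L) :
    FlatMod.IsFinLocFree L := by
  intro x
  obtain ⟨U, hxU, ⟨e⟩⟩ := hL x
  exact ⟨U, 1, hxU,
    ⟨e ≪≫ (coproductUniqueIso (fun _ : Fin 1 => Coh.structureModule (↑U : Scheme.{u}))).symm⟩⟩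

theorem additive_tensR_of_isFinLocFree {N : X.Modules} (hN : FlatMod.IsFinLocFree N) :
    (tensR N).Additive := by
  let D := dualPairOfFinLocFree hN
  haveI : PreservesLimitsOfSize.{0, 0} (tensR N) := D.adj.rightAdjoint_preservesLimits
  haveI : (tensR N).IsRightAdjoint := D.adj.isRightAdjoint
  exact Functor.additive_of_preserves_binary_products _

/-- Tensoring with a finite locally free module is exact: the cohomological consequence. -/
theorem subsingleton_HH_tensR_of_shortExact {N : X.Modules} (hN : FlatMod.IsFinLocFree N)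
    {S : ShortComplex X.Modules} (hS : S.ShortExact) (p : ℕ)
    (h1 : Subsingleton (Coh.HH X (CohB1.tensorMod S.X₁ N) p))
    (h3 : Subsingleton (Coh.HH X (CohB1.tensorMod S.X₃ N) p)) :
    Subsingleton (Coh.HH X (CohB1.tensorMod S.X₂ N) p) := by
  let D := dualPairOfFinLocFree hN
  haveI : PreservesLimitsOfSize.{0, 0} (tensR N) := D.adj.rightAdjoint_preservesLimits
  haveI : PreservesColimitsOfSize.{0, 0} (tensR N) := D.symm.adj.leftAdjoint_preservesColimits
  haveI : PreservesFiniteLimits (tensR N) := inferInstance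
  haveI : PreservesFiniteColimits (tensR N) := inferInstance
  haveI : (tensR N).Additive := additive_tensR_of_isFinLocFree hN
  have hSN : (S.map (tensR N)).ShortExact := hS.map_of_exact (tensR N)
  exact Groth.Agent.Lib.Helper1.subsingleton_HH_of_shortExact hSN p h1 h3

theorem isZero_tensR {N : X.Modules} (hN : FlatMod.IsFinLocFree N) {A : X.Modules}
    (hA : IsZero A) : IsZero (CohB1.tensorMod A N) := by
  haveI : (tensR N).Additive := additive_tensR_of_isFinLocFree hN
  exact (tensR N).map_isZero hA

/-- Cohomology of a retract. -/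
theorem subsingleton_HH_of_retract {A B : X.Modules} (ι : A ⟶ B) (π : B ⟶ A)
    (h : ι ≫ π = 𝟙 A) (p : ℕ) (hB : Subsingleton (Coh.HH X B p)) :
    Subsingleton (Coh.HH X A p) := by
  refine ⟨fun x y => ?_⟩
  have key : ∀ z : Coh.HH X A p, z = hhMap π p (hhMap ι p z) := by
    intro z
    rw [← hhMap_comp, h, hhMap_id]
  rw [key x, key y, hB.elim (hhMap ι p x) (hhMap ι p y)]

/-- The Serre vanishing property of `F` with respect to `L`. -/
def SerreVanish (L F : X.Modules) : Prop :=
  ∃ n₀ : ℕ, ∀ n : ℕ, n₀ ≤ n → ∀ p : ℕ, 0 < p →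
    Subsingleton (Coh.HH X (CohB1.tensorMod F (CohB1.tensorPow L n)) p)

variable (L : X.Modules)

theorem serreVanish_of_retract {A B : X.Modules} (ι : A ⟶ B) (π : B ⟶ A) (h : ι ≫ π = 𝟙 A)
    (hB : SerreVanish L B) : SerreVanish L A := by
  obtain ⟨n₀, hn₀⟩ := hB
  refine ⟨n₀, fun n hn p hp => ?_⟩
  refine subsingleton_HH_of_retract ((tensR (CohB1.tensorPow L n)).map ι)
    ((tensR (CohB1.tensorPow L n)).map π) ?_ p (hn₀ n hn p hp)
  rw [← Functor.map_comp, h]
  exact (tensR (CohB1.tensorPow L n)).map_id A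

theorem serreVanish_of_iso {A B : X.Modules} (e : A ≅ B) (hA : SerreVanish L A) :
    SerreVanish L B :=
  serreVanish_of_retract L e.inv e.hom e.inv_hom_id hA

variable {L}

theorem serreVanish_of_isZero (hL : PicF.IsInvertible L) {A : X.Modules} (hA : IsZero A) :
    SerreVanish L A := by
  refine ⟨0, fun n _ p _ => ?_⟩
  exact Groth.Agent.Lib.Helper1.subsingleton_HH_of_isZero
    (isZero_tensR (isFinLocFree_of_isInvertible
      (isInvertible_tensorPow hL n)) hA) p

theorem serreVanish_of_shortExact (hL : PicF.IsInvertible L) {S : ShortComplex X.Modules}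
    (hS : S.ShortExact) (h1 : SerreVanish L S.X₁) (h3 : SerreVanish L S.X₃) :
    SerreVanish L S.X₂ := by
  obtain ⟨n₁, hn₁⟩ := h1
  obtain ⟨n₃, hn₃⟩ := h3
  refine ⟨max n₁ n₃, fun n hn p hp => ?_⟩
  exact subsingleton_HH_tensR_of_shortExact (isFinLocFree_of_isInvertible
    (isInvertible_tensorPow hL n)) hS p
    (hn₁ n (le_trans (le_max_left _ _) hn) p hp) (hn₃ n (le_trans (le_max_right _ _) hn) p hp)

/-- Serre vanishing passes to direct images along affine morphisms. -/
theorem serreVanish_push {Y : Scheme.{u}} (f : Y ⟶ X) [IsAffineHom f] (E : Y.Modules)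
    [E.IsQuasicoherent] (hL : PicF.IsInvertible L)
    (h : SerreVanish ((Scheme.Modules.pullback f).obj L) E) :
    SerreVanish L ((Scheme.Modules.pushforward f).obj E) := by
  obtain ⟨n₀, hn₀⟩ := h
  refine ⟨n₀, fun n hn p hp => ?_⟩
  have hNinv : PicF.IsInvertible (CohB1.tensorPow L n) := isInvertible_tensorPow hL n
  have hN : FlatMod.IsFinLocFree (CohB1.tensorPow L n) := isFinLocFree_of_isInvertible hNinv
  haveI := Groth.Agent.Lib.Helper11.ProjFormulaDerived.isIso_theta f (CohB1.tensorPow L n) E hN
  let e₁ := asIso (Groth.Agent.Lib.Helper11.ProjFormulaDerived.theta f (CohB1.tensorPow L n) E)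
  let e₂ : CohB1.tensorMod E ((Scheme.Modules.pullback f).obj (CohB1.tensorPow L n)) ≅
      CohB1.tensorMod E (CohB1.tensorPow ((Scheme.Modules.pullback f).obj L) n) :=
    tensorModCongr (Iso.refl E) (Groth.Agent.Lib.Helper11.PullbackTensor.pullbackTensorPowIso f hL n)
  haveI hq : (CohB1.tensorMod E
      ((Scheme.Modules.pullback f).obj (CohB1.tensorPow L n))).IsQuasicoherent :=
    isQuasicoherent_tensorMod_of_isInvertible E _
      (Groth.Agent.Lib.Helper11.PullbackTensor.isInvertible_pullback f hNinv)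
  obtain ⟨ε⟩ := Groth.Agent.S0012.result f
    (CohB1.tensorMod E ((Scheme.Modules.pullback f).obj (CohB1.tensorPow L n))) p
  haveI h1 : Subsingleton (Coh.HH Y
      (CohB1.tensorMod E (CohB1.tensorPow ((Scheme.Modules.pullback f).obj L) n)) p) :=
    hn₀ n hn p hp
  haveI h2 : Subsingleton (Coh.HH Y
      (CohB1.tensorMod E ((Scheme.Modules.pullback f).obj (CohB1.tensorPow L n))) p) :=
    subsingleton_of_iso e₂.symm p
  haveI h3 : Subsingleton (Coh.HH X ((Coh.push f).obj
      (CohB1.tensorMod E ((Scheme.Modules.pullback f).obj (CohB1.tensorPow L n)))) p) :=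
    ε.symm.toEquiv.subsingleton
  exact subsingleton_of_iso e₁.symm p

end Groth.Agent.Lib.Helper45.SerreVanish
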