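import Mathlib
import Groth.Agent.Lib.Helper45.Dev.DevCore
import Groth.Agent.S2541

/-!
# Dévissage for coherent modules on Noetherian schemes

Shared library of helper45 (namespace `Groth.Agent.Lib.Helper45.DevNoeth`).
-/

set_option autoImplicit false
set_option linter.style.haveILetI false
universe u
open CategoryTheory CategoryTheory.Limits AlgebraicGeometry TopologicalSpace

namespace Groth.Agent.Lib.Helper45.DevNoeth

open Groth.Agent.Lib.Helper45 Groth.Agent.Lib.Helper49 Groth.Agent.Lib.Helper45.GraphTrick
  Groth.Agent.Lib.Helper45.DevCore Groth.Agent.Lib.Helper45.CoprimarySheaf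
  Groth.Agent.Lib.Helper45.NowhereDense

variable {X : Scheme.{u}}

/-- The support of a coherent module with a single associated point `x` is contained in the
closure of `x`. -/
theorem support_subset_closure_of_ass_eq [IsLocallyNoetherian X] (Q : X.Modules)
    (hQ : Coh.IsCoh Q) (x : X) (hA : AssSch.Ass Q = {x}) : CohB1.support Q ⊆ closure {x} := by
  intro z hz
  obtain ⟨y, hy, -, hyz⟩ := exists_minimal_ass_specializes Q hQ hz
  have : y ∈ AssSch.Ass Q := hy
  rw [hA] at this
  rw [Set.mem_singleton_iff] at this
  subst this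
  exact specializes_iff_mem_closure.mp hyz

theorem support_subset_of_isZero (Q : X.Modules) (hQ : IsZero Q) (T : Set X) :
    CohB1.support Q ⊆ T := by
  intro z hz
  exact absurd ((isZero_iff_stalk_subsingleton Q).mp hQ z) hz

/-- Extension-closure along a finite filtration by coherent subobjects. -/
theorem of_filtration [IsLocallyNoetherian X] (P : X.Modules → Prop)
    (hiso : ∀ A B : X.Modules, Nonempty (A ≅ B) → P A → P B)
    (h0 : ∀ A : X.Modules, IsZero A → P A) (M : X.Modules)
    (hext : ∀ S : ShortComplex X.Modules, S.ShortExact → Coh.IsCoh S.X₁ → Coh.IsCoh S.X₂ →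
      Coh.IsCoh S.X₃ → CohB1.support S.X₂ ⊆ CohB1.support M → P S.X₁ → P S.X₃ → P S.X₂)
    (n : ℕ) (F : Fin (n + 1) → Subobject M) (hF : Antitone F) (htop : F 0 = ⊤)
    (hbot : F (Fin.last n) = ⊥) (hcoh : ∀ j, Coh.IsCoh ((F j : Subobject M) : X.Modules))
    (hQ : ∀ i : Fin n, P (cokernel (Subobject.ofLE (F i.succ) (F i.castSucc)
      (hF (Fin.castSucc_lt_succ (i := i)).le)))) : P M := by
  have key : ∀ j : Fin (n + 1), P ((F j : Subobject M) : X.Modules) := by
    intro j
    induction j using Fin.reverseInduction with
    | last =>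
      apply h0
      rw [hbot]
      exact (isZero_zero _).of_iso Subobject.botCoeIsoZero
    | cast i ih =>
      have hle : F i.succ ≤ F i.castSucc := hF (Fin.castSucc_lt_succ (i := i)).le
      haveI := (hcoh i.succ).1
      have hC : Coh.IsCoh (cokernel (Subobject.ofLE (F i.succ) (F i.castSucc) hle)) :=
        isCoh_cokernel _ (hcoh i.succ).1 (hcoh i.castSucc)
      exact hext _ (shortExact_cokernel (Subobject.ofLE (F i.succ) (F i.castSucc) hle))
        (hcoh i.succ) (hcoh i.castSucc) hC (support_subset_of_mono (F i.castSucc).arrow) ih (hQ i)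
  have h1 := key 0
  rw [htop] at h1
  haveI : IsIso (⊤ : Subobject M).arrow := inferInstance
  exact hiso _ _ ⟨asIso (⊤ : Subobject M).arrow⟩ h1

/-- If `P` is extension-closed (for coherent modules supported in `Supp M`), holds for zero modules,
and holds for every coherent module supported in `Supp M ∩ closure {x}` for `x` an associated
point of `M`, then `P M`. -/
theorem of_coprimary_pieces [IsNoetherian X] (P : X.Modules → Prop)
    (hiso : ∀ A B : X.Modules, Nonempty (A ≅ B) → P A → P B)
    (h0 : ∀ A : X.Modules, IsZero A → P A) (M : X.Modules) (hM : Coh.IsCoh M)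
    (hext : ∀ S : ShortComplex X.Modules, S.ShortExact → Coh.IsCoh S.X₁ → Coh.IsCoh S.X₂ →
      Coh.IsCoh S.X₃ → CohB1.support S.X₂ ⊆ CohB1.support M → P S.X₁ → P S.X₃ → P S.X₂)
    (hpieces : ∀ x ∈ CohB1.support M, ∀ N : X.Modules, Coh.IsCoh N →
      CohB1.support N ⊆ CohB1.support M → CohB1.support N ⊆ closure {x} → P N) : P M := by
  obtain ⟨n, F, hF, htop, hbot, hcoh, hq⟩ := Groth.Agent.S2541.result M hM
  refine of_filtration P hiso h0 M hext n F hF htop hbot hcoh ?_
  intro i
  have hle : F i.succ ≤ F i.castSucc := hF (Fin.castSucc_lt_succ (i := i)).le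
  haveI := (hcoh i.succ).1
  have hC : Coh.IsCoh (cokernel (Subobject.ofLE (F i.succ) (F i.castSucc) hle)) :=
    isCoh_cokernel _ (hcoh i.succ).1 (hcoh i.castSucc)
  rcases hq i with hz | ⟨x, hx, hA⟩
  · exact h0 _ hz
  · refine hpieces x (mem_support_of_isAssPoint M hx) _ hC ?_
      (support_subset_closure_of_ass_eq _ hC x hA)
    exact (support_subset_of_epi (cokernel.π _)).trans
      (support_subset_of_mono (F i.castSucc).arrow)

/-- **Dévissage.** Let `T` be a closed subset of a Noetherian scheme and `P` an
isomorphism-invariant property of modules which holds for zero modules, satisfies two-out-of-three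
for short exact sequences of coherent modules supported in `T`, and such that for every `x ∈ T`
there is a coherent `G` supported in `closure {x}` with `P G` whose stalk at `x` is simple. Then
`P` holds for all coherent modules supported in `T`. -/
theorem devissage [IsNoetherian X] (P : X.Modules → Prop)
    (hiso : ∀ A B : X.Modules, Nonempty (A ≅ B) → P A → P B)
    (h0 : ∀ A : X.Modules, IsZero A → P A) (T : Set X) (hT : IsClosed T)
    (hex : ∀ S : ShortComplex X.Modules, S.ShortExact → Coh.IsCoh S.X₁ → Coh.IsCoh S.X₂ →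
      Coh.IsCoh S.X₃ → CohB1.support S.X₂ ⊆ T →
      (P S.X₁ → P S.X₂ → P S.X₃) ∧ (P S.X₁ → P S.X₃ → P S.X₂) ∧ (P S.X₂ → P S.X₃ → P S.X₁))
    (hgen : ∀ x ∈ T, ∃ G : X.Modules, Coh.IsCoh G ∧ CohB1.support G ⊆ closure {x} ∧ P G ∧
      IsSimpleModule (X.presheaf.stalk x) ↑(G.presheaf.stalk x))
    (M : X.Modules) (hM : Coh.IsCoh M) (hMT : CohB1.support M ⊆ T) : P M := by
  -- the claim for modules supported in the closure of a point
  have claim : ∀ (Y : Closeds X) (x : X), x ∈ T → closure {x} = (Y : Set X) →
      ∀ N : X.Modules, Coh.IsCoh N → CohB1.support N ⊆ closure {x} → P N := by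
    intro Y
    induction Y using WellFoundedLT.induction with
    | ind Y ih =>
      intro x hxT hxY N hN hNx
      have hclT : closure {x} ⊆ T := hT.closure_subset_iff.mpr (Set.singleton_subset_iff.mpr hxT)
      obtain ⟨G, hG, hGx, hPG, hGs⟩ := hgen x hxT
      refine devissage_core P hiso x ?_ ?_ G hG hGx hPG hGs N hN hNx
      · intro S hS h1 h2 h3 h4
        exact hex S hS h1 h2 h3 (h4.trans hclT)
      · intro N' hN' hN'x hsub
        haveI := hN'.1
        have hclosed : IsClosed (CohB1.support N') :=
          Groth.Agent.Lib.Helper1.isClosed_support_of_isFiniteType N' hN'.2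
        refine of_coprimary_pieces P hiso h0 N' hN' ?_ ?_
        · intro S hS h1 h2 h3 h4 hP1 hP3
          exact (hex S hS h1 h2 h3 ((h4.trans hN'x).trans hclT)).2.1 hP1 hP3
        · intro x' hx' N'' hN'' hs1 hs2
          have hx'cl : closure {x'} ⊆ CohB1.support N' :=
            hclosed.closure_subset_iff.mpr (Set.singleton_subset_iff.mpr hx')
          have hx'T : x' ∈ T := hclT (hN'x hx')
          have hlt : (⟨closure {x'}, isClosed_closure⟩ : Closeds X) < Y := by
            refine lt_of_le_of_ne ?_ ?_
            · intro z hz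
              rw [← SetLike.mem_coe, ← hxY]
              exact hN'x (hx'cl hz)
            · intro heq
              have h5 : closure {x'} = closure {x} := by
                rw [hxY, ← heq]
                rfl
              have h6 : x ∈ closure {x'} := h5 ▸ subset_closure (Set.mem_singleton x)
              exact hx'cl h6 hsub
          exact ih _ hlt x' hx'T rfl N'' hN'' hs2
  refine of_coprimary_pieces P hiso h0 M hM ?_ ?_
  · intro S hS h1 h2 h3 h4 hP1 hP3
    exact (hex S hS h1 h2 h3 (h4.trans hMT)).2.1 hP1 hP3
  · intro x hx N hN _ hs2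
    exact claim ⟨closure {x}, isClosed_closure⟩ x (hMT hx) rfl N hN hs2

end Groth.Agent.Lib.Helper45.DevNoeth
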