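import Mathlib
import Groth.Agent.Lib.Helper45.Dev.DevNoeth
import Groth.Agent.S2520
import Groth.Agent.S1704
import Groth.Agent.S1576

/-!
# Dévissage with roots of finite powers

Shared library of helper45 (namespace `Groth.Agent.Lib.Helper45.DevRoots`).

* `stalkBiproductEquiv`: the stalk of a finite biproduct.
* `exists_simple_quotient`, `exists_pure_sub`.
* `devissage_core_pure`, `devissage_core_roots`, `noeth_induction`, `devissage_roots`.
* `stalk_killed_of_killedByIdeal`.
-/

set_option autoImplicit false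
set_option linter.style.haveILetI false
universe u
open CategoryTheory CategoryTheory.Limits AlgebraicGeometry TopologicalSpace

namespace Groth.Agent.Lib.Helper45.DevRoots

open Groth.Agent.Lib.Helper45 Groth.Agent.Lib.Helper49 Groth.Agent.Lib.Helper45.GraphTrick
  Groth.Agent.Lib.Helper45.DevCore Groth.Agent.Lib.Helper45.CoprimarySheaf
  Groth.Agent.Lib.Helper45.NowhereDense Groth.Agent.Lib.Helper45.DevNoeth

section Algebra

variable (R : Type*) [CommRing R] [IsLocalRing R]

/-- Any two simple modules over a local ring are isomorphic. -/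
theorem nonempty_linearEquiv_of_simple (S S' : Type*) [AddCommGroup S] [Module R S]
    [AddCommGroup S'] [Module R S'] [IsSimpleModule R S] [IsSimpleModule R S'] :
    Nonempty (S ≃ₗ[R] S') := by
  obtain ⟨I₁, hI₁, ⟨e₁⟩⟩ := (isSimpleModule_iff_quot_maximal (R := R) (M := S)).mp inferInstance
  obtain ⟨I₂, hI₂, ⟨e₂⟩⟩ := (isSimpleModule_iff_quot_maximal (R := R) (M := S')).mp inferInstance
  have h1 : I₁ = IsLocalRing.maximalIdeal R := IsLocalRing.eq_maximalIdeal hI₁
  have h2 : I₂ = IsLocalRing.maximalIdeal R := IsLocalRing.eq_maximalIdeal hI₂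
  subst h1
  subst h2
  exact ⟨e₁.trans e₂.symm⟩

/-- A module over a local ring killed by the maximal ideal is semisimple. -/
theorem isSemisimpleModule_of_killed (V : Type*) [AddCommGroup V] [Module R V]
    (hkill : ∀ a ∈ IsLocalRing.maximalIdeal R, ∀ v : V, a • v = 0) : IsSemisimpleModule R V := by
  have hM : Module.IsTorsionBySet R V (IsLocalRing.maximalIdeal R : Set R) := by
    intro v a
    exact hkill a.1 a.2 v
  rw [← hM.isSemisimpleModule_iff]
  letI : Field (R ⧸ IsLocalRing.maximalIdeal R) := Ideal.Quotient.field _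
  infer_instance

/-- A nontrivial finite semisimple module over a local ring is a finite power of any given simple
module. -/
theorem exists_linearEquiv_fun_simple (V S : Type u) [AddCommGroup V] [Module R V]
    [AddCommGroup S] [Module R S] [IsSemisimpleModule R V] [Module.Finite R V] [Nontrivial V]
    [IsSimpleModule R S] : ∃ n : ℕ, 1 ≤ n ∧ Nonempty (V ≃ₗ[R] (Fin n → S)) := by
  have h : IsIsotypicOfType R V S := fun m _ => nonempty_linearEquiv_of_simple R m S
  obtain ⟨n, ⟨e⟩⟩ := h.linearEquiv_fun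
  refine ⟨n, ?_, ⟨e⟩⟩
  by_contra hn
  have hn0 : n = 0 := by omega
  subst hn0
  exact not_subsingleton V e.toEquiv.subsingleton

omit [IsLocalRing R] in
/-- In a nontrivial Noetherian semisimple module there is an endomorphism whose range is a
coatom. -/
theorem exists_endo_range_coatom (V : Type*) [AddCommGroup V] [Module R V]
    [IsSemisimpleModule R V] [IsNoetherian R V] [Nontrivial V] :
    ∃ π : V →ₗ[R] V, IsCoatom (LinearMap.range π) := by
  obtain ⟨N, hN, -⟩ := (eq_top_or_exists_le_coatom (⊥ : Submodule R V)).resolve_left bot_ne_top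
  obtain ⟨C, hC⟩ := exists_isCompl N
  refine ⟨N.subtype.comp (Submodule.projectionOnto N C hC), ?_⟩
  rw [LinearMap.range_comp, Submodule.range_projectionOnto hC, Submodule.map_top,
    Submodule.range_subtype]
  exact hN

end Algebra

variable {X : Scheme.{u}}

section StalkAdd

theorem stalkMap_add {M N : X.Modules} (f g : M ⟶ N) (x : X) (a : ↑(M.presheaf.stalk x)) :
    (stalkMap (f + g) x).hom a = (stalkMap f x).hom a + (stalkMap g x).hom a := by
  obtain ⟨V, hxV, a', rfl⟩ := TopCat.Presheaf.exists_germ_eq M.presheaf a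
  rw [stalkMap_germ, stalkMap_germ, stalkMap_germ]
  have : (f + g).app V a' = f.app V a' + g.app V a' := rfl
  rw [this, map_add]

theorem stalkMap_id (M : X.Modules) (x : X) (a : ↑(M.presheaf.stalk x)) :
    (stalkMap (𝟙 M) x).hom a = a := by
  obtain ⟨V, hxV, a', rfl⟩ := TopCat.Presheaf.exists_germ_eq M.presheaf a
  rw [stalkMap_germ]
  rfl

/-- Evaluation of stalk maps at a fixed element, as an additive map in the morphism. -/
noncomputable def stalkEval {M N : X.Modules} (x : X) (a : ↑(M.presheaf.stalk x)) :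
    (M ⟶ N) →+ ↑(N.presheaf.stalk x) where
  toFun f := (stalkMap f x).hom a
  map_zero' := stalkMap_zero x a
  map_add' f g := stalkMap_add f g x a

theorem stalkMap_sum {M N : X.Modules} {ι : Type*} (s : Finset ι) (f : ι → (M ⟶ N)) (x : X)
    (a : ↑(M.presheaf.stalk x)) :
    (stalkMap (∑ j ∈ s, f j) x).hom a = ∑ j ∈ s, (stalkMap (f j) x).hom a :=
  map_sum (stalkEval (N := N) x a) f s

/-- Evaluation of a morphism at a fixed section, as an additive map in the morphism. -/
noncomputable def appEval {M N : X.Modules} (V : X.Opens) (s : Γ(M, V)) :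
    (M ⟶ N) →+ Γ(N, V) where
  toFun f := f.app V s
  map_zero' := rfl
  map_add' _ _ := rfl

theorem app_sum {M N : X.Modules} {ι : Type*} (t : Finset ι) (f : ι → (M ⟶ N)) (V : X.Opens)
    (s : Γ(M, V)) : (∑ j ∈ t, f j).app V s = ∑ j ∈ t, (f j).app V s :=
  map_sum (appEval (N := N) V s) f t

end StalkAdd

section Biproduct

attribute [local instance] Abelian.hasFiniteBiproducts

variable {n : ℕ} (f : Fin n → X.Modules)

/-- The stalk of a finite biproduct is the product of the stalks. -/
noncomputable def stalkBiproductEquiv (x : X) :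
    ↑((⨁ f).presheaf.stalk x) ≃ₗ[X.presheaf.stalk x] (∀ j, ↑((f j).presheaf.stalk x)) where
  toFun a j := (stalkMap (biproduct.π f j) x).hom a
  map_add' a b := by
    funext j
    exact map_add _ a b
  map_smul' r a := by
    funext j
    exact stalkMap_smul _ x r a
  invFun g := ∑ j, (stalkMap (biproduct.ι f j) x).hom (g j)
  left_inv a := by
    change ∑ j, (stalkMap (biproduct.ι f j) x).hom ((stalkMap (biproduct.π f j) x).hom a) = a
    have h : ∀ j, (stalkMap (biproduct.ι f j) x).hom ((stalkMap (biproduct.π f j) x).hom a) =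
        (stalkMap (biproduct.π f j ≫ biproduct.ι f j) x).hom a :=
      fun j => (stalkMap_comp_apply' _ _ x a).symm
    rw [Finset.sum_congr rfl (fun j _ => h j), ← stalkMap_sum, biproduct.total]
    exact stalkMap_id _ x a
  right_inv g := by
    classical
    funext k
    change (stalkMap (biproduct.π f k) x).hom (∑ j, (stalkMap (biproduct.ι f j) x).hom (g j)) = g k
    rw [map_sum, Finset.sum_eq_single k]
    · rw [← stalkMap_comp_apply', biproduct.ι_π_self]
      exact stalkMap_id _ x _
    · intro j _ hjk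
      rw [← stalkMap_comp_apply', biproduct.ι_π_ne f hjk]
      exact stalkMap_zero x _
    · intro hk
      exact absurd (Finset.mem_univ k) hk

theorem stalkBiproductEquiv_apply (x : X) (a : ↑((⨁ f).presheaf.stalk x)) (j : Fin n) :
    stalkBiproductEquiv f x a j = (stalkMap (biproduct.π f j) x).hom a := rfl

theorem biproduct_section_eq (V : X.Opens) (s : Γ(⨁ f, V)) :
    s = ∑ j, (biproduct.ι f j).app V ((biproduct.π f j).app V s) := by
  have h := congrArg (fun m => m.app V s) (biproduct.total (f := f))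
  simp only at h
  rw [app_sum] at h
  exact h.symm

theorem isQuasicoherent_biproduct (hf : ∀ j, (f j).IsQuasicoherent) :
    (⨁ f).IsQuasicoherent := by
  have h : (limit (Discrete.functor f)).IsQuasicoherent :=
    isQuasicoherent_finite_limit _ (fun j => hf j.as)
  exact isQuasicoherent_of_iso (biproduct.isoProduct f).symm h

theorem isCoh_biproduct (hf : ∀ j, Coh.IsCoh (f j)) : Coh.IsCoh (⨁ f) := by
  haveI := isQuasicoherent_biproduct f (fun j => (hf j).1)
  refine ⟨inferInstance, ?_⟩
  refine isFiniteType_of_finite_sections (⨁ f) fun U => ?_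
  haveI : ∀ j, (f j).IsQuasicoherent := fun j => (hf j).1
  haveI : ∀ j, Module.Finite Γ(X, U.1) Γ(f j, U.1) := fun j =>
    Groth.Agent.Lib.Helper49.finite_sections_of_isFiniteType (f j) (hf j).2 U.2
  let L : (∀ j, Γ(f j, U.1)) →ₗ[Γ(X, U.1)] Γ(⨁ f, U.1) :=
    ∑ j, (Helper45.appₗ (biproduct.ι f j) U.1).comp (LinearMap.proj j)
  refine Module.Finite.of_surjective L fun s => ?_
  refine ⟨fun j => (biproduct.π f j).app U.1 s, ?_⟩
  have hL : ∀ g : (∀ j, Γ(f j, U.1)), L g = ∑ j, (biproduct.ι f j).app U.1 (g j) := by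
    intro g
    simp only [L, LinearMap.sum_apply, LinearMap.coe_comp, Function.comp_apply,
      LinearMap.proj_apply]
    rfl
  rw [hL]
  exact (biproduct_section_eq f U.1 s).symm

theorem support_biproduct_subset (T : Set X) (hf : ∀ j, CohB1.support (f j) ⊆ T) :
    CohB1.support (⨁ f) ⊆ T := by
  intro z hz
  by_contra hzT
  apply hz
  haveI : ∀ j, Subsingleton ↑((f j).presheaf.stalk z) := by
    intro j
    by_contra h
    exact hzT (hf j h)
  exact (stalkBiproductEquiv f z).toEquiv.subsingleton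

end Biproduct

section KerCoker

theorem stalkMap_cokernel_π_eq_zero_iff {A B : X.Modules} (φ : A ⟶ B) (x : X)
    (b : ↑(B.presheaf.stalk x)) :
    (stalkMap (cokernel.π φ) x).hom b = 0 ↔ ∃ a, (stalkMap φ x).hom a = b := by
  constructor
  · intro h1
    have hS := shortExact_kernel (cokernel.π φ)
    obtain ⟨c, rfl⟩ := (stalkMap_exact_of_shortExact _ hS x b).mp h1
    have hepi : Epi (Abelian.factorThruImage φ) := inferInstance
    obtain ⟨a, rfl⟩ := stalkMap_surjective_of_epi (Abelian.factorThruImage φ) x c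
    refine ⟨a, ?_⟩
    have h2 : (stalkMap φ x).hom a =
        (stalkMap (Abelian.factorThruImage φ ≫ kernel.ι (cokernel.π φ)) x).hom a := by
      rw [show Abelian.factorThruImage φ ≫ kernel.ι (cokernel.π φ) = φ from Abelian.image.fac φ]
    exact h2.trans (stalkMap_comp_apply' _ _ x a)
  · rintro ⟨a, rfl⟩
    exact stalkMap_eq_zero_of_comp_eq_zero _ _ (cokernel.condition φ) x a

theorem stalkMap_eq_zero_iff_exists_kernel {A B : X.Modules} (φ : A ⟶ B) (x : X)
    (a : ↑(A.presheaf.stalk x)) :
    (stalkMap φ x).hom a = 0 ↔ ∃ c, (stalkMap (kernel.ι φ) x).hom c = a := by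
  constructor
  · intro ha
    have hS := shortExact_cokernel (kernel.ι φ)
    have hmono : Mono (Abelian.factorThruCoimage φ) := inferInstance
    have h1 : (stalkMap (cokernel.π (kernel.ι φ)) x).hom a = 0 := by
      apply stalkMap_injective_of_mono (Abelian.factorThruCoimage φ) x
      rw [map_zero, ← stalkMap_comp_apply']
      have : cokernel.π (kernel.ι φ) ≫ Abelian.factorThruCoimage φ = φ := Abelian.coimage.fac φ
      rw [this, ha]
    exact (stalkMap_exact_of_shortExact _ hS x a).mp h1
  · rintro ⟨c, rfl⟩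
    exact stalkMap_eq_zero_of_comp_eq_zero _ _ (kernel.condition φ) x c

end KerCoker

section SimpleQuotient

variable [IsLocallyNoetherian X]

/-- A coherent module whose stalk at `ξ` is semisimple and nonzero has a coherent quotient whose
stalk at `ξ` is simple. -/
theorem exists_simple_quotient (G : X.Modules) (hG : Coh.IsCoh G) (ξ : X)
    (hss : IsSemisimpleModule (X.presheaf.stalk ξ) ↑(G.presheaf.stalk ξ))
    (hnt : Nontrivial ↑(G.presheaf.stalk ξ)) :
    ∃ (Q : X.Modules) (p : G ⟶ Q), Epi p ∧ Coh.IsCoh Q ∧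
      IsSimpleModule (X.presheaf.stalk ξ) ↑(Q.presheaf.stalk ξ) := by
  haveI := hG.1
  haveI : Module.Finite (X.presheaf.stalk ξ) ↑(G.presheaf.stalk ξ) :=
    Groth.Agent.Lib.Helper12.QuasiFlat.finite_stalk_of_isCoh G hG ξ
  haveI : IsNoetherian (X.presheaf.stalk ξ) ↑(G.presheaf.stalk ξ) :=
    isNoetherian_of_isNoetherianRing_of_finite _ _
  obtain ⟨π, hπ⟩ := exists_endo_range_coatom (X.presheaf.stalk ξ) ↑(G.presheaf.stalk ξ)
  obtain ⟨H, q₁, q₂, hH, hbij, hq₂, -, -⟩ := exists_graph G G hG hG ξ π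
  haveI := hH.1
  refine ⟨cokernel q₂, cokernel.π q₂, inferInstance, isCoh_cokernel q₂ hH.1 hG, ?_⟩
  let L := stalkMapLinear (cokernel.π q₂) ξ
  have hLsurj : Function.Surjective L := stalkMap_surjective_of_epi (cokernel.π q₂) ξ
  have hLker : LinearMap.ker L = LinearMap.range π := by
    ext g
    rw [LinearMap.mem_ker, LinearMap.mem_range]
    change (stalkMap (cokernel.π q₂) ξ).hom g = 0 ↔ _
    rw [stalkMap_cokernel_π_eq_zero_iff]
    constructor
    · rintro ⟨b, rfl⟩
      exact ⟨(stalkMap q₁ ξ).hom b, (hq₂ b).symm⟩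
    · rintro ⟨m, rfl⟩
      obtain ⟨b, rfl⟩ := hbij.2 m
      exact ⟨b, hq₂ b⟩
  have e := LinearMap.quotKerEquivOfSurjective L hLsurj
  haveI : IsSimpleModule (X.presheaf.stalk ξ) (↑(G.presheaf.stalk ξ) ⧸ LinearMap.ker L) := by
    rw [isSimpleModule_iff_isCoatom, hLker]
    exact hπ
  exact IsSimpleModule.congr e.symm

end SimpleQuotient

section Pure

attribute [local instance] Abelian.hasFiniteBiproducts

theorem subsingleton_stalk_of_iso {A B : X.Modules} (e : A ≅ B) (z : X)
    (h : Subsingleton ↑(B.presheaf.stalk z)) : Subsingleton ↑(A.presheaf.stalk z) :=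
  (stalkMap_injective_of_mono e.hom z).subsingleton

/-- The pure part at `ξ`: a coherent module `G` supported in the closure of `ξ` has a coherent
submodule with the same stalk at `ξ` and no associated point other than `ξ`. -/
theorem exists_pure_sub [IsNoetherian X] (G : X.Modules) (hG : Coh.IsCoh G) (ξ : X)
    (hsupp : CohB1.support G ⊆ closure {ξ}) :
    ∃ (G₀ : X.Modules) (j : G₀ ⟶ G), Mono j ∧ Coh.IsCoh G₀ ∧
      Function.Bijective (stalkMap j ξ).hom ∧ ∀ x, Curv2.IsAssPoint G₀ x → x = ξ := by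
  classical
  haveI := hG.1
  obtain ⟨Gx, q, -, hGx, hA, hm⟩ := Groth.Agent.S2520.result G hG
  have hfin : (AssSch.Ass G).Finite :=
    (Groth.Agent.S1576.result X G hG ⊤ isCompact_univ).subset (fun x hx => ⟨trivial, hx⟩)
  haveI : Finite (AssSch.Ass G) := hfin.to_subtype
  haveI : Finite {x : AssSch.Ass G // x.1 ≠ ξ} := Subtype.finite
  obtain ⟨m, ⟨e⟩⟩ := Finite.exists_equiv_fin {x : AssSch.Ass G // x.1 ≠ ξ}
  let f : Fin m → X.Modules := fun k => Gx (e.symm k).1
  let Φ : G ⟶ ∏ᶜ f := Pi.lift (fun k => q (e.symm k).1)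
  have hfq : ∀ k, (f k).IsQuasicoherent := fun k => (hGx _).1
  have hprodq : (∏ᶜ f).IsQuasicoherent :=
    isQuasicoherent_finite_limit (Discrete.functor f) (fun j => hfq j.as)
  have hK : Coh.IsCoh (kernel Φ) := isCoh_kernel Φ hG hprodq
  haveI := hK.1
  -- vanishing of the composites
  have hzero : ∀ i : {x : AssSch.Ass G // x.1 ≠ ξ}, kernel.ι Φ ≫ q i.1 = 0 := by
    intro i
    obtain ⟨k, rfl⟩ := e.symm.surjective i
    have h1 : kernel.ι Φ ≫ Φ ≫ Pi.π f k = 0 := by rw [← Category.assoc, kernel.condition, zero_comp]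
    have h2 : Φ ≫ Pi.π f k = q (e.symm k).1 := Pi.lift_π _ _
    rw [h2] at h1
    exact h1
  refine ⟨kernel Φ, kernel.ι Φ, inferInstance, hK, ⟨stalkMap_injective_of_mono _ ξ, ?_⟩, ?_⟩
  · -- surjectivity on stalks at `ξ`
    intro g
    have hsub : Subsingleton ↑((∏ᶜ f).presheaf.stalk ξ) := by
      apply subsingleton_stalk_of_iso (biproduct.isoProduct f).symm ξ
      haveI : ∀ k, Subsingleton ↑((f k).presheaf.stalk ξ) := by
        intro k
        by_contra hne
        have h1 : ξ ∈ closure {((e.symm k).1 : AssSch.Ass G).1} :=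
          support_subset_closure_of_ass_eq (f k) (hGx _) _ (hA _) hne
        have h2 : ((e.symm k).1 : AssSch.Ass G).1 ∈ closure {ξ} :=
          hsupp (mem_support_of_isAssPoint G (e.symm k).1.2)
        have h3 : ((e.symm k).1 : AssSch.Ass G).1 ⤳ ξ := specializes_iff_mem_closure.mpr h1
        have h4 : ξ ⤳ ((e.symm k).1 : AssSch.Ass G).1 := specializes_iff_mem_closure.mpr h2
        exact (e.symm k).2 (h3.antisymm h4).eq
      exact (stalkBiproductEquiv f ξ).toEquiv.subsingleton
    exact (stalkMap_eq_zero_iff_exists_kernel Φ ξ g).mp (hsub.elim _ _)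
  · -- purity
    intro x hx
    by_cases hξ : Curv2.IsAssPoint G ξ
    · let ξ' : AssSch.Ass G := ⟨ξ, hξ⟩
      haveI : (Gx ξ').IsQuasicoherent := (hGx ξ').1
      haveI : Mono (kernel.ι Φ ≫ q ξ') := by
        refine ⟨fun {T} a b hab => ?_⟩
        rw [← cancel_mono (kernel.ι Φ)]
        refine hm T _ _ fun y => ?_
        by_cases hy : y.1 = ξ
        · have : y = ξ' := Subtype.ext hy
          subst this
          simpa only [Category.assoc] using hab
        · rw [Category.assoc, Category.assoc, hzero ⟨y, hy⟩, comp_zero, comp_zero]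
      have h1 := Groth.Agent.Lib.Helper45.PrimaryUnique.isAssPoint_of_mono (kernel.ι Φ ≫ q ξ') hx
      have h2 : x ∈ AssSch.Ass (Gx ξ') := h1
      rw [hA ξ'] at h2
      exact h2
    · exfalso
      have hι : kernel.ι Φ = 0 := by
        refine hm _ _ _ fun y => ?_
        have hy : y.1 ≠ ξ := fun h => hξ (h ▸ y.2)
        rw [hzero ⟨y, hy⟩, zero_comp]
      have hz : IsZero (kernel Φ) := by
        rw [IsZero.iff_id_eq_zero, ← cancel_mono (kernel.ι Φ), hι, comp_zero, comp_zero]
      exact (Groth.Agent.S1704.result X (kernel Φ) hK.1).mp hz x hx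

end Pure

section CorePure

variable [IsLocallyNoetherian X]

/-- If `q₁, q₂` are jointly monomorphic, `q₁` is injective on stalks at `ξ` and the target of `q₂`
has no associated point other than `ξ`, then `q₁` is a monomorphism. -/
theorem mono_of_pure {H A G : X.Modules} (q₁ : H ⟶ A) (q₂ : H ⟶ G) (hH : Coh.IsCoh H)
    (hA : A.IsQuasicoherent) (hG : G.IsQuasicoherent)
    (hjm : ∀ (T : X.Modules) (a : T ⟶ H), a ≫ q₁ = 0 → a ≫ q₂ = 0 → a = 0) (ξ : X)
    (hinj : Function.Injective (stalkMap q₁ ξ).hom)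
    (hpure : ∀ x, Curv2.IsAssPoint G x → x = ξ) : Mono q₁ := by
  haveI := hH.1
  have hK : Coh.IsCoh (kernel q₁) := isCoh_kernel q₁ hH hA
  haveI := hK.1
  haveI : Mono (kernel.ι q₁ ≫ q₂) := by
    refine Preadditive.mono_of_cancel_zero _ fun {T} a ha => ?_
    rw [← cancel_mono (kernel.ι q₁), zero_comp]
    apply hjm
    · rw [Category.assoc, kernel.condition, comp_zero]
    · rw [Category.assoc]; exact ha
  have hz : IsZero (kernel q₁) := by
    rw [Groth.Agent.S1704.result X (kernel q₁) hK.1]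
    intro x hx
    have h1 := Groth.Agent.Lib.Helper45.PrimaryUnique.isAssPoint_of_mono (kernel.ι q₁ ≫ q₂) hx
    have h2 : x = ξ := hpure x h1
    subst h2
    exact mem_support_of_isAssPoint _ hx ((subsingleton_stalk_kernel_iff q₁ x).mpr hinj)
  exact Preadditive.mono_of_kernel_zero (hz.eq_of_src _ _)

variable (P : X.Modules → Prop) (hiso : ∀ A B : X.Modules, Nonempty (A ≅ B) → P A → P B) (ξ : X)
  (hext : ∀ S : ShortComplex X.Modules, S.ShortExact → Coh.IsCoh S.X₁ → Coh.IsCoh S.X₂ →
    Coh.IsCoh S.X₃ → CohB1.support S.X₂ ⊆ closure {ξ} → P S.X₁ → P S.X₃ → P S.X₂)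
  (hker : ∀ S : ShortComplex X.Modules, S.ShortExact → Coh.IsCoh S.X₁ → Coh.IsCoh S.X₂ →
    Coh.IsCoh S.X₃ → CohB1.support S.X₂ ⊆ closure {ξ} → P S.X₂ → P S.X₃ → P S.X₁)
  (hsmall : ∀ M : X.Modules, Coh.IsCoh M → CohB1.support M ⊆ closure {ξ} →
    Subsingleton ↑(M.presheaf.stalk ξ) → P M)

include hiso hext hker hsmall in
/-- If `φ : A ⟶ B` is surjective on stalks at `ξ`, `P B` and `P (ker φ)`, then `P A`. -/
theorem of_generic_surj {A B : X.Modules} (φ : A ⟶ B) (hA : Coh.IsCoh A) (hB : Coh.IsCoh B)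
    (hAsupp : CohB1.support A ⊆ closure {ξ}) (hBsupp : CohB1.support B ⊆ closure {ξ})
    (hsurj : Function.Surjective (stalkMap φ ξ).hom) (hPB : P B) (hPK : P (kernel φ)) : P A := by
  haveI := hA.1
  haveI := hB.1
  have hK : Coh.IsCoh (kernel φ) := isCoh_kernel φ hA hB.1
  have hC : Coh.IsCoh (cokernel φ) := isCoh_cokernel φ hA.1 hB
  haveI := hK.1
  haveI := hC.1
  have hI : Coh.IsCoh (kernel (cokernel.π φ)) := isCoh_kernel _ hB hC.1
  have hCI : Coh.IsCoh (cokernel (kernel.ι φ)) := isCoh_cokernel _ hK.1 hA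
  have sC : CohB1.support (cokernel φ) ⊆ closure {ξ} :=
    (support_subset_of_epi (cokernel.π φ)).trans hBsupp
  have PC : P (cokernel φ) := hsmall _ hC sC ((subsingleton_stalk_cokernel_iff φ ξ).mpr hsurj)
  have PI : P (kernel (cokernel.π φ)) :=
    hker _ (shortExact_kernel (cokernel.π φ)) hI hB hC hBsupp hPB PC
  have PCI : P (cokernel (kernel.ι φ)) := hiso _ _ ⟨(Abelian.coimageIsoImage φ).symm⟩ PI
  exact hext _ (shortExact_cokernel (kernel.ι φ)) hK hA hCI hAsupp hPK PCI

include hiso hext hker hsmall in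
/-- If `φ : A ⟶ B` is bijective on stalks at `ξ` and `P B`, then `P A`. -/
theorem of_generic_iso {A B : X.Modules} (φ : A ⟶ B) (hA : Coh.IsCoh A) (hB : Coh.IsCoh B)
    (hAsupp : CohB1.support A ⊆ closure {ξ}) (hBsupp : CohB1.support B ⊆ closure {ξ})
    (hbij : Function.Bijective (stalkMap φ ξ).hom) (hPB : P B) : P A := by
  haveI := hA.1
  haveI := hB.1
  have hK : Coh.IsCoh (kernel φ) := isCoh_kernel φ hA hB.1
  have sK : CohB1.support (kernel φ) ⊆ closure {ξ} :=
    (support_subset_of_mono (kernel.ι φ)).trans hAsupp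
  exact of_generic_surj P hiso ξ hext hker hsmall φ hA hB hAsupp hBsupp hbij.2 hPB
    (hsmall _ hK sK ((subsingleton_stalk_kernel_iff φ ξ).mpr hbij.1))

omit [IsLocallyNoetherian X] in
include hext hsmall in
/-- If `φ : A ⟶ B` is a monomorphism which is surjective on stalks at `ξ` and `P A`, then `P B`. -/
theorem of_generic_mono {A B : X.Modules} (φ : A ⟶ B) [Mono φ] (hA : Coh.IsCoh A)
    (hB : Coh.IsCoh B) (hBsupp : CohB1.support B ⊆ closure {ξ})
    (hsurj : Function.Surjective (stalkMap φ ξ).hom) (hPA : P A) : P B := by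
  haveI := hA.1
  have hC : Coh.IsCoh (cokernel φ) := isCoh_cokernel φ hA.1 hB
  have sC : CohB1.support (cokernel φ) ⊆ closure {ξ} :=
    (support_subset_of_epi (cokernel.π φ)).trans hBsupp
  have PC : P (cokernel φ) := hsmall _ hC sC ((subsingleton_stalk_cokernel_iff φ ξ).mpr hsurj)
  exact hext _ (shortExact_cokernel φ) hA hB hC hBsupp hPA PC

omit [IsLocallyNoetherian X] in
/-- Supports of the graph module. -/
theorem support_graph_subset {H A G : X.Modules} (q₁ : H ⟶ A) (q₂ : H ⟶ G) (T : Set X)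
    (hA : CohB1.support A ⊆ T) (hG : CohB1.support G ⊆ T)
    (hjs : ∀ (z : X) (b : ↑(H.presheaf.stalk z)), (stalkMap q₁ z).hom b = 0 →
      (stalkMap q₂ z).hom b = 0 → b = 0) : CohB1.support H ⊆ T := by
  intro z hz
  by_contra hcon
  apply hz
  have hAz : Subsingleton ↑(A.presheaf.stalk z) := by
    by_contra h
    exact hcon (hA h)
  have hGz : Subsingleton ↑(G.presheaf.stalk z) := by
    by_contra h
    exact hcon (hG h)
  refine ⟨fun a b => ?_⟩
  have h0 : ∀ c : ↑(H.presheaf.stalk z), c = 0 := fun c =>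
    hjs z c (hAz.elim _ _) (hGz.elim _ _)
  rw [h0 a, h0 b]

include hiso hext hker hsmall in
/-- **Core of dévissage, extension/kernel version.** As `DevCore.devissage_core`, but assuming only
that `P` is closed under extensions and kernels of epimorphisms (for coherent modules supported in
`closure {ξ}`), for a module `G` with simple stalk at `ξ` and no associated point other than
`ξ`. -/
theorem devissage_core_pure (G : X.Modules) (hG : Coh.IsCoh G)
    (hGsupp : CohB1.support G ⊆ closure {ξ}) (hPG : P G)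
    (hGsimple : IsSimpleModule (X.presheaf.stalk ξ) ↑(G.presheaf.stalk ξ))
    (hpure : ∀ x, Curv2.IsAssPoint G x → x = ξ)
    (M : X.Modules) (hM : Coh.IsCoh M) (hMsupp : CohB1.support M ⊆ closure {ξ}) : P M := by
  have key : ∀ (n : ℕ) (M : X.Modules), Coh.IsCoh M → CohB1.support M ⊆ closure {ξ} →
      Module.length (X.presheaf.stalk ξ) ↑(M.presheaf.stalk ξ) ≤ n → P M := by
    intro n
    induction n with
    | zero =>
      intro M hM hsM hlen
      apply hsmall M hM hsM
      have h0 : Module.length (X.presheaf.stalk ξ) ↑(M.presheaf.stalk ξ) = 0 := by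
        simpa using hlen
      exact Module.length_eq_zero_iff.mp h0
    | succ n ih =>
      intro M hM hsM hlen
      by_cases hsub : Subsingleton ↑(M.presheaf.stalk ξ)
      · exact hsmall M hM hsM hsub
      · haveI hnt : Nontrivial ↑(M.presheaf.stalk ξ) := not_subsingleton_iff_nontrivial.mp hsub
        have hfl := isFiniteLength_stalk M hM ξ hsM
        obtain ⟨hNoeth, hArt⟩ := isFiniteLength_iff_isNoetherian_isArtinian.mp hfl
        obtain ⟨ψ, hψ⟩ := exists_surjective_to_simple (X.presheaf.stalk ξ)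
          ↑(M.presheaf.stalk ξ) ↑(G.presheaf.stalk ξ)
        obtain ⟨H, q₁, q₂, hH, hbij, hq₂, hjm, hjs⟩ := exists_graph M G hM hG ξ ψ
        haveI := hM.1
        haveI := hG.1
        haveI := hH.1
        have hHsupp : CohB1.support H ⊆ closure {ξ} :=
          support_graph_subset q₁ q₂ _ hsM hGsupp hjs
        have hK₂ : Coh.IsCoh (kernel q₂) := isCoh_kernel q₂ hH hG.1
        have sK₂ : CohB1.support (kernel q₂) ⊆ closure {ξ} :=
          (support_subset_of_mono (kernel.ι q₂)).trans hHsupp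
        have hq₂surj : Function.Surjective (stalkMap q₂ ξ).hom := by
          intro g
          obtain ⟨m, rfl⟩ := hψ g
          obtain ⟨b, rfl⟩ := hbij.2 m
          exact ⟨b, hq₂ b⟩
        -- `P` for the kernel of `q₂` by induction
        have PK₂ : P (kernel q₂) := by
          apply ih _ hK₂ sK₂
          let L := stalkMapLinear (kernel.ι q₂ ≫ q₁) ξ
          have hLapp : ∀ b, L b = (stalkMap q₁ ξ).hom ((stalkMap (kernel.ι q₂) ξ).hom b) :=
            fun b => stalkMap_comp_apply' _ _ ξ b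
          have hLinj : Function.Injective L := by
            intro a b hab
            rw [hLapp, hLapp] at hab
            exact stalkMap_injective_of_mono (kernel.ι q₂) ξ (hbij.1 hab)
          have hLker : ∀ b, L b ∈ LinearMap.ker ψ := by
            intro b
            rw [LinearMap.mem_ker, hLapp, ← hq₂]
            exact stalkMap_eq_zero_of_comp_eq_zero _ _ (kernel.condition q₂) ξ b
          let L' : ↑((kernel q₂).presheaf.stalk ξ) →ₗ[X.presheaf.stalk ξ] LinearMap.ker ψ :=
            L.codRestrict _ hLker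
          have hL'inj : Function.Injective L' := by
            intro a b hab
            apply hLinj
            exact congrArg Subtype.val hab
          have h1 := Module.length_le_of_injective L' hL'inj
          have hne : LinearMap.ker ψ ≠ ⊤ := by
            intro htop
            have hzero : ∀ g : ↑(G.presheaf.stalk ξ), g = 0 := by
              intro g
              obtain ⟨m, rfl⟩ := hψ g
              exact LinearMap.mem_ker.mp (htop ▸ Submodule.mem_top)
            haveI : Nontrivial ↑(G.presheaf.stalk ξ) :=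
              IsSimpleModule.nontrivial (X.presheaf.stalk ξ) _
            obtain ⟨g, hg⟩ := exists_ne (0 : ↑(G.presheaf.stalk ξ))
            exact hg (hzero g)
          have h2 := Submodule.length_lt hne
          have h3 : Module.length (X.presheaf.stalk ξ) ↑((kernel q₂).presheaf.stalk ξ) <
              (n : ℕ∞) + 1 := by
            refine lt_of_le_of_lt h1 (lt_of_lt_of_le h2 ?_)
            simpa using hlen
          exact (ENat.lt_add_one_iff (ENat.natCast_ne_top n)).mp h3
        have PH : P H :=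
          of_generic_surj P hiso ξ hext hker hsmall q₂ hH hG hHsupp hGsupp hq₂surj hPG PK₂
        haveI : Mono q₁ := mono_of_pure q₁ q₂ hH hM.1 hG.1 hjm ξ hbij.1 hpure
        exact of_generic_mono P ξ hext hsmall q₁ hH hM hsM hbij.2 PH
  have hfl := isFiniteLength_stalk M hM ξ hMsupp
  obtain ⟨n, hn⟩ := ENat.ne_top_iff_exists.mp (Module.length_ne_top_iff.mpr hfl)
  exact key n M hM hMsupp hn.symm.le

end CorePure

section Roots

attribute [local instance] Abelian.hasFiniteBiproducts

variable [IsNoetherian X]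
  (P : X.Modules → Prop) (hiso : ∀ A B : X.Modules, Nonempty (A ≅ B) → P A → P B) (ξ : X)
  (hext : ∀ S : ShortComplex X.Modules, S.ShortExact → Coh.IsCoh S.X₁ → Coh.IsCoh S.X₂ →
    Coh.IsCoh S.X₃ → CohB1.support S.X₂ ⊆ closure {ξ} → P S.X₁ → P S.X₃ → P S.X₂)
  (hker : ∀ S : ShortComplex X.Modules, S.ShortExact → Coh.IsCoh S.X₁ → Coh.IsCoh S.X₂ →
    Coh.IsCoh S.X₃ → CohB1.support S.X₂ ⊆ closure {ξ} → P S.X₂ → P S.X₃ → P S.X₁)
  (hsmall : ∀ M : X.Modules, Coh.IsCoh M → CohB1.support M ⊆ closure {ξ} →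
    Subsingleton ↑(M.presheaf.stalk ξ) → P M)
  (hroot : ∀ (F : X.Modules) (n : ℕ), 1 ≤ n → Coh.IsCoh F → CohB1.support F ⊆ closure {ξ} →
    P (⨁ fun _ : Fin n => F) → P F)

include hiso hext hker hsmall hroot in
/-- **Core of dévissage with roots.** `P` closed under extensions, kernels of epimorphisms and
roots of finite powers; `G` with `P G` whose stalk at `ξ` is nonzero and killed by the maximal
ideal. Then `P` holds for all coherent modules supported in `closure {ξ}`. -/
theorem devissage_core_roots (G : X.Modules) (hG : Coh.IsCoh G)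
    (hGsupp : CohB1.support G ⊆ closure {ξ}) (hPG : P G)
    (hnt : Nontrivial ↑(G.presheaf.stalk ξ))
    (hkill : ∀ a ∈ IsLocalRing.maximalIdeal (X.presheaf.stalk ξ),
      ∀ g : ↑(G.presheaf.stalk ξ), a • g = 0)
    (M : X.Modules) (hM : Coh.IsCoh M) (hMsupp : CohB1.support M ⊆ closure {ξ}) : P M := by
  haveI := hG.1
  haveI : Module.Finite (X.presheaf.stalk ξ) ↑(G.presheaf.stalk ξ) :=
    Groth.Agent.Lib.Helper12.QuasiFlat.finite_stalk_of_isCoh G hG ξ
  haveI hss : IsSemisimpleModule (X.presheaf.stalk ξ) ↑(G.presheaf.stalk ξ) :=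
    isSemisimpleModule_of_killed _ _ hkill
  -- a quotient with simple stalk
  obtain ⟨Q₀, p, hp, hQ₀, hQ₀simple⟩ := exists_simple_quotient G hG ξ hss hnt
  have hQ₀supp : CohB1.support Q₀ ⊆ closure {ξ} := (support_subset_of_epi p).trans hGsupp
  -- the pure part of `G`
  obtain ⟨G₀, j, hjmono, hG₀, hjbij, hpure⟩ := exists_pure_sub G hG ξ hGsupp
  have hG₀supp : CohB1.support G₀ ⊆ closure {ξ} := (support_subset_of_mono j).trans hGsupp
  have PG₀ : P G₀ := of_generic_iso P hiso ξ hext hker hsmall j hG₀ hG hG₀supp hGsupp hjbij hPG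
  let e₀ : ↑(G₀.presheaf.stalk ξ) ≃ₗ[X.presheaf.stalk ξ] ↑(G.presheaf.stalk ξ) :=
    LinearEquiv.ofBijective (stalkMapLinear j ξ) hjbij
  -- the stalk of `G` is a power of the stalk of `Q₀`
  obtain ⟨n, hn, ⟨e⟩⟩ := exists_linearEquiv_fun_simple (X.presheaf.stalk ξ)
    ↑(G.presheaf.stalk ξ) ↑(Q₀.presheaf.stalk ξ)
  have hB : Coh.IsCoh (⨁ fun _ : Fin n => Q₀) := isCoh_biproduct _ (fun _ => hQ₀)
  have hBsupp : CohB1.support (⨁ fun _ : Fin n => Q₀) ⊆ closure {ξ} :=
    support_biproduct_subset _ _ (fun _ => hQ₀supp)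
  let ψe : ↑((⨁ fun _ : Fin n => Q₀).presheaf.stalk ξ) ≃ₗ[X.presheaf.stalk ξ]
      ↑(G₀.presheaf.stalk ξ) :=
    (stalkBiproductEquiv (fun _ : Fin n => Q₀) ξ).trans (e.symm.trans e₀.symm)
  obtain ⟨H, q₁, q₂, hH, hbij, hq₂, hjm, hjs⟩ :=
    exists_graph (⨁ fun _ : Fin n => Q₀) G₀ hB hG₀ ξ ψe.toLinearMap
  haveI := hH.1
  haveI := hB.1
  haveI := hG₀.1
  have hHsupp : CohB1.support H ⊆ closure {ξ} := support_graph_subset q₁ q₂ _ hBsupp hG₀supp hjs
  have hq₂bij : Function.Bijective (stalkMap q₂ ξ).hom := by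
    have : (stalkMap q₂ ξ).hom = ψe ∘ (stalkMap q₁ ξ).hom := funext hq₂
    rw [this]
    exact ψe.bijective.comp hbij
  have PH : P H := of_generic_iso P hiso ξ hext hker hsmall q₂ hH hG₀ hHsupp hG₀supp hq₂bij PG₀
  haveI : Mono q₁ := mono_of_pure q₁ q₂ hH hB.1 hG₀.1 hjm ξ hbij.1 hpure
  have PB : P (⨁ fun _ : Fin n => Q₀) := of_generic_mono P ξ hext hsmall q₁ hH hB hBsupp hbij.2 PH
  have PQ₀ : P Q₀ := hroot Q₀ n hn hQ₀ hQ₀supp PB
  -- the pure part of `Q₀`
  obtain ⟨Q₁, j', hj'mono, hQ₁, hj'bij, hpure'⟩ := exists_pure_sub Q₀ hQ₀ ξ hQ₀supp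
  have hQ₁supp : CohB1.support Q₁ ⊆ closure {ξ} := (support_subset_of_mono j').trans hQ₀supp
  have PQ₁ : P Q₁ :=
    of_generic_iso P hiso ξ hext hker hsmall j' hQ₁ hQ₀ hQ₁supp hQ₀supp hj'bij PQ₀
  have hQ₁simple : IsSimpleModule (X.presheaf.stalk ξ) ↑(Q₁.presheaf.stalk ξ) :=
    IsSimpleModule.congr (LinearEquiv.ofBijective (stalkMapLinear j' ξ) hj'bij)
  exact devissage_core_pure P hiso ξ hext hker hsmall Q₁ hQ₁ hQ₁supp PQ₁ hQ₁simple hpure' M hM
    hMsupp

end Roots

section Killed

attribute [local instance] stalkModuleSections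

theorem mem_vanishingIdeal_of_mem_primeIdealOf {U : X.Opens} (hU : IsAffineOpen U) (x : U)
    (r : Γ(X, U)) (hr : r ∈ (hU.primeIdealOf x).asIdeal) :
    r ∈ (Scheme.IdealSheafData.vanishingIdeal ⟨closure {(x : X)}, isClosed_closure⟩).ideal
      ⟨U, hU⟩ := by
  rw [Scheme.IdealSheafData.vanishingIdeal_ideal, PrimeSpectrum.mem_vanishingIdeal]
  intro p hp
  obtain ⟨z, rfl⟩ := exists_primeIdealOf_eq hU p
  have h1 : (z : X) ∈ closure {(x : X)} := by
    rw [← hU.fromSpec_primeIdealOf z]
    exact hp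
  have h2 : (x : X) ⤳ (z : X) := specializes_iff_mem_closure.mpr h1
  exact (primeIdealOf_le_iff hU z x).mpr h2 hr

/-- If a quasi-coherent module is killed by the ideal sheaf of the reduced closure of `y`, its
stalk at `y` is killed by the maximal ideal. -/
theorem stalk_killed_of_killedByIdeal (G : X.Modules) [G.IsQuasicoherent] (y : X)
    (hkill : ClSub.KilledByIdeal
      (Scheme.IdealSheafData.vanishingIdeal ⟨closure {y}, isClosed_closure⟩) G) :
    ∀ a ∈ IsLocalRing.maximalIdeal (X.presheaf.stalk y),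
      ∀ g : ↑(G.presheaf.stalk y), a • g = 0 := by
  obtain ⟨_, ⟨U, hU : IsAffineOpen U, rfl⟩, hyU, -⟩ :=
    X.isBasis_affineOpens.exists_subset_of_mem_open (Set.mem_univ y) isOpen_univ
  obtain ⟨x, rfl⟩ : ∃ x : U, (x : X) = y := ⟨⟨y, hyU⟩, rfl⟩
  intro a ha g
  haveI := hU.isLocalization_stalk x
  haveI := isLocalizedModule_germₗ hU G x
  obtain ⟨⟨r, s⟩, hrs⟩ := IsLocalization.surj (hU.primeIdealOf x).asIdeal.primeCompl a
  obtain ⟨⟨m, t⟩, hmt⟩ := IsLocalizedModule.surj (hU.primeIdealOf x).asIdeal.primeCompl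
    (germₗ G x) g
  have hr : r ∈ (hU.primeIdealOf x).asIdeal := by
    rw [← IsLocalization.AtPrime.to_map_mem_maximal_iff (X.presheaf.stalk (x : X))
      (hU.primeIdealOf x).asIdeal r, ← hrs]
    exact Ideal.mul_mem_right _ _ ha
  have hrm : r • m = 0 :=
    hkill ⟨U, hU⟩ r (mem_vanishingIdeal_of_mem_primeIdealOf hU x r hr) m
  have hsu : IsUnit (algebraMap Γ(X, U) (X.presheaf.stalk (x : X)) s) :=
    IsLocalization.map_units _ s
  have htu : IsUnit (algebraMap Γ(X, U) (X.presheaf.stalk (x : X)) t) :=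
    IsLocalization.map_units _ t
  have h1 : (algebraMap Γ(X, U) (X.presheaf.stalk (x : X)) s *
      algebraMap Γ(X, U) (X.presheaf.stalk (x : X)) t) • (a • g) = 0 := by
    have h2 : algebraMap Γ(X, U) (X.presheaf.stalk (x : X)) r • germₗ G x m = 0 := by
      have := congrArg (germₗ G x) hrm
      rw [map_smul, map_zero] at this
      exact this
    have h3 : germₗ G x m = algebraMap Γ(X, U) (X.presheaf.stalk (x : X)) t • g := hmt.symm
    rw [h3, ← hrs, smul_smul] at h2
    rw [smul_smul]
    convert h2 using 2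
    ring
  have hu := hsu.mul htu
  obtain ⟨u, hu'⟩ := hu
  rw [← hu'] at h1
  have := congrArg (fun z => (↑u⁻¹ : X.presheaf.stalk (x : X)) • z) h1
  simpa [smul_smul] using this

end Killed

section Noeth

attribute [local instance] Abelian.hasFiniteBiproducts

/-- Noetherian induction for dévissage, with an abstract core step. -/
theorem noeth_induction [IsNoetherian X] (P : X.Modules → Prop)
    (hiso : ∀ A B : X.Modules, Nonempty (A ≅ B) → P A → P B)
    (h0 : ∀ A : X.Modules, IsZero A → P A) (T : Set X) (hT : IsClosed T)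
    (hext : ∀ S : ShortComplex X.Modules, S.ShortExact → Coh.IsCoh S.X₁ → Coh.IsCoh S.X₂ →
      Coh.IsCoh S.X₃ → CohB1.support S.X₂ ⊆ T → P S.X₁ → P S.X₃ → P S.X₂)
    (hcore : ∀ x ∈ T, (∀ N : X.Modules, Coh.IsCoh N → CohB1.support N ⊆ closure {x} →
        Subsingleton ↑(N.presheaf.stalk x) → P N) →
      ∀ N : X.Modules, Coh.IsCoh N → CohB1.support N ⊆ closure {x} → P N)
    (M : X.Modules) (hM : Coh.IsCoh M) (hMT : CohB1.support M ⊆ T) : P M := by
  have claim : ∀ (Y : Closeds X) (x : X), x ∈ T → closure {x} = (Y : Set X) →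
      ∀ N : X.Modules, Coh.IsCoh N → CohB1.support N ⊆ closure {x} → P N := by
    intro Y
    induction Y using WellFoundedLT.induction with
    | ind Y ih =>
      intro x hxT hxY N hN hNx
      have hclT : closure {x} ⊆ T := hT.closure_subset_iff.mpr (Set.singleton_subset_iff.mpr hxT)
      refine hcore x hxT ?_ N hN hNx
      intro N' hN' hN'x hsub
      haveI := hN'.1
      have hclosed : IsClosed (CohB1.support N') :=
        Groth.Agent.Lib.Helper1.isClosed_support_of_isFiniteType N' hN'.2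
      refine of_coprimary_pieces P hiso h0 N' hN' ?_ ?_
      · intro S hS h1 h2 h3 h4 hP1 hP3
        exact hext S hS h1 h2 h3 ((h4.trans hN'x).trans hclT) hP1 hP3
      · intro x' hx' N'' hN'' hs1 hs2
        have hx'cl : closure {x'} ⊆ CohB1.support N' :=
          hclosed.closure_subset_iff.mpr (Set.singleton_subset_iff.mpr hx')
        have hx'T : x' ∈ T := hclT (hN'x hx')
        have hlt : (⟨closure {x'}, isClosed_closure⟩ : Closeds X) < Y := by
          refine lt_of_le_of_ne ?_ ?_
          · intro z hz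
            rw [← SetLike.mem_coe, ← hxY]
            exact hN'x (hx'cl hz)
          · intro heq
            have h5 : closure {x'} = closure {x} := by
              rw [hxY, ← heq]
              rfl
            have h6 : x ∈ closure {x'} := h5 ▸ subset_closure (Set.mem_singleton x)
            exact hx'cl h6 hsub
        exact ih _ hlt x' hx'T rfl N'' hN'' hs2
  refine of_coprimary_pieces P hiso h0 M hM ?_ ?_
  · intro S hS h1 h2 h3 h4 hP1 hP3
    exact hext S hS h1 h2 h3 (h4.trans hMT) hP1 hP3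
  · intro x hx N hN _ hs2
    exact claim ⟨closure {x}, isClosed_closure⟩ x (hMT hx) rfl N hN hs2

/-- **Dévissage with roots.** Let `T` be a closed subset of a Noetherian scheme and `P` an
isomorphism-invariant property of modules which holds for zero modules, is closed under extensions,
kernels of epimorphisms and roots of finite powers (for coherent modules supported in `T`), and
such that for every `x ∈ T` there is a coherent `G` supported in `closure {x}` with `P G` whose
stalk at `x` is nonzero and killed by the maximal ideal. Then `P` holds for all coherent modules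
supported in `T`. -/
theorem devissage_roots [IsNoetherian X] (P : X.Modules → Prop)
    (hiso : ∀ A B : X.Modules, Nonempty (A ≅ B) → P A → P B)
    (h0 : ∀ A : X.Modules, IsZero A → P A) (T : Set X) (hT : IsClosed T)
    (hext : ∀ S : ShortComplex X.Modules, S.ShortExact → Coh.IsCoh S.X₁ → Coh.IsCoh S.X₂ →
      Coh.IsCoh S.X₃ → CohB1.support S.X₂ ⊆ T → P S.X₁ → P S.X₃ → P S.X₂)
    (hker : ∀ S : ShortComplex X.Modules, S.ShortExact → Coh.IsCoh S.X₁ → Coh.IsCoh S.X₂ →
      Coh.IsCoh S.X₃ → CohB1.support S.X₂ ⊆ T → P S.X₂ → P S.X₃ → P S.X₁)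
    (hroot : ∀ (F : X.Modules) (n : ℕ), 1 ≤ n → Coh.IsCoh F → CohB1.support F ⊆ T →
      P (⨁ fun _ : Fin n => F) → P F)
    (hgen : ∀ x ∈ T, ∃ G : X.Modules, Coh.IsCoh G ∧ CohB1.support G ⊆ closure {x} ∧ P G ∧
      Nontrivial ↑(G.presheaf.stalk x) ∧
      ∀ a ∈ IsLocalRing.maximalIdeal (X.presheaf.stalk x),
        ∀ g : ↑(G.presheaf.stalk x), a • g = 0)
    (M : X.Modules) (hM : Coh.IsCoh M) (hMT : CohB1.support M ⊆ T) : P M := by
  refine noeth_induction P hiso h0 T hT hext ?_ M hM hMT
  intro x hxT hsmall N hN hNx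
  have hclT : closure {x} ⊆ T := hT.closure_subset_iff.mpr (Set.singleton_subset_iff.mpr hxT)
  obtain ⟨G, hG, hGx, hPG, hnt, hkill⟩ := hgen x hxT
  refine devissage_core_roots P hiso x ?_ ?_ hsmall ?_ G hG hGx hPG hnt hkill N hN hNx
  · intro S hS h1 h2 h3 h4
    exact hext S hS h1 h2 h3 (h4.trans hclT)
  · intro S hS h1 h2 h3 h4
    exact hker S hS h1 h2 h3 (h4.trans hclT)
  · intro F n hn hF hFx
    exact hroot F n hn hF (hFx.trans hclT)

end Noeth

end Groth.Agent.Lib.Helper45.DevRoots
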