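import Mathlib
import Groth.Agent.Lib.Helper45.Dev.DevRoots
import Groth.Agent.Lib.Helper45.Dev.IdealSupport
import Groth.Agent.Lib.Helper67.DevMain
import Groth.Agent.Lib.Helper49.ClosedImmUnit
import Groth.Prelude.Def_Dual3

/-!
# The submodule `J · G` (`Dual3.idealMul`) and dévissage

Shared library of helper45 (namespace `Groth.Agent.Lib.Helper45.IdealMul`).

* `exists_ideal_killing`: a coherent module on a Noetherian scheme is killed by an ideal sheaf
  whose support is contained in the support of the module.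
* `exists_factor_idealMulι`: if `G / G₀` is killed by `J` then `J · G ⊆ G₀`.
-/

set_option autoImplicit false
set_option linter.style.haveILetI false
universe u
open CategoryTheory CategoryTheory.Limits AlgebraicGeometry TopologicalSpace

namespace Groth.Agent.Lib.Helper45.IdealMul

open Groth.Agent.Lib.Helper45 Groth.Agent.Lib.Helper49 Groth.Agent.Lib.Helper45.GraphTrick
  Groth.Agent.Lib.Helper45.DevCore Groth.Agent.Lib.Helper45.CoprimarySheaf
  Groth.Agent.Lib.Helper45.NowhereDense Groth.Agent.Lib.Helper45.DevNoeth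
  Groth.Agent.Lib.Helper45.DevRoots

variable {X : Scheme.{u}}

section Killed

theorem killed_of_isZero (J : X.IdealSheafData) (M : X.Modules) (h : IsZero M) :
    ClSub.KilledByIdeal J M := by
  intro U a _ m
  have hs : Subsingleton Γ(M, U.1) := (isZero_iff_sections_subsingleton M).mp h U.1
  exact hs.elim (a • m) 0

theorem killed_of_iso {J : X.IdealSheafData} {A B : X.Modules} (e : A ≅ B)
    (h : ClSub.KilledByIdeal J A) : ClSub.KilledByIdeal J B := by
  intro U a ha m
  have h1 : e.hom.app U.1 (e.inv.app U.1 m) = m := by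
    have h2 : (e.inv ≫ e.hom).app U.1 m = m := by
      rw [e.inv_hom_id]
      rfl
    exact h2
  have h3 : a • e.inv.app U.1 m = 0 := h U a ha _
  have h4 := Scheme.Modules.Hom.app_smul e.hom a (e.inv.app U.1 m)
  rw [h3, map_zero, h1] at h4
  exact h4.symm

theorem killed_mul_of_shortExact {I J : X.IdealSheafData} (S : ShortComplex X.Modules)
    (hS : S.ShortExact) (h1 : ClSub.KilledByIdeal I S.X₁) (h3 : ClSub.KilledByIdeal J S.X₃) :
    ClSub.KilledByIdeal (I * J) S.X₂ := by
  intro U a ha m
  have hle : I.ideal U * J.ideal U ≤ Module.annihilator Γ(X, U.1) Γ(S.X₂, U.1) := by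
    rw [Ideal.mul_le]
    intro x hx y hy
    rw [Module.mem_annihilator]
    intro m
    have hg : S.g.app U.1 (y • m) = 0 := by
      have := Scheme.Modules.Hom.app_smul S.g y m
      rw [this]
      exact h3 U y hy _
    obtain ⟨m', hm'⟩ := (app_exact_of_shortExact S hS U.1 (y • m)).mp hg
    rw [mul_smul, ← hm']
    have h5 : x • m' = 0 := h1 U x hx m'
    have := Scheme.Modules.Hom.app_smul S.f x m'
    rw [← this]
    exact (congrArg _ h5).trans (map_zero _)
  exact Module.mem_annihilator.mp (hle ha) m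

theorem killed_push_ker {Z : Scheme.{u}} (i : Z ⟶ X) [QuasiCompact i] (I : Z.Modules) :
    ClSub.KilledByIdeal i.ker ((Scheme.Modules.pushforward i).obj I) := by
  intro U a ha m
  rw [Scheme.Hom.ker_apply, RingHom.mem_ker] at ha
  have h1 := pushforward_smul i I U.1 a m
  have h2 : (i.app U.1) a = 0 := ha
  rw [h2, zero_smul] at h1
  exact h1

/-- A coherent module on a Noetherian scheme is killed by an ideal sheaf whose support is
contained in the support of the module. -/
theorem exists_ideal_killing [IsNoetherian X] (C : X.Modules) (hC : Coh.IsCoh C) :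
    ∃ J : X.IdealSheafData, (J.support : Set X) ⊆ CohB1.support C ∧ ClSub.KilledByIdeal J C := by
  obtain ⟨m, F, φ, h0, ⟨ε⟩, hcoh, hstep⟩ := Groth.Agent.Lib.Helper67.Devissage.hasFilt C hC
  have hsuppF : ∀ k j : ℕ, j + k = m → CohB1.support (F j) ⊆ CohB1.support C := by
    intro k
    induction k with
    | zero =>
      intro j hj
      rw [Nat.add_zero] at hj
      subst hj
      exact support_subset_of_mono ε.hom
    | succ k ih =>
      intro j hj
      have hjm : j < m := by omega
      haveI := (hstep j hjm).1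
      exact (support_subset_of_mono (φ j)).trans (ih (j + 1) (by omega))
  have key : ∀ j, j ≤ m → ∃ J : X.IdealSheafData, (J.support : Set X) ⊆ CohB1.support C ∧
      ClSub.KilledByIdeal J (F j) := by
    intro j
    induction j with
    | zero =>
      intro _
      refine ⟨⊤, ?_, killed_of_isZero _ _ h0⟩
      rw [Scheme.IdealSheafData.support_top]
      intro x hx
      exact absurd hx (Set.notMem_empty x)
    | succ j ih =>
      intro hj
      have hjm : j < m := hj
      obtain ⟨J, hJsupp, hJk⟩ := ih hjm.le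
      obtain ⟨hmono, Z, i, hi, hZ, I, ι, hι, hqI, hI, ⟨κ⟩⟩ := hstep j hjm
      haveI := hmono
      haveI := hi
      have hs2 : CohB1.support (F (j + 1)) ⊆ CohB1.support C :=
        hsuppF (m - (j + 1)) (j + 1) (by omega)
      haveI : I.IsQuasicoherent := hqI
      have hrange : Set.range ⇑i ⊆ CohB1.support C := by
        refine (Groth.Agent.Lib.Helper45.IdealSupport.range_subset_support_push i I ι hI).trans ?_
        refine (support_subset_of_mono κ.inv).trans ?_
        exact (support_subset_of_epi (cokernel.π (φ j))).trans hs2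
      refine ⟨J * i.ker, ?_, ?_⟩
      · rw [Scheme.IdealSheafData.support_mul]
        intro x hx
        rcases hx with hx | hx
        · exact hJsupp hx
        · have h1 : (i.ker.support : Set X) = closure (Set.range ⇑i) := i.support_ker
          rw [h1, i.isClosedEmbedding.isClosed_range.closure_eq] at hx
          exact hrange hx
      · exact killed_mul_of_shortExact _ (shortExact_cokernel (φ j)) hJk
          (killed_of_iso κ.symm (killed_push_ker i I))
  obtain ⟨J, h1, h2⟩ := key m le_rfl
  exact ⟨J, h1, killed_of_iso ε h2⟩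

end Killed

section Factor

/-- The unit `C ⟶ i_* i^* C` (`i` the closed immersion cut out by `J`) is an isomorphism if `C` is
quasi-coherent of finite type and killed by `J`. -/
theorem isIso_unit_of_killedByIdeal (J : X.IdealSheafData) (C : X.Modules) [C.IsQuasicoherent]
    (hft : SheafOfModules.IsFiniteType (R := X.ringCatSheaf) C)
    (hk : ClSub.KilledByIdeal J C) :
    IsIso ((Scheme.Modules.pullbackPushforwardAdjunction J.subschemeι).unit.app C) := by
  refine Groth.Agent.Lib.Helper49.ClosedImmUnit.isIso_unit_of_killed J.subschemeι C hft ?_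
  intro U hU a ha m
  refine hk ⟨U, hU⟩ a ?_ m
  have h1 := J.ker_subschemeι_app ⟨U, hU⟩
  rw [← h1, RingHom.mem_ker]
  exact ha

/-- If the cokernel of a monomorphism `j₀ : G₀ ⟶ G` is quasi-coherent of finite type and killed by
`J`, then `J · G ⊆ G₀`. -/
theorem exists_factor_idealMulι (J : X.IdealSheafData) {G₀ G : X.Modules} (j₀ : G₀ ⟶ G) [Mono j₀]
    [(cokernel j₀).IsQuasicoherent]
    (hft : SheafOfModules.IsFiniteType (R := X.ringCatSheaf) (cokernel j₀))
    (hk : ClSub.KilledByIdeal J (cokernel j₀)) :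
    ∃ t : (Dual3.idealMul J).obj G ⟶ G₀, t ≫ j₀ = Dual3.idealMulι J G := by
  haveI := isIso_unit_of_killedByIdeal J (cokernel j₀) hft hk
  let adj := Scheme.Modules.pullbackPushforwardAdjunction J.subschemeι
  have h1 : Dual3.idealMulι J G ≫ adj.unit.app G = 0 := kernel.condition _
  have h2 : (Dual3.idealMulι J G ≫ cokernel.π j₀) ≫ adj.unit.app (cokernel j₀) = 0 := by
    have hnat := adj.unit.naturality (cokernel.π j₀)
    rw [Category.assoc]
    erw [hnat]
    rw [← Category.assoc]
    erw [h1]
    rw [zero_comp]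
  have h3 : Dual3.idealMulι J G ≫ cokernel.π j₀ = 0 := by
    rw [← cancel_mono (adj.unit.app (cokernel j₀)), h2, zero_comp]
  exact ⟨Abelian.monoLift j₀ _ h3, Abelian.monoLift_comp j₀ _ h3⟩

end Factor

section CoreExt

attribute [local instance] Abelian.hasFiniteBiproducts

/-- A morphism out of a coherent module with no associated point other than `ξ` which is injective
on stalks at `ξ` is a monomorphism. -/
theorem mono_of_pure_source [IsLocallyNoetherian X] {A B : X.Modules} (φ : A ⟶ B)
    (hA : Coh.IsCoh A) (hB : B.IsQuasicoherent) (ξ : X)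
    (hinj : Function.Injective (stalkMap φ ξ).hom)
    (hpure : ∀ x, Curv2.IsAssPoint A x → x = ξ) : Mono φ := by
  haveI := hA.1
  have hK : Coh.IsCoh (kernel φ) := isCoh_kernel φ hA hB
  haveI := hK.1
  have hz : IsZero (kernel φ) := by
    rw [Groth.Agent.S1704.result X (kernel φ) hK.1]
    intro x hx
    have h1 := Groth.Agent.Lib.Helper45.PrimaryUnique.isAssPoint_of_mono (kernel.ι φ) hx
    have h2 : x = ξ := hpure x h1
    subst h2
    exact mem_support_of_isAssPoint _ hx ((subsingleton_stalk_kernel_iff φ x).mpr hinj)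
  exact Preadditive.mono_of_kernel_zero (hz.eq_of_src _ _)

variable [IsNoetherian X]
  (P : X.Modules → Prop) (hiso : ∀ A B : X.Modules, Nonempty (A ≅ B) → P A → P B) (ξ : X)
  (hext : ∀ S : ShortComplex X.Modules, S.ShortExact → Coh.IsCoh S.X₁ → Coh.IsCoh S.X₂ →
    Coh.IsCoh S.X₃ → CohB1.support S.X₂ ⊆ closure {ξ} → P S.X₁ → P S.X₃ → P S.X₂)
  (hsmall : ∀ M : X.Modules, Coh.IsCoh M → CohB1.support M ⊆ closure {ξ} →
    Subsingleton ↑(M.presheaf.stalk ξ) → P M)
  (hroot : ∀ (F : X.Modules) (n : ℕ), 1 ≤ n → Coh.IsCoh F → CohB1.support F ⊆ closure {ξ} →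
    P (⨁ fun _ : Fin n => F) → P F)

include hext hsmall hroot in
/-- **Claim A.** Under hypothesis (4) of the dévissage lemma with `J · G`, the property `P` holds
for every coherent module supported in `closure {ξ}` whose stalk at `ξ` is simple. -/
theorem of_simple_stalk (G : X.Modules) (hG : Coh.IsCoh G)
    (hGsupp : CohB1.support G ⊆ closure {ξ})
    (hnt : Nontrivial ↑(G.presheaf.stalk ξ))
    (hkill : ∀ a ∈ IsLocalRing.maximalIdeal (X.presheaf.stalk ξ),
      ∀ g : ↑(G.presheaf.stalk ξ), a • g = 0)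
    (hG4 : ∀ J : X.IdealSheafData, ξ ∉ (J.support : Set X) →
      ∃ (G' : X.Modules) (ι' : G' ⟶ (Dual3.idealMul J).obj G), Mono ι' ∧ G'.IsQuasicoherent ∧
        Function.Bijective (stalkMap (ι' ≫ Dual3.idealMulι J G) ξ).hom ∧ P G')
    (Q : X.Modules) (hQ : Coh.IsCoh Q) (hQsupp : CohB1.support Q ⊆ closure {ξ})
    (hQsimple : IsSimpleModule (X.presheaf.stalk ξ) ↑(Q.presheaf.stalk ξ)) : P Q := by
  haveI := hG.1
  haveI := hQ.1
  haveI : Module.Finite (X.presheaf.stalk ξ) ↑(G.presheaf.stalk ξ) :=
    Groth.Agent.Lib.Helper12.QuasiFlat.finite_stalk_of_isCoh G hG ξ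
  haveI hss : IsSemisimpleModule (X.presheaf.stalk ξ) ↑(G.presheaf.stalk ξ) :=
    isSemisimpleModule_of_killed _ _ hkill
  obtain ⟨n, hn, ⟨e⟩⟩ := exists_linearEquiv_fun_simple (X.presheaf.stalk ξ)
    ↑(G.presheaf.stalk ξ) ↑(Q.presheaf.stalk ξ)
  have hB : Coh.IsCoh (⨁ fun _ : Fin n => Q) := isCoh_biproduct _ (fun _ => hQ)
  have hBsupp : CohB1.support (⨁ fun _ : Fin n => Q) ⊆ closure {ξ} :=
    support_biproduct_subset _ _ (fun _ => hQsupp)
  haveI := hB.1
  let ψe : ↑((⨁ fun _ : Fin n => Q).presheaf.stalk ξ) ≃ₗ[X.presheaf.stalk ξ]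
      ↑(G.presheaf.stalk ξ) :=
    (stalkBiproductEquiv (fun _ : Fin n => Q) ξ).trans e.symm
  obtain ⟨H, q₁, q₂, hH, hbij, hq₂, hjm, hjs⟩ :=
    exists_graph (⨁ fun _ : Fin n => Q) G hB hG ξ ψe.toLinearMap
  haveI := hH.1
  have hHsupp : CohB1.support H ⊆ closure {ξ} := support_graph_subset q₁ q₂ _ hBsupp hGsupp hjs
  have hq₂bij : Function.Bijective (stalkMap q₂ ξ).hom := by
    have : (stalkMap q₂ ξ).hom = ψe ∘ (stalkMap q₁ ξ).hom := funext hq₂
    rw [this]
    exact ψe.bijective.comp hbij
  -- the pure part of the graph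
  obtain ⟨H₀, j, hjmono, hH₀, hjbij, hpure⟩ := exists_pure_sub H hH ξ hHsupp
  haveI := hH₀.1
  have hb₁ : Function.Bijective (stalkMap (j ≫ q₁) ξ).hom := by
    have : (stalkMap (j ≫ q₁) ξ).hom = (stalkMap q₁ ξ).hom ∘ (stalkMap j ξ).hom :=
      funext (stalkMap_comp_apply' j q₁ ξ)
    rw [this]
    exact hbij.comp hjbij
  have hb₂ : Function.Bijective (stalkMap (j ≫ q₂) ξ).hom := by
    have : (stalkMap (j ≫ q₂) ξ).hom = (stalkMap q₂ ξ).hom ∘ (stalkMap j ξ).hom :=
      funext (stalkMap_comp_apply' j q₂ ξ)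
    rw [this]
    exact hq₂bij.comp hjbij
  haveI hm₁ : Mono (j ≫ q₁) := mono_of_pure_source _ hH₀ hB.1 ξ hb₁.1 hpure
  haveI hm₂ : Mono (j ≫ q₂) := mono_of_pure_source _ hH₀ hG.1 ξ hb₂.1 hpure
  -- the cokernel of `H₀ ⟶ G` and an ideal killing it
  have hC : Coh.IsCoh (cokernel (j ≫ q₂)) := isCoh_cokernel _ hH₀.1 hG
  haveI := hC.1
  have hCξ : ξ ∉ CohB1.support (cokernel (j ≫ q₂)) := fun h =>
    h ((subsingleton_stalk_cokernel_iff (j ≫ q₂) ξ).mpr hb₂.2)
  obtain ⟨J, hJsupp, hJk⟩ := exists_ideal_killing (cokernel (j ≫ q₂)) hC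
  obtain ⟨t, ht⟩ := exists_factor_idealMulι J (j ≫ q₂) hC.2 hJk
  obtain ⟨G', ι', hι', hqG', hb', hPG'⟩ := hG4 J (fun h => hCξ (hJsupp h))
  haveI := hι'
  haveI := hqG'
  haveI : Mono t := mono_of_mono_fac ht
  have hG' : Coh.IsCoh G' :=
    ⟨hqG', Groth.Agent.Lib.Helper49.isFiniteType_of_mono (ι' ≫ Dual3.idealMulι J G) hG.2⟩
  -- the stalk map of `ι' ≫ t` at `ξ` is bijective
  have hb₃ : Function.Bijective (stalkMap (ι' ≫ t) ξ).hom := by
    have h1 : (stalkMap (ι' ≫ Dual3.idealMulι J G) ξ).hom =
        (stalkMap (j ≫ q₂) ξ).hom ∘ (stalkMap (ι' ≫ t) ξ).hom := by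
      rw [← ht, ← Category.assoc]
      exact funext (stalkMap_comp_apply' (ι' ≫ t) (j ≫ q₂) ξ)
    rw [h1] at hb'
    refine ⟨Function.Injective.of_comp hb'.1, ?_⟩
    intro y
    obtain ⟨x, hx⟩ := hb'.2 ((stalkMap (j ≫ q₂) ξ).hom y)
    exact ⟨x, hb₂.1 hx⟩
  have hb₄ : Function.Surjective (stalkMap ((ι' ≫ t) ≫ j ≫ q₁) ξ).hom := by
    have : (stalkMap ((ι' ≫ t) ≫ j ≫ q₁) ξ).hom =
        (stalkMap (j ≫ q₁) ξ).hom ∘ (stalkMap (ι' ≫ t) ξ).hom :=
      funext (stalkMap_comp_apply' (ι' ≫ t) (j ≫ q₁) ξ)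
    rw [this]
    exact hb₁.2.comp hb₃.2
  haveI : Mono ((ι' ≫ t) ≫ j ≫ q₁) := mono_comp _ _
  have PB : P (⨁ fun _ : Fin n => Q) :=
    of_generic_mono P ξ hext hsmall ((ι' ≫ t) ≫ j ≫ q₁) hG' hB hBsupp hb₄ hPG'
  exact hroot Q n hn hQ hQsupp PB

include hiso hext hsmall in
/-- **Core of dévissage, extension-only version.** `P` closed under extensions (for coherent
modules supported in `closure {ξ}`) and holding for all coherent modules supported in
`closure {ξ}` with zero or simple stalk at `ξ`; `Q₁` a module with simple stalk at `ξ` and no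
associated point other than `ξ`. Then `P` holds for all coherent modules supported in
`closure {ξ}`. -/
theorem devissage_core_ext
    (hsimple : ∀ Q : X.Modules, Coh.IsCoh Q → CohB1.support Q ⊆ closure {ξ} →
      IsSimpleModule (X.presheaf.stalk ξ) ↑(Q.presheaf.stalk ξ) → P Q)
    (Q₁ : X.Modules) (hQ₁ : Coh.IsCoh Q₁) (hQ₁supp : CohB1.support Q₁ ⊆ closure {ξ})
    (hQ₁simple : IsSimpleModule (X.presheaf.stalk ξ) ↑(Q₁.presheaf.stalk ξ))
    (hpure : ∀ x, Curv2.IsAssPoint Q₁ x → x = ξ)
    (M : X.Modules) (hM : Coh.IsCoh M) (hMsupp : CohB1.support M ⊆ closure {ξ}) : P M := by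
  have key : ∀ (n : ℕ) (M : X.Modules), Coh.IsCoh M → CohB1.support M ⊆ closure {ξ} →
      Module.length (X.presheaf.stalk ξ) ↑(M.presheaf.stalk ξ) ≤ n → P M := by
    intro n
    induction n with
    | zero =>
      intro M hM hsM hlen
      apply hsmall M hM hsM
      have h0 : Module.length (X.presheaf.stalk ξ) ↑(M.presheaf.stalk ξ) = 0 := by
        simpa using hlen
      exact Module.length_eq_zero_iff.mp h0
    | succ n ih =>
      intro M hM hsM hlen
      by_cases hsub : Subsingleton ↑(M.presheaf.stalk ξ)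
      · exact hsmall M hM hsM hsub
      · haveI hnt : Nontrivial ↑(M.presheaf.stalk ξ) := not_subsingleton_iff_nontrivial.mp hsub
        have hfl := isFiniteLength_stalk M hM ξ hsM
        obtain ⟨hNoeth, hArt⟩ := isFiniteLength_iff_isNoetherian_isArtinian.mp hfl
        obtain ⟨ψ, hψ⟩ := exists_surjective_to_simple (X.presheaf.stalk ξ)
          ↑(M.presheaf.stalk ξ) ↑(Q₁.presheaf.stalk ξ)
        obtain ⟨H, q₁, q₂, hH, hbij, hq₂, hjm, hjs⟩ := exists_graph M Q₁ hM hQ₁ ξ ψ
        haveI := hM.1
        haveI := hQ₁.1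
        haveI := hH.1
        have hHsupp : CohB1.support H ⊆ closure {ξ} :=
          support_graph_subset q₁ q₂ _ hsM hQ₁supp hjs
        have hK₂ : Coh.IsCoh (kernel q₂) := isCoh_kernel q₂ hH hQ₁.1
        have sK₂ : CohB1.support (kernel q₂) ⊆ closure {ξ} :=
          (support_subset_of_mono (kernel.ι q₂)).trans hHsupp
        have hq₂surj : Function.Surjective (stalkMap q₂ ξ).hom := by
          intro g
          obtain ⟨m, rfl⟩ := hψ g
          obtain ⟨b, rfl⟩ := hbij.2 m
          exact ⟨b, hq₂ b⟩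
        -- `P` for the kernel of `q₂` by induction
        have PK₂ : P (kernel q₂) := by
          apply ih _ hK₂ sK₂
          let L := stalkMapLinear (kernel.ι q₂ ≫ q₁) ξ
          have hLapp : ∀ b, L b = (stalkMap q₁ ξ).hom ((stalkMap (kernel.ι q₂) ξ).hom b) :=
            fun b => stalkMap_comp_apply' _ _ ξ b
          have hLinj : Function.Injective L := by
            intro a b hab
            rw [hLapp, hLapp] at hab
            exact stalkMap_injective_of_mono (kernel.ι q₂) ξ (hbij.1 hab)
          have hLker : ∀ b, L b ∈ LinearMap.ker ψ := by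
            intro b
            rw [LinearMap.mem_ker, hLapp, ← hq₂]
            exact stalkMap_eq_zero_of_comp_eq_zero _ _ (kernel.condition q₂) ξ b
          let L' : ↑((kernel q₂).presheaf.stalk ξ) →ₗ[X.presheaf.stalk ξ] LinearMap.ker ψ :=
            L.codRestrict _ hLker
          have hL'inj : Function.Injective L' := by
            intro a b hab
            apply hLinj
            exact congrArg Subtype.val hab
          have h1 := Module.length_le_of_injective L' hL'inj
          have hne : LinearMap.ker ψ ≠ ⊤ := by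
            intro htop
            have hzero : ∀ g : ↑(Q₁.presheaf.stalk ξ), g = 0 := by
              intro g
              obtain ⟨m, rfl⟩ := hψ g
              exact LinearMap.mem_ker.mp (htop ▸ Submodule.mem_top)
            haveI : Nontrivial ↑(Q₁.presheaf.stalk ξ) :=
              IsSimpleModule.nontrivial (X.presheaf.stalk ξ) _
            obtain ⟨g, hg⟩ := exists_ne (0 : ↑(Q₁.presheaf.stalk ξ))
            exact hg (hzero g)
          have h2 := Submodule.length_lt hne
          have h3 : Module.length (X.presheaf.stalk ξ) ↑((kernel q₂).presheaf.stalk ξ) <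
              (n : ℕ∞) + 1 := by
            refine lt_of_le_of_lt h1 (lt_of_lt_of_le h2 ?_)
            simpa using hlen
          exact (ENat.lt_add_one_iff (ENat.natCast_ne_top n)).mp h3
        -- `P` for the image of `q₂`, whose stalk at `ξ` is simple
        have hC : Coh.IsCoh (cokernel q₂) := isCoh_cokernel q₂ hH.1 hQ₁
        haveI := hC.1
        have hI : Coh.IsCoh (kernel (cokernel.π q₂)) := isCoh_kernel _ hQ₁ hC.1
        have sI : CohB1.support (kernel (cokernel.π q₂)) ⊆ closure {ξ} :=
          (support_subset_of_mono (kernel.ι (cokernel.π q₂))).trans hQ₁supp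
        have hIbij : Function.Bijective (stalkMap (kernel.ι (cokernel.π q₂)) ξ).hom := by
          refine ⟨stalkMap_injective_of_mono _ ξ, ?_⟩
          intro g
          obtain ⟨b, rfl⟩ := hq₂surj g
          refine ⟨(stalkMap (Abelian.factorThruImage q₂) ξ).hom b, ?_⟩
          rw [← stalkMap_comp_apply']
          have : Abelian.factorThruImage q₂ ≫ kernel.ι (cokernel.π q₂) = q₂ :=
            Abelian.image.fac q₂
          rw [this]
        have hIsimple : IsSimpleModule (X.presheaf.stalk ξ)
            ↑((kernel (cokernel.π q₂)).presheaf.stalk ξ) :=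
          IsSimpleModule.congr
            (LinearEquiv.ofBijective (stalkMapLinear (kernel.ι (cokernel.π q₂)) ξ) hIbij)
        have PI : P (kernel (cokernel.π q₂)) := hsimple _ hI sI hIsimple
        have hCI : Coh.IsCoh (cokernel (kernel.ι q₂)) := isCoh_cokernel _ hK₂.1 hH
        have PCI : P (cokernel (kernel.ι q₂)) := hiso _ _ ⟨(Abelian.coimageIsoImage q₂).symm⟩ PI
        have PH : P H := hext _ (shortExact_cokernel (kernel.ι q₂)) hK₂ hH hCI hHsupp PK₂ PCI
        haveI : Mono q₁ := mono_of_pure q₁ q₂ hH hM.1 hQ₁.1 hjm ξ hbij.1 hpure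
        exact of_generic_mono P ξ hext hsmall q₁ hH hM hsM hbij.2 PH
  have hfl := isFiniteLength_stalk M hM ξ hMsupp
  obtain ⟨n, hn⟩ := ENat.ne_top_iff_exists.mp (Module.length_ne_top_iff.mpr hfl)
  exact key n M hM hMsupp hn.symm.le

end CoreExt

end Groth.Agent.Lib.Helper45.IdealMul
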