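import Mathlib
import Groth.Agent.Lib.Helper45.Dev.IdealMul
import Groth.Agent.Lib.Helper49.ProperSupport
import Groth.Agent.Lib.Helper18.FTApprox

/-!
# Powers of ideal sheaves killing coherent modules

Shared library of helper45 (namespace `Groth.Agent.Lib.Helper45.IdealMulPow`).

* `exists_pow_le_of_support_le`: on a Noetherian scheme, `V(J) ⊆ V(I)` implies `I ^ N ≤ J`.
* `exists_pow_killing`: a coherent module supported in `V(I)` is killed by a power of `I`.
* `stalkMap_idealMulι_surjective`: `J · G ⟶ G` is surjective on stalks off `V(J)`.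
-/

set_option autoImplicit false
set_option linter.style.haveILetI false
universe u
open CategoryTheory CategoryTheory.Limits AlgebraicGeometry TopologicalSpace

namespace Groth.Agent.Lib.Helper45.IdealMulPow

open Groth.Agent.Lib.Helper45 Groth.Agent.Lib.Helper49 Groth.Agent.Lib.Helper45.GraphTrick
  Groth.Agent.Lib.Helper45.DevCore Groth.Agent.Lib.Helper45.CoprimarySheaf
  Groth.Agent.Lib.Helper45.NowhereDense Groth.Agent.Lib.Helper45.DevNoeth
  Groth.Agent.Lib.Helper45.DevRoots Groth.Agent.Lib.Helper45.IdealMul

variable {X : Scheme.{u}}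

theorem le_radical_of_support_le (I J : X.IdealSheafData) (h : J.support ≤ I.support) :
    I ≤ J.radical := by
  have h1 : I ≤ Scheme.IdealSheafData.vanishingIdeal I.support :=
    Scheme.IdealSheafData.le_support_iff_le_vanishingIdeal.mp le_rfl
  have h2 : Scheme.IdealSheafData.vanishingIdeal I.support ≤
      Scheme.IdealSheafData.vanishingIdeal J.support :=
    Scheme.IdealSheafData.vanishingIdeal_antimono h
  rw [Scheme.IdealSheafData.vanishingIdeal_support (I := J)] at h2
  exact h1.trans h2

/-- On a Noetherian scheme, `V(J) ⊆ V(I)` implies that a power of `I` is contained in `J`. -/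
theorem exists_pow_le_of_support_le [IsNoetherian X] (I J : X.IdealSheafData)
    (h : J.support ≤ I.support) : ∃ N : ℕ, I ^ N ≤ J := by
  classical
  have hrad := le_radical_of_support_le I J h
  obtain ⟨T, hT⟩ := Groth.Agent.Lib.Helper18.FTApprox.exists_finite_affine_cover X
  have hloc : ∀ U : X.affineOpens, ∃ n : ℕ, I.ideal U ^ n ≤ J.ideal U := by
    intro U
    haveI : IsNoetherianRing Γ(X, U.1) := IsLocallyNoetherian.component_noetherian U
    have h1 : I.ideal U ≤ (J.ideal U).radical := by
      have := hrad U
      rwa [Scheme.IdealSheafData.radical_ideal] at this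
    exact Ideal.exists_pow_le_of_le_radical_of_fg h1 (IsNoetherian.noetherian _)
  choose n hn using hloc
  refine ⟨T.sup n, ?_⟩
  refine Scheme.IdealSheafData.le_of_iSup_eq_top (fun U : ↥T => (U.1 : X.affineOpens)) hT ?_
  intro U
  rw [Scheme.IdealSheafData.ideal_pow]
  exact (Ideal.pow_le_pow_right (Finset.le_sup U.2)).trans (hn U.1)

theorem killed_of_le {I J : X.IdealSheafData} (h : I ≤ J) {C : X.Modules}
    (hk : ClSub.KilledByIdeal J C) : ClSub.KilledByIdeal I C :=
  fun U a ha m => hk U a (h U ha) m

/-- A coherent module on a Noetherian scheme supported in `V(I)` is killed by a power of `I`. -/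
theorem exists_pow_killing [IsNoetherian X] (I : X.IdealSheafData) (C : X.Modules)
    (hC : Coh.IsCoh C) (hsupp : CohB1.support C ⊆ (I.support : Set X)) :
    ∃ N : ℕ, ClSub.KilledByIdeal (I ^ N) C := by
  obtain ⟨J, hJsupp, hJk⟩ := exists_ideal_killing C hC
  obtain ⟨N, hN⟩ := exists_pow_le_of_support_le I J (fun x hx => hsupp (hJsupp hx))
  exact ⟨N, killed_of_le hN hJk⟩

/-- The inclusion `J · G ⟶ G` is surjective on stalks at points outside `V(J)`. -/
theorem stalkMap_idealMulι_surjective (J : X.IdealSheafData) (G : X.Modules) (x : X)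
    (hx : x ∉ (J.support : Set X)) :
    Function.Surjective (stalkMap (Dual3.idealMulι J G) x).hom := by
  intro g
  have hsub : Subsingleton ↑(((Scheme.Modules.pushforward J.subschemeι).obj
      ((Scheme.Modules.pullback J.subschemeι).obj G)).presheaf.stalk x) := by
    apply Groth.Agent.Lib.Helper49.ProperSupport.subsingleton_stalk_pushforward
    rw [Scheme.IdealSheafData.range_subschemeι]
    exact hx
  exact (stalkMap_eq_zero_iff_exists_kernel
    ((Scheme.Modules.pullbackPushforwardAdjunction J.subschemeι).unit.app G) x g).mp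
    (hsub.elim _ _)

theorem isQuasicoherent_idealMul (J : X.IdealSheafData) (G : X.Modules) [G.IsQuasicoherent] :
    ((Dual3.idealMul J).obj G).IsQuasicoherent := by
  haveI : ((Scheme.Modules.pullback J.subschemeι).obj G).IsQuasicoherent :=
    Groth.Agent.Lib.Helper16.FlatPull.isQuasicoherent_pullback J.subschemeι G
  have hG : ((𝟭 X.Modules).obj G).IsQuasicoherent := ‹G.IsQuasicoherent›
  exact isQuasicoherent_kernel _ hG (isQuasicoherent_pushforward _ J.subschemeι)

theorem isCoh_idealMul [IsLocallyNoetherian X] (J : X.IdealSheafData) (G : X.Modules)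
    (hG : Coh.IsCoh G) : Coh.IsCoh ((Dual3.idealMul J).obj G) := by
  haveI := hG.1
  haveI := isQuasicoherent_idealMul J G
  exact ⟨inferInstance, isFiniteType_of_mono (Dual3.idealMulι J G) hG.2⟩

theorem support_pow_le (I : X.IdealSheafData) (n : ℕ) : (I ^ n).support ≤ I.support := by
  cases n with
  | zero =>
    rw [pow_zero, Scheme.IdealSheafData.one_eq_top, Scheme.IdealSheafData.support_top]
    exact bot_le
  | succ n => rw [Scheme.IdealSheafData.support_pow_succ]

/-- If a morphism restricts to zero on an open `U`, its stalk maps at points of `U` vanish. -/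
theorem stalkMap_eq_zero_of_restrict_eq_zero {M N : X.Modules} (ψ : M ⟶ N) (U : X.Opens)
    (hψ : (Scheme.Modules.restrictFunctor U.ι).map ψ = 0) (y : U)
    (g : ↑(M.presheaf.stalk (U.ι y))) : (stalkMap ψ (U.ι y)).hom g = 0 := by
  obtain ⟨a, rfl⟩ := (restrictStalkIso_hom_bijective U.ι M y).2 g
  rw [← stalkMap_restrict_apply, hψ, stalkMap_zero, map_zero]

end Groth.Agent.Lib.Helper45.IdealMulPow
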