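import Mathlib
import Groth.Agent.Lib.Helper45.Dev.IdealMul
import Groth.Agent.Lib.Helper45.Dev.IdealMulPow

/-!
# Global dévissage with `J · G` (Stacks 30.12.8 / EGA III 3.1.3)

Shared library of helper45 (namespace `Groth.Agent.Lib.Helper45.DevIdealMul`).

* `devissage_idealMul`: `X` Noetherian, `P` an isomorphism-invariant property of modules holding
  for zero modules, closed under extensions of coherent modules and under roots of finite powers.
  If every point `x` carries a coherent `G` supported in `closure {x}` with nonzero stalk at `x`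
  killed by the maximal ideal, such that for every ideal `J` with `x ∉ V(J)` there is a
  quasi-coherent `G' ⊆ J · G` with the same stalk at `x` and `P G'`, then `P` holds for every
  coherent module.
-/

set_option autoImplicit false
set_option linter.style.haveILetI false
universe u
open CategoryTheory CategoryTheory.Limits AlgebraicGeometry TopologicalSpace

namespace Groth.Agent.Lib.Helper45.DevIdealMul

open Groth.Agent.Lib.Helper45 Groth.Agent.Lib.Helper49 Groth.Agent.Lib.Helper45.GraphTrick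
  Groth.Agent.Lib.Helper45.DevCore Groth.Agent.Lib.Helper45.NowhereDense
  Groth.Agent.Lib.Helper45.CoprimarySheaf Groth.Agent.Lib.Helper45.DevRoots
  Groth.Agent.Lib.Helper45.IdealMul Groth.Agent.Lib.Helper45.IdealMulPow

variable {X : Scheme.{u}}

attribute [local instance] Abelian.hasFiniteBiproducts

/-- **Stacks 30.12.8.** Global dévissage with `J · G`. -/
theorem devissage_idealMul [IsNoetherian X] (P : X.Modules → Prop)
    (hiso : ∀ A B : X.Modules, Nonempty (A ≅ B) → P A → P B)
    (h0 : ∀ A : X.Modules, IsZero A → P A)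
    (hext : ∀ S : ShortComplex X.Modules, S.ShortExact → Coh.IsCoh S.X₁ → Coh.IsCoh S.X₂ →
      Coh.IsCoh S.X₃ → P S.X₁ → P S.X₃ → P S.X₂)
    (hroot : ∀ (F : X.Modules) (n : ℕ), 1 ≤ n → Coh.IsCoh F → P (⨁ fun _ : Fin n => F) → P F)
    (hgen : ∀ x : X, ∃ G : X.Modules, Coh.IsCoh G ∧ CohB1.support G ⊆ closure {x} ∧
      Nontrivial ↑(G.presheaf.stalk x) ∧
      (∀ a ∈ IsLocalRing.maximalIdeal (X.presheaf.stalk x),
        ∀ g : ↑(G.presheaf.stalk x), a • g = 0) ∧
      ∀ J : X.IdealSheafData, x ∉ (J.support : Set X) →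
        ∃ (G' : X.Modules) (ι' : G' ⟶ (Dual3.idealMul J).obj G), Mono ι' ∧ G'.IsQuasicoherent ∧
          Function.Bijective (stalkMap (ι' ≫ Dual3.idealMulι J G) x).hom ∧ P G')
    (M : X.Modules) (hM : Coh.IsCoh M) : P M := by
  classical
  refine noeth_induction P hiso h0 Set.univ isClosed_univ
    (fun S hS h1 h2 h3 _ => hext S hS h1 h2 h3) ?_ M hM (Set.subset_univ _)
  intro x _ hsmall N hN hNx
  obtain ⟨G, hG, hGsupp, hnt, hkill, hG4⟩ := hgen x
  have hext' : ∀ S : ShortComplex X.Modules, S.ShortExact → Coh.IsCoh S.X₁ → Coh.IsCoh S.X₂ →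
      Coh.IsCoh S.X₃ → CohB1.support S.X₂ ⊆ closure {x} → P S.X₁ → P S.X₃ → P S.X₂ :=
    fun S hS h1 h2 h3 _ => hext S hS h1 h2 h3
  have hroot' : ∀ (F' : X.Modules) (n : ℕ), 1 ≤ n → Coh.IsCoh F' →
      CohB1.support F' ⊆ closure {x} → P (⨁ fun _ : Fin n => F') → P F' :=
    fun F' n hn hF' _ hPB => hroot F' n hn hF' hPB
  have hsimple := of_simple_stalk P x hext' hsmall hroot' G hG hGsupp hnt hkill hG4
  haveI := hG.1
  haveI : Module.Finite (X.presheaf.stalk x) ↑(G.presheaf.stalk x) :=
    Groth.Agent.Lib.Helper12.QuasiFlat.finite_stalk_of_isCoh G hG x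
  haveI hss : IsSemisimpleModule (X.presheaf.stalk x) ↑(G.presheaf.stalk x) :=
    isSemisimpleModule_of_killed _ _ hkill
  obtain ⟨Q₀, p, hp, hQ₀, hQ₀simple⟩ := exists_simple_quotient G hG x hss hnt
  have hQ₀supp : CohB1.support Q₀ ⊆ closure {x} := (support_subset_of_epi p).trans hGsupp
  obtain ⟨Q₁, j', hj'mono, hQ₁, hj'bij, hpure'⟩ := exists_pure_sub Q₀ hQ₀ x hQ₀supp
  have hQ₁supp : CohB1.support Q₁ ⊆ closure {x} := (support_subset_of_mono j').trans hQ₀supp
  have hQ₁simple : IsSimpleModule (X.presheaf.stalk x) ↑(Q₁.presheaf.stalk x) :=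
    IsSimpleModule.congr (LinearEquiv.ofBijective (stalkMapLinear j' x) hj'bij)
  exact devissage_core_ext P hiso x hext' hsmall hsimple Q₁ hQ₁ hQ₁supp hQ₁simple hpure' N hN hNx

end Groth.Agent.Lib.Helper45.DevIdealMul
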