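import Mathlib

/-!
# The pullback of an ideal sheaf on affine charts

Shared library of helper45 (namespace `Groth.Agent.Lib.Helper45.IdealComap`).

* `ker_eq_map_of_isPushout`: in a pushout square of commutative rings with one leg surjective, the
  kernel of the opposite leg is the extension of the kernel.
* `ideal_comap_preimage`: `(I.comap f)(f⁻¹U) = I(U) · Γ(f⁻¹U)` for `U` and `f⁻¹U` affine.
-/

set_option autoImplicit false
universe u
open CategoryTheory CategoryTheory.Limits AlgebraicGeometry TopologicalSpace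

namespace Groth.Agent.Lib.Helper45.IdealComap

theorem ker_eq_map_of_isPushout {A B A' C : CommRingCat.{u}} (φ : A ⟶ B) (π : A ⟶ A')
    (β : B ⟶ C) (γ : A' ⟶ C) (h : IsPushout φ π β γ) (hπ : Function.Surjective π.hom) :
    RingHom.ker β.hom = (RingHom.ker π.hom).map φ.hom := by
  apply le_antisymm
  · intro b hb
    let q : B →+* (B ⧸ (RingHom.ker π.hom).map φ.hom) := Ideal.Quotient.mk _
    have hle : RingHom.ker π.hom ≤ RingHom.ker (q.comp φ.hom) := by
      intro a ha
      rw [RingHom.mem_ker, RingHom.comp_apply, Ideal.Quotient.eq_zero_iff_mem]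
      exact Ideal.mem_map_of_mem _ ha
    let l : A' →+* (B ⧸ (RingHom.ker π.hom).map φ.hom) :=
      RingHom.liftOfSurjective π.hom hπ ⟨q.comp φ.hom, hle⟩
    have hl : l.comp π.hom = q.comp φ.hom :=
      RingHom.liftOfRightInverse_comp _ _ _ ⟨q.comp φ.hom, hle⟩
    have hw : φ ≫ CommRingCat.ofHom q = π ≫ CommRingCat.ofHom l := by
      ext a
      exact (congrArg (fun k => k a) hl).symm
    have h1 : β ≫ h.desc (CommRingCat.ofHom q) (CommRingCat.ofHom l) hw = CommRingCat.ofHom q :=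
      h.inl_desc _ _ _
    have h2 := congrArg (fun k => k.hom b) h1
    simp only [CommRingCat.hom_comp, RingHom.comp_apply, CommRingCat.hom_ofHom] at h2
    rw [RingHom.mem_ker] at hb
    rw [hb, map_zero] at h2
    exact Ideal.Quotient.eq_zero_iff_mem.mp h2.symm
  · rw [Ideal.map_le_iff_le_comap]
    intro a ha
    rw [Ideal.mem_comap, RingHom.mem_ker]
    have h1 := congrArg (fun k => k.hom a) h.w
    simp only [CommRingCat.hom_comp, RingHom.comp_apply] at h1
    rw [h1, RingHom.mem_ker.mp ha, map_zero]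

variable {X Y : Scheme.{u}}

theorem ker_appLE_of_eq {P : Scheme.{u}} (g : P ⟶ Y) (W : Y.Opens) (V : P.Opens)
    (e : V = g ⁻¹ᵁ W) : RingHom.ker (g.appLE W V e.le).hom = RingHom.ker (g.app W).hom := by
  subst e
  rw [Scheme.Hom.appLE_eq_app]

/-- The pullback ideal sheaf on the preimage of an affine open (when this preimage is affine). -/
theorem ideal_comap_preimage (I : X.IdealSheafData) (f : Y ⟶ X) {U : X.Opens}
    (hU : IsAffineOpen U) (hW : IsAffineOpen (f ⁻¹ᵁ U)) :
    (I.comap f).ideal ⟨f ⁻¹ᵁ U, hW⟩ = (I.ideal ⟨U, hU⟩).map (f.app U).hom := by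
  have H : IsPullback (pullback.fst f I.subschemeι) (pullback.snd f I.subschemeι) f
      I.subschemeι := IsPullback.of_hasPullback f I.subschemeι
  have hZ : IsAffineOpen (I.subschemeι ⁻¹ᵁ U) := hU.preimage I.subschemeι
  have hiso := isIso_pushoutSection_of_isAffineOpen H (le_refl (I.subschemeι ⁻¹ᵁ U))
    (le_refl (f ⁻¹ᵁ U)) rfl hU hZ hW
  have hpo := (isIso_pushoutSection_iff H (le_refl (I.subschemeι ⁻¹ᵁ U))
    (le_refl (f ⁻¹ᵁ U)) rfl).mp hiso
  have hsurj : Function.Surjective (I.subschemeι.appLE U (I.subschemeι ⁻¹ᵁ U) le_rfl).hom := by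
    rw [Scheme.Hom.appLE_eq_app]
    exact I.subschemeι.app_surjective U hU
  have hker := ker_eq_map_of_isPushout _ _ _ _ hpo hsurj
  have hUY : (pullback.fst f I.subschemeι ⁻¹ᵁ (f ⁻¹ᵁ U) ⊓
      pullback.snd f I.subschemeι ⁻¹ᵁ (I.subschemeι ⁻¹ᵁ U)) =
      pullback.fst f I.subschemeι ⁻¹ᵁ (f ⁻¹ᵁ U) := by
    rw [← Scheme.Hom.comp_preimage, ← Scheme.Hom.comp_preimage, pullback.condition, inf_idem]
  rw [ker_appLE_of_eq _ _ _ hUY] at hker
  have h1 : (I.comap f).ideal ⟨f ⁻¹ᵁ U, hW⟩ =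
      RingHom.ker ((pullback.fst f I.subschemeι).app (f ⁻¹ᵁ U)).hom :=
    Scheme.Hom.ker_apply (pullback.fst f I.subschemeι) ⟨f ⁻¹ᵁ U, hW⟩
  rw [h1, hker, Scheme.Hom.appLE_eq_app, Scheme.Hom.appLE_eq_app]
  congr 1
  exact I.ker_subschemeι_app ⟨U, hU⟩

end Groth.Agent.Lib.Helper45.IdealComap
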