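import Mathlib
import Groth.Agent.Lib.Helper45.Dev.IdealMulPow
import Groth.Agent.Lib.Helper45.Dev.IdealComap

/-!
# Sections of `J · G` over affine opens

Shared library of helper45 (namespace `Groth.Agent.Lib.Helper45.IdealMulSections`).

* `range_idealMulι_app`: for `G` quasi-coherent and `U` affine, the image of `Γ(J·G, U)` in
  `Γ(G, U)` is `J(U) · Γ(G, U)`.
* `hom_eq_zero_of_affine`, `exists_factor_of_affine`, `exists_iso_of_affine_range_eq`.
* `idealMul_pushforward_iso`: `I · f_* F ≅ f_* ((f⁻¹ I O_Y) · F)` for `f` affine.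
-/

set_option autoImplicit false
set_option linter.style.haveILetI false
universe u
open CategoryTheory CategoryTheory.Limits AlgebraicGeometry TopologicalSpace

namespace Groth.Agent.Lib.Helper45.IdealMulSections

open Groth.Agent.Lib.Helper45 Groth.Agent.Lib.Helper49 Groth.Agent.Lib.Helper45.GraphTrick
  Groth.Agent.Lib.Helper45.NowhereDense Groth.Agent.Lib.Helper45.IdealMul
  Groth.Agent.Lib.Helper45.IdealMulPow

variable {X : Scheme.{u}}

section Sections

variable (I : X.IdealSheafData) (G : X.Modules)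

/-- The pullback of the inclusion `I · G ⟶ G` to the closed subscheme `V(I)` vanishes. -/
theorem pullback_map_idealMulι_eq_zero :
    (Scheme.Modules.pullback I.subschemeι).map (Dual3.idealMulι I G) = 0 := by
  let adj := Scheme.Modules.pullbackPushforwardAdjunction I.subschemeι
  apply (adj.homEquiv _ _).injective
  rw [adj.homEquiv_unit, adj.homEquiv_unit, Functor.map_zero, comp_zero]
  have hnat := adj.unit.naturality (Dual3.idealMulι I G)
  have h1 : Dual3.idealMulι I G ≫ adj.unit.app G = 0 := kernel.condition _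
  rw [← h1]
  exact hnat.symm

/-- Sections of `I · G` over an affine open. -/
theorem range_idealMulι_app [G.IsQuasicoherent] {U : X.Opens} (hU : IsAffineOpen U) :
    LinearMap.range (appₗ (Dual3.idealMulι I G) U) =
      I.ideal ⟨U, hU⟩ • (⊤ : Submodule Γ(X, U) Γ(G, U)) := by
  haveI := isQuasicoherent_idealMul I G
  have hW : IsAffineOpen (I.subschemeι ⁻¹ᵁ U) := hU.preimage I.subschemeι
  have hsurj : Function.Surjective (I.subschemeι.appLE U (I.subschemeι ⁻¹ᵁ U) le_rfl).hom := by
    rw [Scheme.Hom.appLE_eq_app]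
    exact I.subschemeι.app_surjective U hU
  have hker : RingHom.ker (I.subschemeι.appLE U (I.subschemeι ⁻¹ᵁ U) le_rfl).hom =
      I.ideal ⟨U, hU⟩ := by
    rw [Scheme.Hom.appLE_eq_app]
    exact I.ker_subschemeι_app ⟨U, hU⟩
  apply le_antisymm
  · rintro _ ⟨m, rfl⟩
    have := Groth.Agent.Lib.Helper11.PullbackChart.app_mem_ker_smul_top I.subschemeι hU hW le_rfl
      (Dual3.idealMulι I G) (pullback_map_idealMulι_eq_zero I G) hsurj m
    rw [hker] at this
    exact this
  · rw [Submodule.smul_le]
    intro a ha g _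
    let η := (Scheme.Modules.pullbackPushforwardAdjunction I.subschemeι).unit.app G
    have h1 : η.app U (a • g) = 0 := by
      have h2 := Scheme.Modules.Hom.app_smul η a g
      rw [h2]
      have h3 := pushforward_smul I.subschemeι ((Scheme.Modules.pullback I.subschemeι).obj G) U a
        (η.app U g)
      have h4 : (I.subschemeι.app U) a = 0 := by
        have : a ∈ RingHom.ker (I.subschemeι.app U).hom := by
          rw [I.ker_subschemeι_app ⟨U, hU⟩]
          exact ha
        exact this
      rw [h4, zero_smul] at h3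
      exact h3
    obtain ⟨m, hm⟩ := (app_exact_kernel η U (a • g)).mp h1
    exact ⟨m, hm⟩

end Sections

section Affine

/-- A morphism of modules vanishing on sections over all affine opens is zero. -/
theorem hom_eq_zero_of_affine {A C : X.Modules} (φ : A ⟶ C)
    (h : ∀ U : X.Opens, IsAffineOpen U → ∀ s : Γ(A, U), φ.app U s = 0) : φ = 0 := by
  apply Scheme.Modules.hom_ext
  intro V
  ext s
  change φ.app V s = 0
  apply section_ext_germ C V
  intro x hx
  obtain ⟨_, ⟨U, hU : IsAffineOpen U, rfl⟩, hxU, hUV⟩ :=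
    X.isBasis_affineOpens.exists_subset_of_mem_open hx V.2
  have hUV' : U ≤ V := hUV
  rw [map_zero, ← TopCat.Presheaf.germ_res_apply C.presheaf (homOfLE hUV') x hxU]
  have h1 : C.presheaf.map (homOfLE hUV').op (φ.app V s) =
      φ.app U (A.presheaf.map (homOfLE hUV').op s) := (app_map φ (homOfLE hUV') s).symm
  rw [h1, h U hU, map_zero]

/-- If every section of `A` over an affine open maps into the image of `B`, then `A ⟶ M` factors
through the monomorphism `B ⟶ M`. -/
theorem exists_factor_of_affine {A B M : X.Modules} (a : A ⟶ M) (b : B ⟶ M) [Mono b]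
    (h : ∀ U : X.Opens, IsAffineOpen U → ∀ s : Γ(A, U), ∃ t : Γ(B, U), b.app U t = a.app U s) :
    ∃ c : A ⟶ B, c ≫ b = a := by
  have h0 : a ≫ cokernel.π b = 0 := by
    apply hom_eq_zero_of_affine
    intro U hU s
    obtain ⟨t, ht⟩ := h U hU s
    change (cokernel.π b).app U (a.app U s) = 0
    rw [← ht]
    change (b ≫ cokernel.π b).app U t = 0
    rw [cokernel.condition]
    rfl
  exact ⟨Abelian.monoLift b a h0, Abelian.monoLift_comp b a h0⟩

/-- Two subobjects with the same sections over affine opens are isomorphic. -/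
theorem exists_iso_of_affine_range_eq {A B M : X.Modules} (a : A ⟶ M) (b : B ⟶ M) [Mono a]
    [Mono b]
    (h : ∀ U : X.Opens, IsAffineOpen U → Set.range (a.app U) = Set.range (b.app U)) :
    ∃ e : A ≅ B, e.hom ≫ b = a := by
  obtain ⟨c, hc⟩ := exists_factor_of_affine a b (fun U hU s => by
    have : a.app U s ∈ Set.range (b.app U) := (h U hU) ▸ Set.mem_range_self s
    exact this)
  obtain ⟨d, hd⟩ := exists_factor_of_affine b a (fun U hU s => by
    have : b.app U s ∈ Set.range (a.app U) := (h U hU).symm ▸ Set.mem_range_self s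
    exact this)
  refine ⟨⟨c, d, ?_, ?_⟩, hc⟩
  · rw [← cancel_mono a, Category.assoc, hd, hc, Category.id_comp]
  · rw [← cancel_mono b, Category.assoc, hc, hd, Category.id_comp]

end Affine

section Push

open Groth.Agent.Lib.Helper45.IdealComap

variable {Y : Scheme.{u}} (f : Y ⟶ X) (F : Y.Modules)

/-- `I(U) · Γ(f_* F, U)` and `(I(U) Γ(f⁻¹U)) · Γ(F, f⁻¹U)` have the same elements. -/
theorem mem_smul_top_pushforward_iff (U : X.Opens) (𝔞 : Ideal Γ(X, U))
    (x : Γ((Scheme.Modules.pushforward f).obj F, U)) :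
    x ∈ 𝔞 • (⊤ : Submodule Γ(X, U) Γ((Scheme.Modules.pushforward f).obj F, U)) ↔
      (show Γ(F, f ⁻¹ᵁ U) from x) ∈
        𝔞.map (f.app U).hom • (⊤ : Submodule Γ(Y, f ⁻¹ᵁ U) Γ(F, f ⁻¹ᵁ U)) := by
  constructor
  · intro hx
    refine Submodule.smul_induction_on hx ?_ ?_
    · intro a ha n _
      have h1 := pushforward_smul f F U a n
      have h2 : ((f.app U a) • (show Γ(F, f ⁻¹ᵁ U) from n) : Γ(F, f ⁻¹ᵁ U)) ∈
          𝔞.map (f.app U).hom • (⊤ : Submodule Γ(Y, f ⁻¹ᵁ U) Γ(F, f ⁻¹ᵁ U)) :=
        Submodule.smul_mem_smul (Ideal.mem_map_of_mem _ ha) Submodule.mem_top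
      exact h1 ▸ h2
    · intro x y hx hy
      exact Submodule.add_mem _ hx hy
  · intro hx
    have key : ∀ b ∈ 𝔞.map (f.app U).hom, ∀ n : Γ(F, f ⁻¹ᵁ U),
        (show Γ((Scheme.Modules.pushforward f).obj F, U) from b • n) ∈
          𝔞 • (⊤ : Submodule Γ(X, U) Γ((Scheme.Modules.pushforward f).obj F, U)) := by
      intro b hb
      refine Submodule.span_induction ?_ ?_ ?_ ?_ hb
      · rintro _ ⟨a, ha, rfl⟩ n
        have h1 := pushforward_smul f F U a
          (show Γ((Scheme.Modules.pushforward f).obj F, U) from n)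
        have h2 : a • (show Γ((Scheme.Modules.pushforward f).obj F, U) from n) ∈
            𝔞 • (⊤ : Submodule Γ(X, U) Γ((Scheme.Modules.pushforward f).obj F, U)) :=
          Submodule.smul_mem_smul ha Submodule.mem_top
        exact h1 ▸ h2
      · intro n
        rw [zero_smul]
        exact Submodule.zero_mem _
      · intro b₁ b₂ _ _ h₁ h₂ n
        rw [add_smul]
        exact Submodule.add_mem _ (h₁ n) (h₂ n)
      · intro c b _ hb n
        rw [smul_eq_mul, mul_comm, mul_smul]
        exact hb (c • n)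
    refine Submodule.smul_induction_on hx ?_ ?_
    · intro b hb n _
      exact key b hb n
    · intro x y hx hy
      exact Submodule.add_mem _ hx hy

/-- **`I · f_* F = f_* ((f⁻¹ I O_Y) · F)`** for an affine morphism `f` and quasi-coherent `F`. -/
theorem idealMul_pushforward_iso [IsAffineHom f] [F.IsQuasicoherent] (I : X.IdealSheafData) :
    ∃ e : (Dual3.idealMul I).obj ((Scheme.Modules.pushforward f).obj F) ≅
        (Scheme.Modules.pushforward f).obj ((Dual3.idealMul (I.comap f)).obj F),
      e.hom ≫ (Scheme.Modules.pushforward f).map (Dual3.idealMulι (I.comap f) F) =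
        Dual3.idealMulι I ((Scheme.Modules.pushforward f).obj F) := by
  haveI : ((Scheme.Modules.pushforward f).obj F).IsQuasicoherent :=
    isQuasicoherent_pushforward F f
  haveI : Mono ((Scheme.Modules.pushforward f).map (Dual3.idealMulι (I.comap f) F)) :=
    inferInstance
  refine exists_iso_of_affine_range_eq _ _ fun U hU => ?_
  have hW : IsAffineOpen (f ⁻¹ᵁ U) := hU.preimage f
  have h1 := range_idealMulι_app I ((Scheme.Modules.pushforward f).obj F) hU
  have h2 := range_idealMulι_app (I.comap f) F hW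
  rw [ideal_comap_preimage I f hU hW] at h2
  ext x
  have e1 : x ∈ Set.range ((Dual3.idealMulι I ((Scheme.Modules.pushforward f).obj F)).app U) ↔
      x ∈ LinearMap.range (appₗ (Dual3.idealMulι I ((Scheme.Modules.pushforward f).obj F)) U) :=
    Iff.rfl
  have e2 : x ∈ Set.range (((Scheme.Modules.pushforward f).map
      (Dual3.idealMulι (I.comap f) F)).app U) ↔
      (show Γ(F, f ⁻¹ᵁ U) from x) ∈
        LinearMap.range (appₗ (Dual3.idealMulι (I.comap f) F) (f ⁻¹ᵁ U)) := Iff.rfl
  rw [e1, e2, h1, h2]
  exact mem_smul_top_pushforward_iff f F U _ x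

end Push

end Groth.Agent.Lib.Helper45.IdealMulSections
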