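import Mathlib
import Groth.Agent.Lib.Helper45.Dev.IdealMul
import Groth.Agent.Lib.Helper49.PushforwardFinite
import Groth.Agent.Lib.Helper11.GlobalGen

/-!
# Pure parts without support hypotheses, and Stacks 01YE

Shared library of helper45 (namespace `Groth.Agent.Lib.Helper45.PureSub`).
-/

set_option autoImplicit false
set_option linter.style.haveILetI false
universe u
open CategoryTheory CategoryTheory.Limits AlgebraicGeometry TopologicalSpace

namespace Groth.Agent.Lib.Helper45.PureSub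

open Groth.Agent.Lib.Helper45 Groth.Agent.Lib.Helper49 Groth.Agent.Lib.Helper45.GraphTrick
  Groth.Agent.Lib.Helper45.DevCore Groth.Agent.Lib.Helper45.CoprimarySheaf
  Groth.Agent.Lib.Helper45.NowhereDense Groth.Agent.Lib.Helper45.DevNoeth
  Groth.Agent.Lib.Helper45.DevRoots Groth.Agent.Lib.Helper45.IdealMul

variable {X : Scheme.{u}}

section Specializes

attribute [local instance] stalkModuleSections

/-- If the stalk of a quasi-coherent module at `ξ` is killed by the maximal ideal, then its stalk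
at every proper generization of `ξ` vanishes. -/
theorem subsingleton_stalk_of_specializes (G : X.Modules) [G.IsQuasicoherent] (ξ x : X)
    (hkill : ∀ a ∈ IsLocalRing.maximalIdeal (X.presheaf.stalk ξ),
      ∀ g : ↑(G.presheaf.stalk ξ), a • g = 0)
    (hx : x ⤳ ξ) (hne : x ≠ ξ) : Subsingleton ↑(G.presheaf.stalk x) := by
  obtain ⟨_, ⟨U, hU : IsAffineOpen U, rfl⟩, hξU, -⟩ :=
    X.isBasis_affineOpens.exists_subset_of_mem_open (Set.mem_univ ξ) isOpen_univ
  have hxU : x ∈ U := hx.mem_open U.2 hξU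
  obtain ⟨ξ', rfl⟩ : ∃ ξ' : U, (ξ' : X) = ξ := ⟨⟨ξ, hξU⟩, rfl⟩
  obtain ⟨x', rfl⟩ : ∃ x' : U, (x' : X) = x := ⟨⟨x, hxU⟩, rfl⟩
  have hle : (hU.primeIdealOf x').asIdeal ≤ (hU.primeIdealOf ξ').asIdeal :=
    (primeIdealOf_le_iff hU ξ' x').mpr hx
  have hlt : (hU.primeIdealOf x').asIdeal < (hU.primeIdealOf ξ').asIdeal := by
    refine lt_of_le_of_ne hle fun h => hne ?_
    have := primeIdealOf_injective hU (PrimeSpectrum.ext h)
    rw [this]
  obtain ⟨a, haξ, hax⟩ := SetLike.exists_of_lt hlt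
  haveI := hU.isLocalization_stalk ξ'
  haveI := hU.isLocalization_stalk x'
  haveI := isLocalizedModule_germₗ hU G ξ'
  haveI := isLocalizedModule_germₗ hU G x'
  have hzero : ∀ m : Γ(G, U), germₗ G x' m = 0 := by
    intro m
    have h1 : germₗ G ξ' (a • m) = 0 := by
      rw [map_smul]
      have ha : algebraMap Γ(X, U) (X.presheaf.stalk (ξ' : X)) a ∈
          IsLocalRing.maximalIdeal (X.presheaf.stalk (ξ' : X)) :=
        (IsLocalization.AtPrime.to_map_mem_maximal_iff (X.presheaf.stalk (ξ' : X))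
          (hU.primeIdealOf ξ').asIdeal a).mpr haξ
      exact hkill _ ha _
    obtain ⟨s, hs⟩ := (IsLocalizedModule.eq_zero_iff (hU.primeIdealOf ξ').asIdeal.primeCompl
      (germₗ G ξ')).mp h1
    have hs' : ((s : Γ(X, U)) * a) • m = 0 := by
      rw [mul_smul]
      exact hs
    have hsx : (s : Γ(X, U)) * a ∈ (hU.primeIdealOf x').asIdeal.primeCompl := by
      intro hmem
      rcases (hU.primeIdealOf x').isPrime.mem_or_mem hmem with h | h
      · exact s.2 (hle h)
      · exact hax h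
    exact (IsLocalizedModule.eq_zero_iff (hU.primeIdealOf x').asIdeal.primeCompl
      (germₗ G x')).mpr ⟨⟨_, hsx⟩, hs'⟩
  have h0 : ∀ g : ↑(G.presheaf.stalk (x' : X)), g = 0 := by
    intro g
    obtain ⟨⟨m, t⟩, hmt⟩ := IsLocalizedModule.surj (hU.primeIdealOf x').asIdeal.primeCompl
      (germₗ G x') g
    rw [hzero m] at hmt
    apply IsLocalizedModule.smul_injective (germₗ G x') t
    change t • g = t • 0
    rw [smul_zero]
    exact hmt
  exact ⟨fun g₁ g₂ => by rw [h0 g₁, h0 g₂]⟩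

end Specializes

section Pure

attribute [local instance] Abelian.hasFiniteBiproducts

/-- The pure part at `ξ`, without support hypothesis: a coherent module `G` none of whose
associated points is a proper generization of `ξ` has a coherent submodule with the same stalk at
`ξ` and no associated point other than `ξ`. -/
theorem exists_pure_sub' [IsNoetherian X] (G : X.Modules) (hG : Coh.IsCoh G) (ξ : X)
    (hgen : ∀ x, Curv2.IsAssPoint G x → x ⤳ ξ → x = ξ) :
    ∃ (G₀ : X.Modules) (j : G₀ ⟶ G), Mono j ∧ Coh.IsCoh G₀ ∧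
      Function.Bijective (stalkMap j ξ).hom ∧ ∀ x, Curv2.IsAssPoint G₀ x → x = ξ := by
  classical
  haveI := hG.1
  obtain ⟨Gx, q, -, hGx, hA, hm⟩ := Groth.Agent.S2520.result G hG
  have hfin : (AssSch.Ass G).Finite :=
    (Groth.Agent.S1576.result X G hG ⊤ isCompact_univ).subset (fun x hx => ⟨trivial, hx⟩)
  haveI : Finite (AssSch.Ass G) := hfin.to_subtype
  haveI : Finite {x : AssSch.Ass G // x.1 ≠ ξ} := Subtype.finite
  obtain ⟨m, ⟨e⟩⟩ := Finite.exists_equiv_fin {x : AssSch.Ass G // x.1 ≠ ξ}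
  let f : Fin m → X.Modules := fun k => Gx (e.symm k).1
  let Φ : G ⟶ ∏ᶜ f := Pi.lift (fun k => q (e.symm k).1)
  have hfq : ∀ k, (f k).IsQuasicoherent := fun k => (hGx _).1
  have hprodq : (∏ᶜ f).IsQuasicoherent :=
    isQuasicoherent_finite_limit (Discrete.functor f) (fun j => hfq j.as)
  have hK : Coh.IsCoh (kernel Φ) := isCoh_kernel Φ hG hprodq
  haveI := hK.1
  have hzero : ∀ i : {x : AssSch.Ass G // x.1 ≠ ξ}, kernel.ι Φ ≫ q i.1 = 0 := by
    intro i
    obtain ⟨k, rfl⟩ := e.symm.surjective i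
    have h1 : kernel.ι Φ ≫ Φ ≫ Pi.π f k = 0 := by rw [← Category.assoc, kernel.condition, zero_comp]
    have h2 : Φ ≫ Pi.π f k = q (e.symm k).1 := Pi.lift_π _ _
    rw [h2] at h1
    exact h1
  refine ⟨kernel Φ, kernel.ι Φ, inferInstance, hK, ⟨stalkMap_injective_of_mono _ ξ, ?_⟩, ?_⟩
  · intro g
    have hsub : Subsingleton ↑((∏ᶜ f).presheaf.stalk ξ) := by
      apply subsingleton_stalk_of_iso (biproduct.isoProduct f).symm ξ
      haveI : ∀ k, Subsingleton ↑((f k).presheaf.stalk ξ) := by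
        intro k
        by_contra hne
        have h1 : ξ ∈ closure {((e.symm k).1 : AssSch.Ass G).1} :=
          support_subset_closure_of_ass_eq (f k) (hGx _) _ (hA _) hne
        have h3 : ((e.symm k).1 : AssSch.Ass G).1 ⤳ ξ := specializes_iff_mem_closure.mpr h1
        exact (e.symm k).2 (hgen _ (e.symm k).1.2 h3)
      exact (stalkBiproductEquiv f ξ).toEquiv.subsingleton
    exact (stalkMap_eq_zero_iff_exists_kernel Φ ξ g).mp (hsub.elim _ _)
  · intro x hx
    by_cases hξ : Curv2.IsAssPoint G ξ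
    · let ξ' : AssSch.Ass G := ⟨ξ, hξ⟩
      haveI : (Gx ξ').IsQuasicoherent := (hGx ξ').1
      haveI : Mono (kernel.ι Φ ≫ q ξ') := by
        refine ⟨fun {T} a b hab => ?_⟩
        rw [← cancel_mono (kernel.ι Φ)]
        refine hm T _ _ fun y => ?_
        by_cases hy : y.1 = ξ
        · have : y = ξ' := Subtype.ext hy
          subst this
          simpa only [Category.assoc] using hab
        · rw [Category.assoc, Category.assoc, hzero ⟨y, hy⟩, comp_zero, comp_zero]
      have h1 := Groth.Agent.Lib.Helper45.PrimaryUnique.isAssPoint_of_mono (kernel.ι Φ ≫ q ξ') hx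
      have h2 : x ∈ AssSch.Ass (Gx ξ') := h1
      rw [hA ξ'] at h2
      exact h2
    · exfalso
      have hι : kernel.ι Φ = 0 := by
        refine hm _ _ _ fun y => ?_
        have hy : y.1 ≠ ξ := fun h => hξ (h ▸ y.2)
        rw [hzero ⟨y, hy⟩, zero_comp]
      have hz : IsZero (kernel Φ) := by
        rw [IsZero.iff_id_eq_zero, ← cancel_mono (kernel.ι Φ), hι, comp_zero, comp_zero]
      exact (Groth.Agent.S1704.result X (kernel Φ) hK.1).mp hz x hx

/-- Variant: the stalk of `G` at `ξ` is killed by the maximal ideal. -/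
theorem exists_pure_sub_of_killed [IsNoetherian X] (G : X.Modules) (hG : Coh.IsCoh G) (ξ : X)
    (hkill : ∀ a ∈ IsLocalRing.maximalIdeal (X.presheaf.stalk ξ),
      ∀ g : ↑(G.presheaf.stalk ξ), a • g = 0) :
    ∃ (G₀ : X.Modules) (j : G₀ ⟶ G), Mono j ∧ Coh.IsCoh G₀ ∧
      Function.Bijective (stalkMap j ξ).hom ∧ ∀ x, Curv2.IsAssPoint G₀ x → x = ξ := by
  haveI := hG.1
  refine exists_pure_sub' G hG ξ fun x hx hsp => ?_
  by_contra hne
  exact mem_support_of_isAssPoint G hx (subsingleton_stalk_of_specializes G ξ x hkill hsp hne)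

end Pure

section StructurePush

variable {Z : Scheme.{u}} (i : Z ⟶ X) [IsClosedImmersion i] [IsIntegral Z]

theorem closure_image_genericPoint : closure {i (genericPoint Z)} = Set.range ⇑i := by
  have h2 := i.isClosedEmbedding.closure_image_eq ({genericPoint Z} : Set Z)
  rw [Set.image_singleton, (genericPoint_spec Z).def, Set.image_univ] at h2
  exact h2

omit [IsIntegral Z] in
theorem isCoh_push_structureModule [IsLocallyNoetherian X] :
    Coh.IsCoh ((Scheme.Modules.pushforward i).obj (Coh.structureModule Z)) := by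
  haveI : (Coh.structureModule Z).IsQuasicoherent :=
    Groth.Agent.Lib.Helper1.isQuasicoherent_structureModule Z
  exact ⟨isQuasicoherent_pushforward _ i, isFiniteType_pushforward_of_isFinite i _
    (Groth.Agent.Lib.Helper11.GenLocus.isFiniteType_structureModule Z)⟩

theorem app_eq_zero_of_mem_vanishingIdeal (U : X.affineOpens) (a : Γ(X, U.1))
    (ha : a ∈ (Scheme.IdealSheafData.vanishingIdeal
      ⟨closure {i (genericPoint Z)}, isClosed_closure⟩).ideal U) : (i.app U.1) a = 0 := by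
  rw [← basicOpen_eq_bot_iff, ← Scheme.preimage_basicOpen]
  ext z
  constructor
  · intro hz
    exfalso
    have hz' : i z ∈ X.basicOpen a := hz
    have hzU : i z ∈ U.1 := X.basicOpen_le a hz'
    rw [Scheme.IdealSheafData.vanishingIdeal_ideal, PrimeSpectrum.mem_vanishingIdeal] at ha
    have h1 := ha (U.2.primeIdealOf ⟨i z, hzU⟩) (by
      rw [Set.mem_preimage, U.2.fromSpec_primeIdealOf ⟨i z, hzU⟩]
      change i z ∈ closure {i (genericPoint Z)}
      rw [closure_image_genericPoint]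
      exact Set.mem_range_self z)
    exact (mem_basicOpen_iff_not_mem_primeIdealOf U.2 ⟨i z, hzU⟩ a).mp hz' h1
  · intro h
    exact absurd h (Set.notMem_empty z)

theorem killed_push_structureModule :
    ClSub.KilledByIdeal (Scheme.IdealSheafData.vanishingIdeal
      ⟨closure {i (genericPoint Z)}, isClosed_closure⟩)
      ((Scheme.Modules.pushforward i).obj (Coh.structureModule Z)) := by
  intro U a ha m
  have h0 := app_eq_zero_of_mem_vanishingIdeal i U a ha
  have h1 := pushforward_smul i (Coh.structureModule Z) U.1 a m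
  rw [h0, zero_smul] at h1
  exact h1

attribute [local instance] stalkModuleSections in
/-- The stalk of `i_* O_Z` at the image of the generic point of the integral closed subscheme `Z`
is a simple module. -/
theorem isSimpleModule_stalk_push_structureModule :
    IsSimpleModule (X.presheaf.stalk (i (genericPoint Z)))
      ↑(((Scheme.Modules.pushforward i).obj (Coh.structureModule Z)).presheaf.stalk
        (i (genericPoint Z))) := by
  haveI : (Coh.structureModule Z).IsQuasicoherent :=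
    Groth.Agent.Lib.Helper1.isQuasicoherent_structureModule Z
  haveI hq : ((Scheme.Modules.pushforward i).obj (Coh.structureModule Z)).IsQuasicoherent :=
    isQuasicoherent_pushforward _ i
  have hkill := stalk_killed_of_killedByIdeal
    ((Scheme.Modules.pushforward i).obj (Coh.structureModule Z)) (i (genericPoint Z))
    (killed_push_structureModule i)
  obtain ⟨_, ⟨U, hU : IsAffineOpen U, rfl⟩, hξU, -⟩ :=
    X.isBasis_affineOpens.exists_subset_of_mem_open (Set.mem_univ (i (genericPoint Z))) isOpen_univ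
  generalize hξ : i (genericPoint Z) = ξ at hkill hξU ⊢
  obtain ⟨ξ', rfl⟩ : ∃ ξ' : U, (ξ' : X) = ξ := ⟨⟨ξ, hξU⟩, rfl⟩
  set O := (Scheme.Modules.pushforward i).obj (Coh.structureModule Z) with hO
  let one : Γ(O, U) := (1 : Γ(Z, i ⁻¹ᵁ U))
  haveI := hU.isLocalization_stalk ξ'
  haveI := isLocalizedModule_germₗ hU O ξ'
  -- every section is a multiple of `one`
  have hsec : ∀ m : Γ(O, U), ∃ r : Γ(X, U), r • one = m := by
    intro m
    obtain ⟨r, hr⟩ := i.app_surjective U hU (show Γ(Z, i ⁻¹ᵁ U) from m)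
    refine ⟨r, ?_⟩
    have h1 := pushforward_smul i (Coh.structureModule Z) U r one
    rw [h1]
    change (i.app U r) * (1 : Γ(Z, i ⁻¹ᵁ U)) = _
    rw [mul_one]
    exact hr
  -- the stalk is cyclic
  have hcyc : ∀ g : ↑(O.presheaf.stalk (ξ' : X)), ∃ r : X.presheaf.stalk (ξ' : X),
      r • germₗ O ξ' one = g := by
    intro g
    obtain ⟨⟨m, t⟩, hmt⟩ := IsLocalizedModule.surj (hU.primeIdealOf ξ').asIdeal.primeCompl
      (germₗ O ξ') g
    obtain ⟨r, rfl⟩ := hsec m
    have htu : IsUnit (algebraMap Γ(X, U) (X.presheaf.stalk (ξ' : X)) t) :=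
      IsLocalization.map_units _ t
    obtain ⟨u, hu⟩ := htu
    refine ⟨↑u⁻¹ * algebraMap Γ(X, U) (X.presheaf.stalk (ξ' : X)) r, ?_⟩
    have h2 : (u : X.presheaf.stalk (ξ' : X)) • g =
        algebraMap Γ(X, U) (X.presheaf.stalk (ξ' : X)) r • germₗ O ξ' one := by
      rw [hu]
      have h3 : germₗ O ξ' (r • one) = r • germₗ O ξ' one := map_smul _ _ _
      rw [h3] at hmt
      exact hmt
    rw [mul_smul, ← h2, smul_smul, Units.inv_mul, one_smul]
  -- the generator is nonzero
  have hne : germₗ O ξ' one ≠ 0 := by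
    intro h0
    obtain ⟨s, hs⟩ := (IsLocalizedModule.eq_zero_iff (hU.primeIdealOf ξ').asIdeal.primeCompl
      (germₗ O ξ')).mp h0
    have h1 := pushforward_smul i (Coh.structureModule Z) U (s : Γ(X, U)) one
    have h2 : (i.app U (s : Γ(X, U))) = 0 := by
      have h3 : (i.app U (s : Γ(X, U))) * (1 : Γ(Z, i ⁻¹ᵁ U)) = 0 := h1.symm.trans hs
      rwa [mul_one] at h3
    have h4 : Z.basicOpen (i.app U (s : Γ(X, U))) = ⊥ := by
      rw [h2]
      exact Scheme.basicOpen_zero Z _
    rw [← Scheme.preimage_basicOpen] at h4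
    have h5 : genericPoint Z ∈ i ⁻¹ᵁ X.basicOpen (s : Γ(X, U)) := by
      change i (genericPoint Z) ∈ X.basicOpen (s : Γ(X, U))
      rw [hξ]
      exact (mem_basicOpen_iff_not_mem_primeIdealOf hU ξ' _).mpr s.2
    rw [h4] at h5
    exact h5
  rw [isSimpleModule_iff_toSpanSingleton_surjective]
  refine ⟨⟨germₗ O ξ' one, 0, hne⟩, fun x hx y => ?_⟩
  obtain ⟨r, rfl⟩ := hcyc x
  obtain ⟨s, rfl⟩ := hcyc y
  have hr : IsUnit r := by
    by_contra h
    exact hx (hkill r ((IsLocalRing.mem_maximalIdeal r).mpr h) _)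
  obtain ⟨u, rfl⟩ := hr
  refine ⟨s * ↑u⁻¹, ?_⟩
  rw [LinearMap.toSpanSingleton_apply, smul_smul, mul_assoc, Units.inv_mul, mul_one]

end StructurePush

section Main

attribute [local instance] Abelian.hasFiniteBiproducts

open Groth.Agent.Lib.Helper67.Devissage in
/-- **Stacks 01YE.** Let `i : Z ⟶ X` be an integral closed subscheme of a Noetherian scheme with
generic point `ξ` and `F` a coherent module whose stalk at `ξ` is killed by the maximal ideal. Then
there are `r`, a coherent ideal `I ⊆ O_Z` and a monomorphism `i_* (I^{⊕ r}) ⟶ F` which is bijective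
on stalks at `ξ`. -/
theorem exists_mono_push_ideal_power [IsNoetherian X] {Z : Scheme.{u}} (i : Z ⟶ X)
    [IsClosedImmersion i] [IsIntegral Z] (F : X.Modules) (hF : Coh.IsCoh F)
    (hann : ∀ a ∈ IsLocalRing.maximalIdeal (X.presheaf.stalk (i (genericPoint Z))),
      ∀ m : ↑(F.presheaf.stalk (i (genericPoint Z))), a • m = 0) :
    ∃ (r : ℕ) (I : Z.Modules) (ι : I ⟶ Coh.structureModule Z)
      (φ : (Scheme.Modules.pushforward i).obj (⨁ fun _ : Fin r => I) ⟶ F),
      Mono ι ∧ Coh.IsCoh I ∧ Mono φ ∧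
        Function.Bijective (stalkMap φ (i (genericPoint Z))).hom := by
  have hOs := isSimpleModule_stalk_push_structureModule i
  generalize i (genericPoint Z) = ξ at hann hOs
  set O := (Scheme.Modules.pushforward i).obj (Coh.structureModule Z) with hOdef
  have hO : Coh.IsCoh O := isCoh_push_structureModule i
  haveI := hOs
  haveI := hF.1
  haveI := hO.1
  haveI : Module.Finite (X.presheaf.stalk ξ) ↑(F.presheaf.stalk ξ) :=
    Groth.Agent.Lib.Helper12.QuasiFlat.finite_stalk_of_isCoh F hF ξ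
  haveI hss : IsSemisimpleModule (X.presheaf.stalk ξ) ↑(F.presheaf.stalk ξ) :=
    isSemisimpleModule_of_killed _ _ hann
  have hiso : IsIsotypicOfType (X.presheaf.stalk ξ) ↑(F.presheaf.stalk ξ)
      ↑(O.presheaf.stalk ξ) := fun m _ => nonempty_linearEquiv_of_simple _ m _
  obtain ⟨r, ⟨e⟩⟩ := hiso.linearEquiv_fun
  have hB : Coh.IsCoh (⨁ fun _ : Fin r => O) := isCoh_biproduct _ (fun _ => hO)
  haveI := hB.1
  let ψe : ↑((⨁ fun _ : Fin r => O).presheaf.stalk ξ) ≃ₗ[X.presheaf.stalk ξ]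
      ↑(F.presheaf.stalk ξ) :=
    (stalkBiproductEquiv (fun _ : Fin r => O) ξ).trans e.symm
  obtain ⟨H, q₁, q₂, hH, hbij, hq₂, hjm, hjs⟩ :=
    exists_graph (⨁ fun _ : Fin r => O) F hB hF ξ ψe.toLinearMap
  haveI := hH.1
  have hq₂bij : Function.Bijective (stalkMap q₂ ξ).hom := by
    have : (stalkMap q₂ ξ).hom = ψe ∘ (stalkMap q₁ ξ).hom := funext hq₂
    rw [this]
    exact ψe.bijective.comp hbij
  have hHkill : ∀ a ∈ IsLocalRing.maximalIdeal (X.presheaf.stalk ξ),
      ∀ h : ↑(H.presheaf.stalk ξ), a • h = 0 := by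
    intro a ha h
    apply hq₂bij.1
    rw [map_zero, stalkMap_smul, hann a ha]
  obtain ⟨H₀, j, hjmono, hH₀, hjbij, hpure⟩ := exists_pure_sub_of_killed H hH ξ hHkill
  haveI := hH₀.1
  have hb₁ : Function.Bijective (stalkMap (j ≫ q₁) ξ).hom := by
    have : (stalkMap (j ≫ q₁) ξ).hom = (stalkMap q₁ ξ).hom ∘ (stalkMap j ξ).hom :=
      funext (stalkMap_comp_apply' j q₁ ξ)
    rw [this]
    exact hbij.comp hjbij
  have hb₂ : Function.Bijective (stalkMap (j ≫ q₂) ξ).hom := by
    have : (stalkMap (j ≫ q₂) ξ).hom = (stalkMap q₂ ξ).hom ∘ (stalkMap j ξ).hom :=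
      funext (stalkMap_comp_apply' j q₂ ξ)
    rw [this]
    exact hq₂bij.comp hjbij
  haveI hm₁ : Mono (j ≫ q₁) := mono_of_pure_source _ hH₀ hB.1 ξ hb₁.1 hpure
  haveI hm₂ : Mono (j ≫ q₂) := mono_of_pure_source _ hH₀ hF.1 ξ hb₂.1 hpure
  -- the cokernel of `H₀ ⟶ B` and the coordinate ideal
  have hC : Coh.IsCoh (cokernel (j ≫ q₁)) := isCoh_cokernel _ hH₀.1 hB
  have hCξ : Subsingleton ↑((cokernel (j ≫ q₁)).presheaf.stalk ξ) :=
    (subsingleton_stalk_cokernel_iff (j ≫ q₁) ξ).mpr hb₁.2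
  let Θ : O ⟶ ⨁ fun _ : Fin r => cokernel (j ≫ q₁) :=
    biproduct.lift (fun k => biproduct.ι (fun _ : Fin r => O) k ≫ cokernel.π (j ≫ q₁))
  have hBC : Coh.IsCoh (⨁ fun _ : Fin r => cokernel (j ≫ q₁)) :=
    isCoh_biproduct _ (fun _ => hC)
  have hI' : Coh.IsCoh (kernel Θ) := isCoh_kernel Θ hO hBC.1
  haveI := hI'.1
  have hp₁ : Function.Bijective (stalkMap (kernel.ι Θ) ξ).hom := by
    refine ⟨stalkMap_injective_of_mono _ ξ, fun g => ?_⟩
    have hsub : Subsingleton ↑((⨁ fun _ : Fin r => cokernel (j ≫ q₁)).presheaf.stalk ξ) := by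
      haveI : ∀ k : Fin r, Subsingleton
          ↑(((fun _ : Fin r => cokernel (j ≫ q₁)) k).presheaf.stalk ξ) := fun _ => hCξ
      exact (stalkBiproductEquiv (fun _ : Fin r => cokernel (j ≫ q₁)) ξ).toEquiv.subsingleton
    exact (stalkMap_eq_zero_iff_exists_kernel Θ ξ g).mp (hsub.elim _ _)
  let σ : (⨁ fun _ : Fin r => kernel Θ) ⟶ ⨁ fun _ : Fin r => O :=
    biproduct.map (fun _ => kernel.ι Θ)
  have hσπ : σ ≫ cokernel.π (j ≫ q₁) = 0 := by
    apply biproduct.hom_ext'
    intro k
    rw [comp_zero, biproduct.ι_map_assoc]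
    have h1 : Θ ≫ biproduct.π _ k =
        biproduct.ι (fun _ : Fin r => O) k ≫ cokernel.π (j ≫ q₁) := biproduct.lift_π _ _
    rw [← h1, ← Category.assoc, kernel.condition, zero_comp]
  let τ : (⨁ fun _ : Fin r => kernel Θ) ⟶ H₀ := Abelian.monoLift (j ≫ q₁) σ hσπ
  have hτ : τ ≫ (j ≫ q₁) = σ := Abelian.monoLift_comp _ _ _
  haveI : Mono σ := biproduct.map_mono _
  haveI : Mono τ := mono_of_mono_fac hτ
  have hσsurj : Function.Surjective (stalkMap σ ξ).hom := by
    intro b
    choose c hc using fun k : Fin r =>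
      hp₁.2 ((stalkMap (biproduct.π (fun _ : Fin r => O) k) ξ).hom b)
    refine ⟨(stalkBiproductEquiv (fun _ : Fin r => kernel Θ) ξ).symm c, ?_⟩
    apply (stalkBiproductEquiv (fun _ : Fin r => O) ξ).injective
    funext k
    rw [stalkBiproductEquiv_apply, stalkBiproductEquiv_apply, ← stalkMap_comp_apply',
      biproduct.map_π, stalkMap_comp_apply', ← hc k]
    congr 1
    have := stalkBiproductEquiv_apply (fun _ : Fin r => kernel Θ) ξ
      ((stalkBiproductEquiv (fun _ : Fin r => kernel Θ) ξ).symm c) k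
    rw [← this, LinearEquiv.apply_symm_apply]
  have hτsurj : Function.Surjective (stalkMap τ ξ).hom := by
    intro h
    obtain ⟨a, ha⟩ := hσsurj ((stalkMap (j ≫ q₁) ξ).hom h)
    refine ⟨a, hb₁.1 ?_⟩
    rw [← stalkMap_comp_apply', hτ]
    exact ha
  have hφ₀ : Function.Bijective (stalkMap (τ ≫ j ≫ q₂) ξ).hom := by
    refine ⟨stalkMap_injective_of_mono _ ξ, ?_⟩
    have : (stalkMap (τ ≫ j ≫ q₂) ξ).hom = (stalkMap (j ≫ q₂) ξ).hom ∘ (stalkMap τ ξ).hom :=
      funext (stalkMap_comp_apply' τ (j ≫ q₂) ξ)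
    rw [this]
    exact hb₂.2.comp hτsurj
  -- transfer to `Z`
  let adj := Scheme.Modules.pullbackPushforwardAdjunction i
  have hk : ∀ (U : X.Opens), IsAffineOpen U → ∀ a : Γ(X, U), (i.app U).hom a = 0 →
      ∀ m : Γ(kernel Θ, U), a • m = 0 := by
    intro U hU a ha m
    apply Groth.Agent.Lib.Helper45.app_injective_of_mono (kernel.ι Θ) U
    rw [map_zero]
    have h1 := Scheme.Modules.Hom.app_smul (kernel.ι Θ) a m
    rw [h1]
    have h2 := pushforward_smul i (Coh.structureModule Z) U a ((kernel.ι Θ).app U m)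
    have h3 : (i.app U) a = 0 := ha
    rw [h3, zero_smul] at h2
    exact h2
  haveI hu : IsIso (adj.unit.app (kernel Θ)) :=
    Groth.Agent.Lib.Helper49.ClosedImmUnit.isIso_unit_of_killed i (kernel Θ) hI'.2 hk
  let I := (Scheme.Modules.pullback i).obj (kernel Θ)
  let ι : I ⟶ Coh.structureModule Z := (adj.homEquiv (kernel Θ) _).symm (kernel.ι Θ)
  have hι : adj.unit.app (kernel Θ) ≫ (Scheme.Modules.pushforward i).map ι = kernel.ι Θ :=
    (adj.homEquiv (kernel Θ) _).apply_symm_apply (kernel.ι Θ)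
  have hmι : Mono ((Scheme.Modules.pushforward i).map ι) := by
    have h1 : (Scheme.Modules.pushforward i).map ι = inv (adj.unit.app (kernel Θ)) ≫ kernel.ι Θ := by
      rw [← hι, IsIso.inv_hom_id_assoc]
    rw [h1]
    exact mono_comp _ _
  have hI : Coh.IsCoh I :=
    ⟨Groth.Agent.Lib.Helper16.FlatPull.isQuasicoherent_pullback i (kernel Θ),
      Groth.Agent.Lib.Helper49.ClosedImmUnit.isFiniteType_pullback i (kernel Θ) hI'.2⟩
  let e₁ : (Scheme.Modules.pushforward i).obj (⨁ fun _ : Fin r => I) ≅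
      ⨁ fun _ : Fin r => (Scheme.Modules.pushforward i).obj I :=
    (Scheme.Modules.pushforward i).mapBiproduct (fun _ : Fin r => I)
  let e₂ : (⨁ fun _ : Fin r => (Scheme.Modules.pushforward i).obj I) ≅
      ⨁ fun _ : Fin r => kernel Θ :=
    biproduct.mapIso (fun _ => (asIso (adj.unit.app (kernel Θ))).symm)
  refine ⟨r, I, ι, (e₁ ≪≫ e₂).hom ≫ τ ≫ j ≫ q₂,
    Functor.mono_of_mono_map (Scheme.Modules.pushforward i) hmι, hI, mono_comp _ _, ?_⟩
  have : (stalkMap ((e₁ ≪≫ e₂).hom ≫ τ ≫ j ≫ q₂) ξ).hom =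
      (stalkMap (τ ≫ j ≫ q₂) ξ).hom ∘ (stalkMap (e₁ ≪≫ e₂).hom ξ).hom :=
    funext (stalkMap_comp_apply' _ _ ξ)
  rw [this]
  exact hφ₀.comp ⟨stalkMap_injective_of_mono _ ξ, stalkMap_surjective_of_epi _ ξ⟩

end Main

end Groth.Agent.Lib.Helper45.PureSub
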