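import Mathlib
import Groth.Agent.Lib.Helper45.Dev.IdealMulSections
import Groth.Agent.Lib.Helper45.Dev.PureSub

/-!
# Morphisms out of direct images which are isomorphisms at a given point

Shared library of helper45 (namespace `Groth.Agent.Lib.Helper45.FiniteGeneric`).

* `exists_hom_from_pushforward`: for an affine morphism `f : X ⟶ Y` to a Noetherian scheme, a
  coherent `E` on `X` with `f_* E` coherent, a coherent `B` on `Y` and an isomorphism of stalks
  `(f_* E)_ξ ≃ B_ξ` (the stalk being killed by the maximal ideal), there are a coherent submodule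
  `G ⊆ E` and a morphism `f_* G ⟶ B` which is bijective on stalks at `ξ`.
* `nontrivial_stalk_push_structureModule`: stalks of `f_* O_X` are nonzero for surjective qcqs `f`.
* `exists_hom_power`: `f` finite surjective, `O_{Y,ξ}` a field, `F` coherent: there are `d > 0`,
  a coherent `G` on `X` and `f_* G ⟶ F^d` bijective on stalks at `ξ`.
-/

set_option autoImplicit false
set_option linter.style.haveILetI false
universe u
open CategoryTheory CategoryTheory.Limits AlgebraicGeometry TopologicalSpace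

namespace Groth.Agent.Lib.Helper45.FiniteGeneric

open Groth.Agent.Lib.Helper45 Groth.Agent.Lib.Helper49 Groth.Agent.Lib.Helper45.GraphTrick
  Groth.Agent.Lib.Helper45.NowhereDense Groth.Agent.Lib.Helper45.IdealMul
  Groth.Agent.Lib.Helper45.IdealMulPow Groth.Agent.Lib.Helper45.IdealMulSections
  Groth.Agent.Lib.Helper45.PureSub Groth.Agent.Lib.Helper45.DevRoots

variable {X Y : Scheme.{u}}

theorem exists_hom_from_pushforward [IsNoetherian Y] [IsLocallyNoetherian X] (f : X ⟶ Y)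
    [IsAffineHom f] (E : X.Modules) (hE : Coh.IsCoh E)
    (hfE : Coh.IsCoh ((Scheme.Modules.pushforward f).obj E)) (B : Y.Modules) (hB : Coh.IsCoh B)
    (ξ : Y)
    (hkill : ∀ a ∈ IsLocalRing.maximalIdeal (Y.presheaf.stalk ξ),
      ∀ m : ↑(((Scheme.Modules.pushforward f).obj E).presheaf.stalk ξ), a • m = 0)
    (ψ : ↑(((Scheme.Modules.pushforward f).obj E).presheaf.stalk ξ) ≃ₗ[Y.presheaf.stalk ξ]
      ↑(B.presheaf.stalk ξ)) :
    ∃ (G : X.Modules) (β : (Scheme.Modules.pushforward f).obj G ⟶ B), Coh.IsCoh G ∧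
      Function.Bijective (stalkMap β ξ).hom := by
  haveI := hE.1
  haveI := hfE.1
  haveI := hB.1
  obtain ⟨H, q₁, q₂, hH, hbij, hq₂, hjm, hjs⟩ :=
    exists_graph ((Scheme.Modules.pushforward f).obj E) B hfE hB ξ ψ.toLinearMap
  haveI := hH.1
  have hq₂bij : Function.Bijective (stalkMap q₂ ξ).hom := by
    have : (stalkMap q₂ ξ).hom = ψ ∘ (stalkMap q₁ ξ).hom := funext hq₂
    rw [this]
    exact ψ.bijective.comp hbij
  have hHkill : ∀ a ∈ IsLocalRing.maximalIdeal (Y.presheaf.stalk ξ),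
      ∀ h : ↑(H.presheaf.stalk ξ), a • h = 0 := by
    intro a ha h
    apply hbij.1
    rw [map_zero, stalkMap_smul, hkill a ha]
  obtain ⟨H₀, j, hjmono, hH₀, hjbij, hpure⟩ := exists_pure_sub_of_killed H hH ξ hHkill
  haveI := hH₀.1
  have hb₁ : Function.Bijective (stalkMap (j ≫ q₁) ξ).hom := by
    have : (stalkMap (j ≫ q₁) ξ).hom = (stalkMap q₁ ξ).hom ∘ (stalkMap j ξ).hom :=
      funext (stalkMap_comp_apply' j q₁ ξ)
    rw [this]
    exact hbij.comp hjbij
  have hb₂ : Function.Bijective (stalkMap (j ≫ q₂) ξ).hom := by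
    have : (stalkMap (j ≫ q₂) ξ).hom = (stalkMap q₂ ξ).hom ∘ (stalkMap j ξ).hom :=
      funext (stalkMap_comp_apply' j q₂ ξ)
    rw [this]
    exact hq₂bij.comp hjbij
  haveI hm₁ : Mono (j ≫ q₁) := mono_of_pure_source _ hH₀ hfE.1 ξ hb₁.1 hpure
  have hC : Coh.IsCoh (cokernel (j ≫ q₁)) := isCoh_cokernel _ hH₀.1 hfE
  haveI := hC.1
  have hCξ : ξ ∉ CohB1.support (cokernel (j ≫ q₁)) := fun h =>
    h ((subsingleton_stalk_cokernel_iff (j ≫ q₁) ξ).mpr hb₁.2)
  obtain ⟨J, hJsupp, hJk⟩ := exists_ideal_killing (cokernel (j ≫ q₁)) hC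
  obtain ⟨t, ht⟩ := exists_factor_idealMulι J (j ≫ q₁) hC.2 hJk
  have hξJ : ξ ∉ (J.support : Set Y) := fun h => hCξ (hJsupp h)
  obtain ⟨e, he⟩ := idealMul_pushforward_iso f E J
  have htbij : Function.Bijective (stalkMap t ξ).hom := by
    have h1 : (stalkMap (Dual3.idealMulι J ((Scheme.Modules.pushforward f).obj E)) ξ).hom =
        (stalkMap (j ≫ q₁) ξ).hom ∘ (stalkMap t ξ).hom := by
      rw [← ht]
      exact funext (stalkMap_comp_apply' t (j ≫ q₁) ξ)
    have h2 : Function.Bijective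
        (stalkMap (Dual3.idealMulι J ((Scheme.Modules.pushforward f).obj E)) ξ).hom :=
      ⟨stalkMap_injective_of_mono _ ξ, stalkMap_idealMulι_surjective J _ ξ hξJ⟩
    rw [h1] at h2
    refine ⟨Function.Injective.of_comp h2.1, ?_⟩
    intro y
    obtain ⟨x, hx⟩ := h2.2 ((stalkMap (j ≫ q₁) ξ).hom y)
    exact ⟨x, hb₁.1 hx⟩
  refine ⟨(Dual3.idealMul (J.comap f)).obj E, e.inv ≫ t ≫ j ≫ q₂,
    isCoh_idealMul (J.comap f) E hE, ?_⟩
  have h3 : (stalkMap (e.inv ≫ t ≫ j ≫ q₂) ξ).hom =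
      (stalkMap (j ≫ q₂) ξ).hom ∘ (stalkMap t ξ).hom ∘ (stalkMap e.inv ξ).hom := by
    funext a
    rw [stalkMap_comp_apply', stalkMap_comp_apply']
    rfl
  rw [h3]
  exact hb₂.comp (htbij.comp ⟨stalkMap_injective_of_mono _ ξ, stalkMap_surjective_of_epi _ ξ⟩)

attribute [local instance] stalkModuleSections in
/-- For a surjective quasi-compact quasi-separated morphism `f`, the stalks of `f_* O_X` are
nontrivial. -/
theorem nontrivial_stalk_push_structureModule (f : X ⟶ Y) [QuasiCompact f] [QuasiSeparated f]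
    [Surjective f] (ξ : Y) :
    Nontrivial ↑(((Scheme.Modules.pushforward f).obj (Coh.structureModule X)).presheaf.stalk ξ) := by
  haveI : (Coh.structureModule X).IsQuasicoherent :=
    Groth.Agent.Lib.Helper1.isQuasicoherent_structureModule X
  haveI hq : ((Scheme.Modules.pushforward f).obj (Coh.structureModule X)).IsQuasicoherent :=
    isQuasicoherent_pushforward _ f
  obtain ⟨_, ⟨U, hU : IsAffineOpen U, rfl⟩, hξU, -⟩ :=
    Y.isBasis_affineOpens.exists_subset_of_mem_open (Set.mem_univ ξ) isOpen_univ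
  obtain ⟨ξ', rfl⟩ : ∃ ξ' : U, (ξ' : Y) = ξ := ⟨⟨ξ, hξU⟩, rfl⟩
  set O := (Scheme.Modules.pushforward f).obj (Coh.structureModule X) with hO
  let one : Γ(O, U) := (1 : Γ(X, f ⁻¹ᵁ U))
  haveI := hU.isLocalization_stalk ξ'
  haveI := isLocalizedModule_germₗ hU O ξ'
  have hne : germₗ O ξ' one ≠ 0 := by
    intro h0
    obtain ⟨s, hs⟩ := (IsLocalizedModule.eq_zero_iff (hU.primeIdealOf ξ').asIdeal.primeCompl
      (germₗ O ξ')).mp h0
    have h1 := pushforward_smul f (Coh.structureModule X) U (s : Γ(Y, U)) one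
    have h2 : (f.app U (s : Γ(Y, U))) = 0 := by
      have h3 : (f.app U (s : Γ(Y, U))) * (1 : Γ(X, f ⁻¹ᵁ U)) = 0 := h1.symm.trans hs
      rwa [mul_one] at h3
    have h4 : X.basicOpen (f.app U (s : Γ(Y, U))) = ⊥ := by
      rw [h2]
      exact Scheme.basicOpen_zero X _
    rw [← Scheme.preimage_basicOpen] at h4
    obtain ⟨x, hx⟩ := f.surjective (ξ' : Y)
    have h5 : x ∈ f ⁻¹ᵁ Y.basicOpen (s : Γ(Y, U)) := by
      change f x ∈ Y.basicOpen (s : Γ(Y, U))
      rw [hx]
      exact (mem_basicOpen_iff_not_mem_primeIdealOf hU ξ' _).mpr s.2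
    rw [h4] at h5
    exact h5
  exact ⟨⟨germₗ O ξ' one, 0, hne⟩⟩

section Power

attribute [local instance] Abelian.hasFiniteBiproducts

/-- Finite surjective `f`, the local ring at `ξ` a field: a coherent `G` on `X` and a morphism
`f_* G ⟶ F^d` bijective on stalks at `ξ`. -/
theorem exists_hom_power [IsNoetherian Y] [IsLocallyNoetherian X] (f : X ⟶ Y) [IsFinite f]
    [Surjective f] (F : Y.Modules) (hF : Coh.IsCoh F) (ξ : Y)
    (hmax : ∀ a ∈ IsLocalRing.maximalIdeal (Y.presheaf.stalk ξ), a = 0) :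
    ∃ (d : ℕ) (G : X.Modules) (β : (Scheme.Modules.pushforward f).obj G ⟶ ⨁ fun _ : Fin d => F),
      0 < d ∧ Coh.IsCoh G ∧ Function.Bijective (stalkMap β ξ).hom := by
  classical
  have hkillall : ∀ (M : Y.Modules), ∀ a ∈ IsLocalRing.maximalIdeal (Y.presheaf.stalk ξ),
      ∀ m : ↑(M.presheaf.stalk ξ), a • m = 0 := by
    intro M a ha m
    rw [hmax a ha, zero_smul]
  haveI hS : IsSimpleModule (Y.presheaf.stalk ξ) (Y.presheaf.stalk ξ) := by
    rw [isSimpleModule_iff_toSpanSingleton_surjective]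
    refine ⟨⟨1, 0, one_ne_zero⟩, fun x hx y => ?_⟩
    have hu : IsUnit x := by
      by_contra h
      exact hx (hmax x ((IsLocalRing.mem_maximalIdeal x).mpr h))
    obtain ⟨u, rfl⟩ := hu
    refine ⟨y * ↑u⁻¹, ?_⟩
    rw [LinearMap.toSpanSingleton_apply, smul_eq_mul, mul_assoc, Units.inv_mul, mul_one]
  haveI : (Coh.structureModule X).IsQuasicoherent :=
    Groth.Agent.Lib.Helper1.isQuasicoherent_structureModule X
  have hOX : Coh.IsCoh (Coh.structureModule X) :=
    ⟨inferInstance, Groth.Agent.Lib.Helper11.GenLocus.isFiniteType_structureModule X⟩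
  set O := (Scheme.Modules.pushforward f).obj (Coh.structureModule X) with hOdef
  have hO : Coh.IsCoh O :=
    ⟨isQuasicoherent_pushforward _ f, isFiniteType_pushforward_of_isFinite f _ hOX.2⟩
  haveI := hO.1
  haveI := hF.1
  haveI : Nontrivial ↑(O.presheaf.stalk ξ) := nontrivial_stalk_push_structureModule f ξ
  haveI : Module.Finite (Y.presheaf.stalk ξ) ↑(O.presheaf.stalk ξ) :=
    Groth.Agent.Lib.Helper12.QuasiFlat.finite_stalk_of_isCoh O hO ξ
  haveI : IsSemisimpleModule (Y.presheaf.stalk ξ) ↑(O.presheaf.stalk ξ) :=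
    isSemisimpleModule_of_killed _ _ (hkillall O)
  haveI : Module.Finite (Y.presheaf.stalk ξ) ↑(F.presheaf.stalk ξ) :=
    Groth.Agent.Lib.Helper12.QuasiFlat.finite_stalk_of_isCoh F hF ξ
  haveI : IsSemisimpleModule (Y.presheaf.stalk ξ) ↑(F.presheaf.stalk ξ) :=
    isSemisimpleModule_of_killed _ _ (hkillall F)
  obtain ⟨d, hd, ⟨eO⟩⟩ := exists_linearEquiv_fun_simple (Y.presheaf.stalk ξ)
    ↑(O.presheaf.stalk ξ) ↑(Y.presheaf.stalk ξ)
  have hiso : IsIsotypicOfType (Y.presheaf.stalk ξ) ↑(F.presheaf.stalk ξ)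
      ↑(Y.presheaf.stalk ξ) := fun m _ => nonempty_linearEquiv_of_simple _ m _
  obtain ⟨s, ⟨eF⟩⟩ := hiso.linearEquiv_fun
  -- `E = O_X^s`
  set E : X.Modules := ⨁ fun _ : Fin s => Coh.structureModule X with hEdef
  have hE : Coh.IsCoh E := isCoh_biproduct _ fun _ => hOX
  haveI := hE.1
  have hfE : Coh.IsCoh ((Scheme.Modules.pushforward f).obj E) :=
    ⟨isQuasicoherent_pushforward _ f, isFiniteType_pushforward_of_isFinite f _ hE.2⟩
  let ε : (Scheme.Modules.pushforward f).obj E ≅ ⨁ fun _ : Fin s => O :=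
    (Scheme.Modules.pushforward f).mapBiproduct _
  set B : Y.Modules := ⨁ fun _ : Fin d => F with hBdef
  have hB : Coh.IsCoh B := isCoh_biproduct _ fun _ => hF
  have hεbij : Function.Bijective (stalkMapLinear ε.hom ξ) :=
    ⟨stalkMap_injective_of_mono _ ξ, stalkMap_surjective_of_epi _ ξ⟩
  let swap : (Fin s → Fin d → ↑(Y.presheaf.stalk ξ)) ≃ₗ[Y.presheaf.stalk ξ]
      (Fin d → Fin s → ↑(Y.presheaf.stalk ξ)) :=
    { toFun := fun g j i => g i j
      map_add' := fun _ _ => rfl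
      map_smul' := fun _ _ => rfl
      invFun := fun g i j => g j i
      left_inv := fun _ => rfl
      right_inv := fun _ => rfl }
  let ψ : ↑(((Scheme.Modules.pushforward f).obj E).presheaf.stalk ξ) ≃ₗ[Y.presheaf.stalk ξ]
      ↑(B.presheaf.stalk ξ) :=
    (LinearEquiv.ofBijective (stalkMapLinear ε.hom ξ) hεbij) ≪≫ₗ
      (stalkBiproductEquiv (fun _ : Fin s => O) ξ) ≪≫ₗ
      (LinearEquiv.piCongrRight fun _ => eO) ≪≫ₗ swap ≪≫ₗ
      (LinearEquiv.piCongrRight fun _ => eF.symm) ≪≫ₗ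
      (stalkBiproductEquiv (fun _ : Fin d => F) ξ).symm
  obtain ⟨G, β, hG, hβ⟩ := exists_hom_from_pushforward f E hE hfE B hB ξ (hkillall _) ψ
  exact ⟨d, G, β, hd, hG, hβ⟩

end Power

end Groth.Agent.Lib.Helper45.FiniteGeneric
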