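import Mathlib
import Groth.Agent.Lib.Helper45.Dev.FiniteGeneric

/-!
# Direct images of the structure sheaf of an integral scheme

Shared library of helper45 (namespace `Groth.Agent.Lib.Helper45.PushIntegral`).

For a morphism `g : Z ⟶ X`:
* `subsingleton_stalk_pushforward_of_range_subset`: stalks of `g_* G` vanish outside a closed set
  containing the range of `g`.
* `nontrivial_stalk_push_structureModule_apply`: the stalk of `g_* O_Z` at `g z` is nonzero.
* `killed_push_structureModule'`: for `Z` integral with generic point `η`, `g_* O_Z` is killed by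
  the ideal of the reduced closure of `g η`.
* `exists_coh_push_supported` (**Stacks 30.13.1**): `f : Y ⟶ X` finite, `y : Y`: there is a coherent
  `E` on `Y` with `f_* E` supported in `closure {f y}` and stalk at `f y` nonzero and killed by the
  maximal ideal.
-/

set_option autoImplicit false
set_option linter.style.haveILetI false
universe u
open CategoryTheory CategoryTheory.Limits AlgebraicGeometry TopologicalSpace

namespace Groth.Agent.Lib.Helper45.PushIntegral

open Groth.Agent.Lib.Helper45 Groth.Agent.Lib.Helper49 Groth.Agent.Lib.Helper45.GraphTrick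
  Groth.Agent.Lib.Helper45.NowhereDense Groth.Agent.Lib.Helper45.PureSub
  Groth.Agent.Lib.Helper45.DevRoots

variable {X Z : Scheme.{u}} (g : Z ⟶ X)

/-- The stalks of `g_* G` vanish outside of a closed set containing the range of `g`. -/
theorem subsingleton_stalk_pushforward_of_range_subset (G : Z.Modules) (T : Set X)
    (hT : IsClosed T) (hg : Set.range g ⊆ T) (x : X) (hx : x ∉ T) :
    Subsingleton ↑(((Scheme.Modules.pushforward g).obj G).presheaf.stalk x) := by
  let W : X.Opens := ⟨Tᶜ, hT.isOpen_compl⟩
  have hxW : x ∈ W := hx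
  have hW : g ⁻¹ᵁ W = ⊥ := by
    ext z
    constructor
    · intro hz
      exact ((show g z ∈ W from hz) (hg ⟨z, rfl⟩)).elim
    · intro hz
      exact hz.elim
  refine ⟨fun a b => ?_⟩
  have key : ∀ t : ((Scheme.Modules.pushforward g).obj G).presheaf.stalk x, t = 0 := by
    intro t
    obtain ⟨U, hxU, s, rfl⟩ := TopCat.Presheaf.exists_germ_eq _ t
    have h1 := TopCat.Presheaf.germ_res_apply ((Scheme.Modules.pushforward g).obj G).presheaf
      (homOfLE (inf_le_left : U ⊓ W ≤ U)) x ⟨hxU, hxW⟩ s
    rw [← h1]
    have h2 := TopCat.Presheaf.germ_res_apply ((Scheme.Modules.pushforward g).obj G).presheaf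
      (homOfLE (inf_le_right : U ⊓ W ≤ W)) x ⟨hxU, hxW⟩ 0
    have h3 : (((Scheme.Modules.pushforward g).obj G).presheaf.map
        (homOfLE (inf_le_left : U ⊓ W ≤ U)).op) s =
        (((Scheme.Modules.pushforward g).obj G).presheaf.map
        (homOfLE (inf_le_right : U ⊓ W ≤ W)).op) 0 := by
      have : Subsingleton Γ((Scheme.Modules.pushforward g).obj G, U ⊓ W) :=
        Groth.Agent.Lib.Helper49.ProperSupport.subsingleton_sections_of_eq_bot G
          (W := g ⁻¹ᵁ (U ⊓ W)) (by rw [Scheme.Hom.preimage_inf, hW, inf_bot_eq])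
      exact Subsingleton.elim _ _
    rw [h3, h2, map_zero]
  rw [key a, key b]

attribute [local instance] stalkModuleSections in
/-- The stalk of `g_* O_Z` at a point of the range of `g` is nontrivial. -/
theorem nontrivial_stalk_push_structureModule_apply [QuasiCompact g] [QuasiSeparated g] (z : Z) :
    Nontrivial ↑(((Scheme.Modules.pushforward g).obj (Coh.structureModule Z)).presheaf.stalk
      (g z)) := by
  haveI : (Coh.structureModule Z).IsQuasicoherent :=
    Groth.Agent.Lib.Helper1.isQuasicoherent_structureModule Z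
  haveI hq : ((Scheme.Modules.pushforward g).obj (Coh.structureModule Z)).IsQuasicoherent :=
    isQuasicoherent_pushforward _ g
  obtain ⟨_, ⟨U, hU : IsAffineOpen U, rfl⟩, hξU, -⟩ :=
    X.isBasis_affineOpens.exists_subset_of_mem_open (Set.mem_univ (g z)) isOpen_univ
  generalize hξ : g z = ξ at hξU
  obtain ⟨ξ', rfl⟩ : ∃ ξ' : U, (ξ' : X) = ξ := ⟨⟨ξ, hξU⟩, rfl⟩
  set O := (Scheme.Modules.pushforward g).obj (Coh.structureModule Z) with hO
  let one : Γ(O, U) := (1 : Γ(Z, g ⁻¹ᵁ U))
  haveI := hU.isLocalization_stalk ξ'
  haveI := isLocalizedModule_germₗ hU O ξ'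
  have hne : germₗ O ξ' one ≠ 0 := by
    intro h0
    obtain ⟨s, hs⟩ := (IsLocalizedModule.eq_zero_iff (hU.primeIdealOf ξ').asIdeal.primeCompl
      (germₗ O ξ')).mp h0
    have h1 := pushforward_smul g (Coh.structureModule Z) U (s : Γ(X, U)) one
    have h2 : (g.app U (s : Γ(X, U))) = 0 := by
      have h3 : (g.app U (s : Γ(X, U))) * (1 : Γ(Z, g ⁻¹ᵁ U)) = 0 := h1.symm.trans hs
      rwa [mul_one] at h3
    have h4 : Z.basicOpen (g.app U (s : Γ(X, U))) = ⊥ := by
      rw [h2]
      exact Scheme.basicOpen_zero Z _
    rw [← Scheme.preimage_basicOpen] at h4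
    have h5 : z ∈ g ⁻¹ᵁ X.basicOpen (s : Γ(X, U)) := by
      change g z ∈ X.basicOpen (s : Γ(X, U))
      rw [hξ]
      exact (mem_basicOpen_iff_not_mem_primeIdealOf hU ξ' _).mpr s.2
    rw [h4] at h5
    exact h5
  exact ⟨⟨germₗ O ξ' one, 0, hne⟩⟩

section Integral

variable [IsIntegral Z]

theorem app_eq_zero_of_mem_vanishingIdeal' (U : X.affineOpens) (a : Γ(X, U.1))
    (ha : a ∈ (Scheme.IdealSheafData.vanishingIdeal
      ⟨closure {g (genericPoint Z)}, isClosed_closure⟩).ideal U) : (g.app U.1) a = 0 := by
  rw [← basicOpen_eq_bot_iff, ← Scheme.preimage_basicOpen]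
  ext z
  constructor
  · intro hz
    exfalso
    have hz' : g z ∈ X.basicOpen a := hz
    have hzU : g z ∈ U.1 := X.basicOpen_le a hz'
    rw [Scheme.IdealSheafData.vanishingIdeal_ideal, PrimeSpectrum.mem_vanishingIdeal] at ha
    have h1 := ha (U.2.primeIdealOf ⟨g z, hzU⟩) (by
      rw [Set.mem_preimage, U.2.fromSpec_primeIdealOf ⟨g z, hzU⟩]
      change g z ∈ closure {g (genericPoint Z)}
      have h2 : z ∈ closure ({genericPoint Z} : Set Z) := by
        rw [(genericPoint_spec Z).def]
        exact Set.mem_univ z
      have h3 := image_closure_subset_closure_image g.continuous (Set.mem_image_of_mem g h2)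
      rwa [Set.image_singleton] at h3)
    exact (mem_basicOpen_iff_not_mem_primeIdealOf U.2 ⟨g z, hzU⟩ a).mp hz' h1
  · intro h
    exact absurd h (Set.notMem_empty z)

theorem killed_push_structureModule' :
    ClSub.KilledByIdeal (Scheme.IdealSheafData.vanishingIdeal
      ⟨closure {g (genericPoint Z)}, isClosed_closure⟩)
      ((Scheme.Modules.pushforward g).obj (Coh.structureModule Z)) := by
  intro U a ha m
  have h0 := app_eq_zero_of_mem_vanishingIdeal' g U a ha
  have h1 := pushforward_smul g (Coh.structureModule Z) U.1 a m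
  rw [h0, zero_smul] at h1
  exact h1

end Integral

section Finite

open Groth.Agent.Lib.Helper67.Devissage

/-- **Stacks 30.13.1.** For a finite morphism `f : Y ⟶ X` of locally Noetherian schemes and a
point `y` of `Y` there is a coherent module `E` on `Y` such that `f_* E` is (coherent,) supported in
the closure of `f y`, with stalk at `f y` nonzero and killed by the maximal ideal. -/
theorem exists_coh_push_supported {X Y : Scheme.{u}} [IsLocallyNoetherian X]
    [IsLocallyNoetherian Y] (f : Y ⟶ X) [IsFinite f] (y : Y) :
    ∃ E : Y.Modules, Coh.IsCoh E ∧ Coh.IsCoh ((Scheme.Modules.pushforward f).obj E) ∧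
      CohB1.support ((Scheme.Modules.pushforward f).obj E) ⊆ closure {f y} ∧
      Nontrivial ↑(((Scheme.Modules.pushforward f).obj E).presheaf.stalk (f y)) ∧
      ∀ a ∈ IsLocalRing.maximalIdeal (X.presheaf.stalk (f y)),
        ∀ m : ↑(((Scheme.Modules.pushforward f).obj E).presheaf.stalk (f y)), a • m = 0 := by
  set i' := (IZ y).subschemeι with hi'
  set g := i' ≫ f with hg
  set O' := Coh.structureModule (IZ y).subscheme with hO'
  haveI : O'.IsQuasicoherent :=
    Groth.Agent.Lib.Helper1.isQuasicoherent_structureModule (IZ y).subscheme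
  have hE : Coh.IsCoh ((Scheme.Modules.pushforward i').obj O') := isCoh_push_structureModule i'
  haveI := hE.1
  have hfE : Coh.IsCoh ((Scheme.Modules.pushforward f).obj
      ((Scheme.Modules.pushforward i').obj O')) :=
    ⟨isQuasicoherent_pushforward _ f, isFiniteType_pushforward_of_isFinite f _ hE.2⟩
  haveI : ((Scheme.Modules.pushforward g).obj O').IsQuasicoherent :=
    isQuasicoherent_pushforward _ g
  let κ : (Scheme.Modules.pushforward f).obj ((Scheme.Modules.pushforward i').obj O') ≅
      (Scheme.Modules.pushforward g).obj O' := (Scheme.Modules.pushforwardComp i' f).app O'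
  have hκ : ∀ z : X, Function.Bijective (stalkMap κ.hom z).hom := fun z =>
    ⟨stalkMap_injective_of_mono _ z, Groth.Agent.Lib.Helper45.stalkMap_surjective_of_epi _ z⟩
  have hpt : i' (genericPoint (IZ y).subscheme) = y := by
    have h1 : IsGenericPoint (i' (genericPoint (IZ y).subscheme)) (closure {y}) := by
      have h2 := i'.isClosedEmbedding.closure_image_eq
        ({genericPoint (IZ y).subscheme} : Set (IZ y).subscheme)
      rw [Set.image_singleton, (genericPoint_spec (IZ y).subscheme).def, Set.image_univ,
        range_subschemeι_IZ] at h2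
      exact h2
    have h3 : IsGenericPoint y (closure {y}) := rfl
    exact h1.eq h3
  have hgy : g (genericPoint (IZ y).subscheme) = f y := by
    change f (i' (genericPoint (IZ y).subscheme)) = f y
    rw [hpt]
  have hrange : Set.range g ⊆ closure {f y} := by
    rintro _ ⟨z', rfl⟩
    have h1 : i' z' ∈ closure ({y} : Set Y) := by
      rw [← range_subschemeι_IZ]
      exact Set.mem_range_self z'
    have h2 := image_closure_subset_closure_image f.continuous (Set.mem_image_of_mem f h1)
    rw [Set.image_singleton] at h2
    exact h2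
  refine ⟨(Scheme.Modules.pushforward i').obj O', hE, hfE, ?_, ?_, ?_⟩
  · intro z hz
    by_contra hzc
    have h1 := subsingleton_stalk_pushforward_of_range_subset g O' (closure {f y})
      isClosed_closure hrange z hzc
    exact hz ((hκ z).1.subsingleton)
  · have h1 := nontrivial_stalk_push_structureModule_apply g (genericPoint (IZ y).subscheme)
    rw [hgy] at h1
    exact (hκ (f y)).2.nontrivial
  · have hk := killed_push_structureModule' g
    rw [hgy] at hk
    have h1 := stalk_killed_of_killedByIdeal ((Scheme.Modules.pushforward g).obj O') (f y) hk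
    intro a ha m
    apply (hκ (f y)).1
    rw [map_zero, stalkMap_smul]
    exact h1 a ha _

end Finite

end Groth.Agent.Lib.Helper45.PushIntegral
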