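import Mathlib
import Groth.Agent.Lib.Helper45.Dev.SerreVanish
import Groth.Agent.Lib.Helper45.Dev.DevIdealMul
import Groth.Agent.Lib.Helper45.Dev.PushIntegral
import Groth.Agent.S0050

/-!
# Serre vanishing descends along finite surjective morphisms (Stacks 0B5V)

Shared library of helper45 (namespace `Groth.Agent.Lib.Helper45.AmpleFinite`).

* `serreVanish_of_finite_family`: the same with a family of finite morphisms hitting every point.
* `serreVanish_of_finite_surjective`: `f : Y ⟶ X` finite surjective, `X`, `Y` Noetherian, `L`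
  invertible on `X`; if every coherent module on `Y` has the Serre vanishing property with respect
  to `f^* L`, then every coherent module on `X` has it with respect to `L`.
* `isAmple_of_serreVanish`: on a Noetherian scheme, Serre vanishing for all coherent modules
  implies ampleness (via S0050).
-/

set_option autoImplicit false
set_option linter.style.haveILetI false
universe u
open CategoryTheory CategoryTheory.Limits AlgebraicGeometry TopologicalSpace

namespace Groth.Agent.Lib.Helper45.AmpleFinite

open Groth.Agent.Lib.Helper45 Groth.Agent.Lib.Helper49 Groth.Agent.Lib.Helper45.GraphTrick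
  Groth.Agent.Lib.Helper45.IdealMulPow Groth.Agent.Lib.Helper45.IdealMulSections
  Groth.Agent.Lib.Helper45.SerreVanish Groth.Agent.Lib.Helper45.DevIdealMul
  Groth.Agent.Lib.Helper45.PushIntegral

attribute [local instance] Abelian.hasFiniteBiproducts

/-- Family version: every point of `X` is hit by a finite morphism from a Noetherian scheme on which
all coherent modules have the Serre vanishing property with respect to the pullback of `L`. -/
theorem serreVanish_of_finite_family {X : Scheme.{u}} [IsNoetherian X] (L : X.Modules)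
    (hL : PicF.IsInvertible L)
    (hfam : ∀ x : X, ∃ (Y : Scheme.{u}) (f : Y ⟶ X) (y : Y), IsNoetherian Y ∧ IsFinite f ∧
      f y = x ∧ ∀ M : Y.Modules, Coh.IsCoh M →
        SerreVanish ((Scheme.Modules.pullback f).obj L) M)
    (F : X.Modules) (hF : Coh.IsCoh F) : SerreVanish L F := by
  refine devissage_idealMul (SerreVanish L) (fun A B ⟨e⟩ hA => serreVanish_of_iso L e hA)
    (fun A hA => serreVanish_of_isZero hL hA)
    (fun S hS _ _ _ h1 h3 => serreVanish_of_shortExact hL hS h1 h3) ?_ ?_ F hF
  · intro F' n hn _ hP
    exact serreVanish_of_retract L (biproduct.ι (fun _ : Fin n => F') ⟨0, hn⟩)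
      (biproduct.π (fun _ : Fin n => F') ⟨0, hn⟩) (biproduct.ι_π_self _ _) hP
  · intro x
    obtain ⟨Y, f, y, hYN, hfin, rfl, hY⟩ := hfam x
    haveI := hYN
    haveI := hfin
    obtain ⟨E, hE, hfE, hsupp, hnt, hkill⟩ := exists_coh_push_supported f y
    haveI := hE.1
    haveI := hfE.1
    refine ⟨(Scheme.Modules.pushforward f).obj E, hfE, hsupp, hnt, hkill, ?_⟩
    intro J hJ
    obtain ⟨e, he⟩ := idealMul_pushforward_iso f E J
    have hE' : Coh.IsCoh ((Dual3.idealMul (J.comap f)).obj E) := isCoh_idealMul (J.comap f) E hE
    haveI := hE'.1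
    refine ⟨(Dual3.idealMul J).obj ((Scheme.Modules.pushforward f).obj E), 𝟙 _, inferInstance,
      isQuasicoherent_idealMul J _, ?_, ?_⟩
    · rw [Category.id_comp]
      exact ⟨stalkMap_injective_of_mono _ _, stalkMap_idealMulι_surjective J _ _ hJ⟩
    · exact serreVanish_of_iso L e.symm (serreVanish_push f _ hL (hY _ hE'))

theorem serreVanish_of_finite_surjective {X Y : Scheme.{u}} [IsNoetherian X] [IsNoetherian Y]
    (f : Y ⟶ X) [IsFinite f] [Surjective f] (L : X.Modules) (hL : PicF.IsInvertible L)
    (hY : ∀ M : Y.Modules, Coh.IsCoh M → SerreVanish ((Scheme.Modules.pullback f).obj L) M)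
    (F : X.Modules) (hF : Coh.IsCoh F) : SerreVanish L F := by
  refine serreVanish_of_finite_family L hL (fun x => ?_) F hF
  obtain ⟨y, hy⟩ := f.surjective x
  exact ⟨Y, f, y, inferInstance, inferInstance, hy, hY⟩

/-- On a Noetherian scheme, Serre vanishing for all coherent modules implies ampleness. -/
theorem isAmple_of_serreVanish {X : Scheme.{u}} [IsNoetherian X] (L : X.Modules)
    (hL : PicF.IsInvertible L) (h : ∀ F : X.Modules, Coh.IsCoh F → SerreVanish L F) :
    CohB1.IsAmple L := by
  refine Groth.Agent.S0050.result X L hL fun I i hi hI => ?_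
  haveI := hi
  haveI : I.IsQuasicoherent := hI
  haveI : (Coh.structureModule X).IsQuasicoherent :=
    Groth.Agent.Lib.Helper1.isQuasicoherent_structureModule X
  have hIc : Coh.IsCoh I :=
    ⟨hI, isFiniteType_of_mono i (Groth.Agent.Lib.Helper11.GenLocus.isFiniteType_structureModule X)⟩
  obtain ⟨n₀, hn₀⟩ := h I hIc
  exact ⟨n₀, hn₀ (n₀ + 1) (Nat.le_succ n₀) 1 Nat.one_pos⟩

end Groth.Agent.Lib.Helper45.AmpleFinite
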