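import Mathlib
import Groth.Agent.Lib.Helper45.Dev.FiniteGeneric

/-!
# `exists_hom_power` with the rank recorded

Shared library of helper45 (namespace `Groth.Agent.Lib.Helper45.FiniteGeneric`).
-/

set_option autoImplicit false
set_option linter.style.haveILetI false
universe u
open CategoryTheory CategoryTheory.Limits AlgebraicGeometry TopologicalSpace

namespace Groth.Agent.Lib.Helper45.FiniteGeneric

open Groth.Agent.Lib.Helper45 Groth.Agent.Lib.Helper49 Groth.Agent.Lib.Helper45.GraphTrick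
  Groth.Agent.Lib.Helper45.NowhereDense Groth.Agent.Lib.Helper45.IdealMul
  Groth.Agent.Lib.Helper45.IdealMulPow Groth.Agent.Lib.Helper45.IdealMulSections
  Groth.Agent.Lib.Helper45.PureSub Groth.Agent.Lib.Helper45.DevRoots

variable {X Y : Scheme.{u}}

section Power

attribute [local instance] Abelian.hasFiniteBiproducts

/-- Finite surjective `f`, the local ring at `ξ` a field: a coherent `G` on `X` and a morphism
`f_* G ⟶ F^d` bijective on stalks at `ξ`, where `(f_* O_X)_ξ ≃ O_{Y,ξ}^d`. -/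
theorem exists_hom_power_rank [IsNoetherian Y] [IsLocallyNoetherian X] (f : X ⟶ Y) [IsFinite f]
    [Surjective f] (F : Y.Modules) (hF : Coh.IsCoh F) (ξ : Y)
    (hmax : ∀ a ∈ IsLocalRing.maximalIdeal (Y.presheaf.stalk ξ), a = 0) :
    ∃ (d : ℕ) (G : X.Modules) (β : (Scheme.Modules.pushforward f).obj G ⟶ ⨁ fun _ : Fin d => F),
      0 < d ∧ Coh.IsCoh G ∧ Function.Bijective (stalkMap β ξ).hom ∧
      Nonempty (↑(((Scheme.Modules.pushforward f).obj (Coh.structureModule X)).presheaf.stalk ξ)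
        ≃ₗ[Y.presheaf.stalk ξ] (Fin d → ↑(Y.presheaf.stalk ξ))) := by
  classical
  have hkillall : ∀ (M : Y.Modules), ∀ a ∈ IsLocalRing.maximalIdeal (Y.presheaf.stalk ξ),
      ∀ m : ↑(M.presheaf.stalk ξ), a • m = 0 := by
    intro M a ha m
    rw [hmax a ha, zero_smul]
  haveI hS : IsSimpleModule (Y.presheaf.stalk ξ) (Y.presheaf.stalk ξ) := by
    rw [isSimpleModule_iff_toSpanSingleton_surjective]
    refine ⟨⟨1, 0, one_ne_zero⟩, fun x hx y => ?_⟩
    have hu : IsUnit x := by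
      by_contra h
      exact hx (hmax x ((IsLocalRing.mem_maximalIdeal x).mpr h))
    obtain ⟨u, rfl⟩ := hu
    refine ⟨y * ↑u⁻¹, ?_⟩
    rw [LinearMap.toSpanSingleton_apply, smul_eq_mul, mul_assoc, Units.inv_mul, mul_one]
  haveI : (Coh.structureModule X).IsQuasicoherent :=
    Groth.Agent.Lib.Helper1.isQuasicoherent_structureModule X
  have hOX : Coh.IsCoh (Coh.structureModule X) :=
    ⟨inferInstance, Groth.Agent.Lib.Helper11.GenLocus.isFiniteType_structureModule X⟩
  set O := (Scheme.Modules.pushforward f).obj (Coh.structureModule X) with hOdef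
  have hO : Coh.IsCoh O :=
    ⟨isQuasicoherent_pushforward _ f, isFiniteType_pushforward_of_isFinite f _ hOX.2⟩
  haveI := hO.1
  haveI := hF.1
  haveI : Nontrivial ↑(O.presheaf.stalk ξ) := nontrivial_stalk_push_structureModule f ξ
  haveI : Module.Finite (Y.presheaf.stalk ξ) ↑(O.presheaf.stalk ξ) :=
    Groth.Agent.Lib.Helper12.QuasiFlat.finite_stalk_of_isCoh O hO ξ
  haveI : IsSemisimpleModule (Y.presheaf.stalk ξ) ↑(O.presheaf.stalk ξ) :=
    isSemisimpleModule_of_killed _ _ (hkillall O)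
  haveI : Module.Finite (Y.presheaf.stalk ξ) ↑(F.presheaf.stalk ξ) :=
    Groth.Agent.Lib.Helper12.QuasiFlat.finite_stalk_of_isCoh F hF ξ
  haveI : IsSemisimpleModule (Y.presheaf.stalk ξ) ↑(F.presheaf.stalk ξ) :=
    isSemisimpleModule_of_killed _ _ (hkillall F)
  obtain ⟨d, hd, ⟨eO⟩⟩ := exists_linearEquiv_fun_simple (Y.presheaf.stalk ξ)
    ↑(O.presheaf.stalk ξ) ↑(Y.presheaf.stalk ξ)
  have hiso : IsIsotypicOfType (Y.presheaf.stalk ξ) ↑(F.presheaf.stalk ξ)
      ↑(Y.presheaf.stalk ξ) := fun m _ => nonempty_linearEquiv_of_simple _ m _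
  obtain ⟨s, ⟨eF⟩⟩ := hiso.linearEquiv_fun
  -- `E = O_X^s`
  set E : X.Modules := ⨁ fun _ : Fin s => Coh.structureModule X with hEdef
  have hE : Coh.IsCoh E := isCoh_biproduct _ fun _ => hOX
  haveI := hE.1
  have hfE : Coh.IsCoh ((Scheme.Modules.pushforward f).obj E) :=
    ⟨isQuasicoherent_pushforward _ f, isFiniteType_pushforward_of_isFinite f _ hE.2⟩
  let ε : (Scheme.Modules.pushforward f).obj E ≅ ⨁ fun _ : Fin s => O :=
    (Scheme.Modules.pushforward f).mapBiproduct _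
  set B : Y.Modules := ⨁ fun _ : Fin d => F with hBdef
  have hB : Coh.IsCoh B := isCoh_biproduct _ fun _ => hF
  have hεbij : Function.Bijective (stalkMapLinear ε.hom ξ) :=
    ⟨stalkMap_injective_of_mono _ ξ, stalkMap_surjective_of_epi _ ξ⟩
  let swap : (Fin s → Fin d → ↑(Y.presheaf.stalk ξ)) ≃ₗ[Y.presheaf.stalk ξ]
      (Fin d → Fin s → ↑(Y.presheaf.stalk ξ)) :=
    { toFun := fun g j i => g i j
      map_add' := fun _ _ => rfl
      map_smul' := fun _ _ => rfl
      invFun := fun g i j => g j i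
      left_inv := fun _ => rfl
      right_inv := fun _ => rfl }
  let ψ : ↑(((Scheme.Modules.pushforward f).obj E).presheaf.stalk ξ) ≃ₗ[Y.presheaf.stalk ξ]
      ↑(B.presheaf.stalk ξ) :=
    (LinearEquiv.ofBijective (stalkMapLinear ε.hom ξ) hεbij) ≪≫ₗ
      (stalkBiproductEquiv (fun _ : Fin s => O) ξ) ≪≫ₗ
      (LinearEquiv.piCongrRight fun _ => eO) ≪≫ₗ swap ≪≫ₗ
      (LinearEquiv.piCongrRight fun _ => eF.symm) ≪≫ₗ
      (stalkBiproductEquiv (fun _ : Fin d => F) ξ).symm
  obtain ⟨G, β, hG, hβ⟩ := exists_hom_from_pushforward f E hE hfE B hB ξ (hkillall _) ψ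
  exact ⟨d, G, β, hd, hG, hβ, ⟨eO⟩⟩

end Power

end Groth.Agent.Lib.Helper45.FiniteGeneric
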