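import Mathlib

/-!
# Discrete integration of a multivariable rational polynomial in its last variable (helper45)

* `exists_sum_last`: for `Q : MvPolynomial (Fin (r + 1)) ℚ` there is `R` of total degree at most
  `totalDegree Q + 1` (and `R = 0` if `Q = 0`) with
  `R(n', t) = Σ_{j < t} Q(n', j)` for all `n' : Fin r → ℕ`, `t : ℕ`.
* `exists_mvPoly_of_last_diff`: a function on `ℕ^{r+1}` which is a polynomial of total degree `≤ d`
  on the hyperplane `n_last = 0` and whose difference in the last variable is a polynomial of total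
  degree `≤ d - 1` is a polynomial of total degree `≤ d`.
-/

set_option autoImplicit false

namespace Groth.Agent.Lib.Helper45.SnapperAlg

open MvPolynomial

variable {r : ℕ}

/-- the evaluation point `(n', t)`. -/
noncomputable def pt (n' : Fin r → ℕ) (t : ℕ) : Fin (r + 1) → ℚ :=
  fun i => ((Fin.snoc (α := fun _ => ℕ) n' t : Fin (r + 1) → ℕ) i : ℚ)

theorem pt_castSucc (n' : Fin r → ℕ) (t : ℕ) (l : Fin r) : pt n' t l.castSucc = (n' l : ℚ) := by
  simp [pt]

theorem pt_last (n' : Fin r → ℕ) (t : ℕ) : pt n' t (Fin.last r) = (t : ℚ) := by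
  simp [pt]

theorem eval_pt_monomial (s : Fin (r + 1) →₀ ℕ) (c : ℚ) (n' : Fin r → ℕ) (t : ℕ) :
    eval (pt n' t) (monomial s c) =
      c * (∏ l : Fin r, (n' l : ℚ) ^ s l.castSucc) * (t : ℚ) ^ s (Fin.last r) := by
  rw [eval_monomial, Finsupp.prod_fintype _ _ (fun i => pow_zero _), Fin.prod_univ_castSucc,
    pt_last, mul_assoc]
  simp only [pt_castSucc]

theorem sum_update_last (s : Fin (r + 1) →₀ ℕ) (e : ℕ) :
    ((s.update (Fin.last r) e).sum fun _ a => a) + s (Fin.last r) = (s.sum fun _ a => a) + e := by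
  have := Finsupp.sum_update_add s (Fin.last r) e (fun _ a => a) (fun _ => rfl)
    (fun _ _ _ => rfl)
  exact this

theorem exists_sum_last (Q : MvPolynomial (Fin (r + 1)) ℚ) :
    ∃ R : MvPolynomial (Fin (r + 1)) ℚ, (Q = 0 → R = 0) ∧ R.totalDegree ≤ Q.totalDegree + 1 ∧
      ∀ (n' : Fin r → ℕ) (t : ℕ),
        eval (pt n' t) R = ∑ j ∈ Finset.range t, eval (pt n' j) Q := by
  classical
  let R : MvPolynomial (Fin (r + 1)) ℚ :=
    ∑ s ∈ Q.support, ∑ i ∈ Finset.range (s (Fin.last r) + 1),
      monomial (s.update (Fin.last r) (s (Fin.last r) + 1 - i))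
        (coeff s Q * (bernoulli i * ((s (Fin.last r) + 1).choose i) / (s (Fin.last r) + 1)))
  refine ⟨R, ?_, ?_, ?_⟩
  · intro h
    simp only [R, h, support_zero, Finset.sum_empty]
  · refine (totalDegree_finsetSum_le (fun s hs => ?_))
    refine (totalDegree_finsetSum_le (fun i _ => ?_))
    refine (totalDegree_monomial_le _ _).trans ?_
    have h1 := sum_update_last s (s (Fin.last r) + 1 - i)
    have h2 := le_totalDegree hs
    change ((s.update (Fin.last r) (s (Fin.last r) + 1 - i)).sum fun _ a => a) ≤ _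
    omega
  · intro n' t
    simp only [R, map_sum]
    have hQ : ∀ j : ℕ, eval (pt n' j) Q =
        ∑ s ∈ Q.support, coeff s Q * (∏ l : Fin r, (n' l : ℚ) ^ s l.castSucc) *
          (j : ℚ) ^ s (Fin.last r) := by
      intro j
      conv_lhs => rw [as_sum Q]
      rw [map_sum]
      exact Finset.sum_congr rfl fun s _ => eval_pt_monomial s _ n' j
    simp only [hQ]
    rw [Finset.sum_comm]
    refine Finset.sum_congr rfl fun s _ => ?_
    rw [← Finset.mul_sum, sum_range_pow, Finset.mul_sum]
    refine Finset.sum_congr rfl fun i hi => ?_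
    rw [eval_pt_monomial]
    have hne : (s.update (Fin.last r) (s (Fin.last r) + 1 - i)) (Fin.last r) =
        s (Fin.last r) + 1 - i := by simp
    have hc : ∀ l : Fin r, (s.update (Fin.last r) (s (Fin.last r) + 1 - i)) l.castSucc =
        s l.castSucc := by
      intro l
      have : l.castSucc ≠ Fin.last r := (Fin.castSucc_lt_last l).ne
      simp [Finsupp.update, Function.update, this]
    rw [hne]
    simp only [hc]
    ring

theorem exists_mvPoly_of_last_diff (d : ℕ) (g : (Fin (r + 1) → ℕ) → ℚ)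
    (P' : MvPolynomial (Fin r) ℚ) (hP' : P'.totalDegree ≤ d)
    (h0 : ∀ n' : Fin r → ℕ, g (Fin.snoc (α := fun _ => ℕ) n' 0) = eval (fun i => (n' i : ℚ)) P')
    (Q : MvPolynomial (Fin (r + 1)) ℚ) (hQ : Q = 0 ∨ Q.totalDegree + 1 ≤ d)
    (hdiff : ∀ (n' : Fin r → ℕ) (m : ℕ),
      g (Fin.snoc (α := fun _ => ℕ) n' (m + 1)) - g (Fin.snoc (α := fun _ => ℕ) n' m) =
        eval (pt n' m) Q) :
    ∃ P : MvPolynomial (Fin (r + 1)) ℚ, P.totalDegree ≤ d ∧
      ∀ n : Fin (r + 1) → ℕ, g n = eval (fun i => (n i : ℚ)) P := by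
  obtain ⟨R, hR0, hRd, hR⟩ := exists_sum_last Q
  refine ⟨rename Fin.castSucc P' + R, ?_, ?_⟩
  · refine (totalDegree_add _ _).trans (max_le ((totalDegree_rename_le _ _).trans hP') ?_)
    rcases hQ with hQ | hQ
    · rw [hR0 hQ]
      simp
    · exact hRd.trans hQ
  · intro n
    have hn : n = Fin.snoc (α := fun _ => ℕ) (Fin.init n) (n (Fin.last r)) :=
      (Fin.snoc_init_self n).symm
    have hpt : (fun i => (n i : ℚ)) = pt (Fin.init n) (n (Fin.last r)) := by
      funext i
      conv_lhs => rw [hn]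
      rfl
    rw [map_add, eval_rename, hpt, hR]
    have hcomp : (pt (Fin.init n) (n (Fin.last r)) ∘ Fin.castSucc) =
        fun i => (Fin.init n i : ℚ) := by
      funext l
      exact pt_castSucc _ _ l
    rw [hcomp, ← h0]
    have htel : ∀ t : ℕ, g (Fin.snoc (α := fun _ => ℕ) (Fin.init n) t) =
        g (Fin.snoc (α := fun _ => ℕ) (Fin.init n) 0) +
          ∑ j ∈ Finset.range t, eval (pt (Fin.init n) j) Q := by
      intro t
      induction t with
      | zero => simp
      | succ t ih =>
        rw [Finset.sum_range_succ, ← hdiff, ← add_assoc, ← ih]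
        ring
    rw [← htel, ← hn]

end Groth.Agent.Lib.Helper45.SnapperAlg
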