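import Mathlib
import Groth.Agent.Lib.Helper45.Dev.HilbPolyB
import Groth.Agent.Lib.Helper45.Dev.SnapperAlg
import Groth.Agent.Lib.Helper45.Dev.DevRoots
import Groth.Agent.Lib.Helper49.TopDim
import Groth.Agent.Lib.Helper17.TwistLoc
import Groth.Agent.S1524

/-!
# Snapper's theorem: formal properties of `F ↦ F ⊗ L₁^{n₁} ⊗ ⋯ ⊗ L_r^{n_r}` (helper45)

* `tensorPowsCongr`, `tensorPowsTensor`: functoriality in `F` for isomorphisms, and
  `(N ⊗ M) ⊗ L^n ≅ (N ⊗ L^n) ⊗ M`;
* `isCoh_tensorPows`, `isZero_tensorPows`, `exists_shortExact_tensorPows`;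
* `euler_congr`, `euler_of_isZero`, `euler_tensorPows_add`, `euler_tensorPows_four`.
-/

set_option autoImplicit false
set_option linter.style.haveILetI false
universe u
open CategoryTheory CategoryTheory.Limits AlgebraicGeometry TopologicalSpace Opposite

namespace Groth.Agent.Lib.Helper45.Snapper

open Groth.Agent.Lib.Helper11.FinFreeAdj Groth.Agent.Lib.Helper11.TensorMap
  Groth.Agent.Lib.Helper11.TensorFormulas Groth.Agent.Lib.Helper11.GenLocus
  Groth.Agent.Lib.Helper45.SerreVanish Groth.Agent.Lib.Helper45.GraphTrick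
  Groth.Agent.Lib.Helper45.HilbPoly

variable {X : Scheme.{u}}

section TensorPows

theorem tensorPows_succ (F : X.Modules) (r : ℕ) (L : Fin (r + 1) → X.Modules)
    (n : Fin (r + 1) → ℕ) :
    Curv2.tensorPows F (r + 1) L n =
      CohB1.tensorMod (Curv2.tensorPows F r (fun i => L i.castSucc) (fun i => n i.castSucc))
        (CohB1.tensorPow (L (Fin.last r)) (n (Fin.last r))) := rfl

/-- functoriality of `tensorPows` for isomorphisms. -/
noncomputable def tensorPowsCongr {F G : X.Modules} (e : F ≅ G) :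
    (r : ℕ) → (L : Fin r → X.Modules) → (n : Fin r → ℕ) →
      (Curv2.tensorPows F r L n ≅ Curv2.tensorPows G r L n)
  | 0, _, _ => e
  | r + 1, L, n => tensorModCongr (tensorPowsCongr e r (fun i => L i.castSucc)
      (fun i => n i.castSucc)) (Iso.refl _)

/-- `(A ⊗ M) ⊗ P ≅ (A ⊗ P) ⊗ M`. -/
noncomputable def swapIso (A M P : X.Modules) :
    CohB1.tensorMod (CohB1.tensorMod A M) P ≅ CohB1.tensorMod (CohB1.tensorMod A P) M :=
  tensorModAssoc A M P ≪≫
    tensorModCongr (Iso.refl A) (Groth.Agent.Lib.Helper17.TwistLoc.tensorModComm M P) ≪≫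
    (tensorModAssoc A P M).symm

/-- `(N ⊗ M) ⊗ L^n ≅ (N ⊗ L^n) ⊗ M`. -/
noncomputable def tensorPowsTensor (N M : X.Modules) :
    (r : ℕ) → (L : Fin r → X.Modules) → (n : Fin r → ℕ) →
      (Curv2.tensorPows (CohB1.tensorMod N M) r L n ≅
        CohB1.tensorMod (Curv2.tensorPows N r L n) M)
  | 0, _, _ => Iso.refl _
  | r + 1, L, n => tensorModCongr (tensorPowsTensor N M r (fun i => L i.castSucc)
      (fun i => n i.castSucc)) (Iso.refl _) ≪≫ swapIso _ _ _

theorem isCoh_tensorPows {F : X.Modules} (hF : Coh.IsCoh F) :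
    ∀ (r : ℕ) (L : Fin r → X.Modules) (_ : ∀ i, PicF.IsInvertible (L i)) (n : Fin r → ℕ),
      Coh.IsCoh (Curv2.tensorPows F r L n)
  | 0, _, _, _ => hF
  | r + 1, L, hL, n => isCoh_tensorMod_inv
      (isCoh_tensorPows hF r (fun i => L i.castSucc) (fun _ => hL _) (fun i => n i.castSucc))
      (isInvertible_tensorPow (hL _) _)

theorem isZero_tensorPows {F : X.Modules} (hF : IsZero F) :
    ∀ (r : ℕ) (L : Fin r → X.Modules) (_ : ∀ i, PicF.IsInvertible (L i)) (n : Fin r → ℕ),
      IsZero (Curv2.tensorPows F r L n)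
  | 0, _, _, _ => hF
  | r + 1, L, hL, n => isZero_tensR (isFinLocFree_of_isInvertible
      (isInvertible_tensorPow (hL _) _))
      (isZero_tensorPows hF r (fun i => L i.castSucc) (fun _ => hL _) (fun i => n i.castSucc))

theorem exists_shortExact_tensorPows {S : ShortComplex X.Modules} (hS : S.ShortExact) :
    ∀ (r : ℕ) (L : Fin r → X.Modules) (_ : ∀ i, PicF.IsInvertible (L i)) (n : Fin r → ℕ),
      ∃ S' : ShortComplex X.Modules, S'.ShortExact ∧
        S'.X₁ = Curv2.tensorPows S.X₁ r L n ∧ S'.X₂ = Curv2.tensorPows S.X₂ r L n ∧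
        S'.X₃ = Curv2.tensorPows S.X₃ r L n
  | 0, _, _, _ => ⟨S, hS, rfl, rfl, rfl⟩
  | r + 1, L, hL, n => by
    obtain ⟨S', hS', h1, h2, h3⟩ := exists_shortExact_tensorPows hS r (fun i => L i.castSucc)
      (fun i => hL _) (fun i => n i.castSucc)
    have hfl := isFinLocFree_of_isInvertible
      (isInvertible_tensorPow (hL (Fin.last r)) (n (Fin.last r)))
    haveI : (tensR (CohB1.tensorPow (L (Fin.last r)) (n (Fin.last r)))).Additive :=
      additive_tensR_of_isFinLocFree hfl
    refine ⟨S'.map (tensR (CohB1.tensorPow (L (Fin.last r)) (n (Fin.last r)))),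
      shortExact_map_tensR hfl hS', ?_, ?_, ?_⟩
    · rw [tensorPows_succ, ← h1]; rfl
    · rw [tensorPows_succ, ← h2]; rfl
    · rw [tensorPows_succ, ← h3]; rfl

end TensorPows

section Euler

variable (k : Type u) [Field k] (X : Scheme.{u}) [X.Over (Spec (CommRingCat.of k))]

theorem euler_congr {M N : X.Modules} (e : M ≅ N) : Curv2.euler k X M = Curv2.euler k X N := by
  unfold Curv2.euler
  refine finsum_congr fun i => ?_
  rw [(hhLinEquiv k X e i).finrank_eq]

theorem euler_of_isZero {M : X.Modules} (h : IsZero M) : Curv2.euler k X M = 0 := by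
  unfold Curv2.euler
  have h0 : ∀ i, Module.finrank k (Coh.HH X M i) = 0 := fun i => by
    haveI := Groth.Agent.Lib.Helper1.subsingleton_HH_of_isZero h i
    exact Module.finrank_zero_of_subsingleton
  simp [h0]

variable [IsProper (X ↘ Spec (CommRingCat.of k))]

theorem euler_tensorPows_add {S : ShortComplex X.Modules} (hS : S.ShortExact)
    (h1 : Coh.IsCoh S.X₁) (h2 : Coh.IsCoh S.X₂) (h3 : Coh.IsCoh S.X₃)
    (r : ℕ) (L : Fin r → X.Modules) (hL : ∀ i, PicF.IsInvertible (L i)) (n : Fin r → ℕ) :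
    Curv2.euler k X (Curv2.tensorPows S.X₂ r L n) =
      Curv2.euler k X (Curv2.tensorPows S.X₁ r L n) +
        Curv2.euler k X (Curv2.tensorPows S.X₃ r L n) := by
  obtain ⟨S', hS', e1, e2, e3⟩ := exists_shortExact_tensorPows hS r L hL n
  have := Groth.Agent.S1524.result k X S' hS' (e1 ▸ isCoh_tensorPows h1 r L hL n)
    (e2 ▸ isCoh_tensorPows h2 r L hL n) (e3 ▸ isCoh_tensorPows h3 r L hL n)
  rwa [e1, e2, e3] at this

/-- the four-term formula. -/
theorem euler_tensorPows_four {A B : X.Modules} (φ : A ⟶ B) (hA : Coh.IsCoh A) (hB : Coh.IsCoh B)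
    (r : ℕ) (L : Fin r → X.Modules) (hL : ∀ i, PicF.IsInvertible (L i)) (n : Fin r → ℕ) :
    Curv2.euler k X (Curv2.tensorPows A r L n) - Curv2.euler k X (Curv2.tensorPows B r L n) =
      Curv2.euler k X (Curv2.tensorPows (kernel φ) r L n) -
        Curv2.euler k X (Curv2.tensorPows (cokernel φ) r L n) := by
  haveI : IsLocallyNoetherian X :=
    LocallyOfFiniteType.isLocallyNoetherian (X ↘ (Spec (CommRingCat.of k)))
  have hK : Coh.IsCoh (kernel φ) := isCoh_kernel φ hA hB.1
  have hC : Coh.IsCoh (cokernel φ) := isCoh_cokernel φ hA.1 hB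
  have hCoim : Coh.IsCoh (cokernel (kernel.ι φ)) := isCoh_cokernel _ hK.1 hA
  have hIm : Coh.IsCoh (kernel (cokernel.π φ)) := isCoh_kernel _ hB hC.1
  have h1 := euler_tensorPows_add k X
    (Groth.Agent.Lib.Helper45.CoprimarySheaf.shortExact_cokernel (kernel.ι φ)) hK hA hCoim r L hL n
  have h2 := euler_tensorPows_add k X (shortExact_kernel (cokernel.π φ)) hIm hB hC r L hL n
  have h3 := euler_congr k X (tensorPowsCongr (Abelian.coimageIsoImage φ) r L n)
  simp only at h1 h2
  change Curv2.euler k X (Curv2.tensorPows (cokernel (kernel.ι φ)) r L n) =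
    Curv2.euler k X (Curv2.tensorPows (kernel (cokernel.π φ)) r L n) at h3
  rw [h1, h2, h3]
  ring

end Euler

end Groth.Agent.Lib.Helper45.Snapper
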