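import Mathlib
import Groth.Agent.Lib.Helper45.Dev.SnapperA

/-!
# Snapper's theorem (helper45)

For `X` proper over a field `k`, `F` coherent with `dim Supp F ≤ d` and invertible modules
`L₁, …, L_r`, the function `n ↦ χ(F ⊗ L₁^{n₁} ⊗ ⋯ ⊗ L_r^{n_r})` is a polynomial of total degree
`≤ d` (`snapper`).  Proof: Noetherian induction (`DevRoots.noeth_induction`), induction on `r`, the
graph trick comparing `N` and `N ⊗ L_r` near the generic point of the support, and discrete
integration of polynomials (`SnapperAlg.exists_mvPoly_of_last_diff`).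
-/

set_option autoImplicit false
set_option linter.style.haveILetI false
universe u
open CategoryTheory CategoryTheory.Limits AlgebraicGeometry TopologicalSpace Opposite

namespace Groth.Agent.Lib.Helper45.Snapper

open Groth.Agent.Lib.Helper11.FinFreeAdj Groth.Agent.Lib.Helper11.TensorMap
  Groth.Agent.Lib.Helper11.TensorFormulas Groth.Agent.Lib.Helper11.GenLocus
  Groth.Agent.Lib.Helper45.SerreVanish Groth.Agent.Lib.Helper45.GraphTrick
  Groth.Agent.Lib.Helper45.HilbPoly Groth.Agent.Lib.Helper49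

section Aux

theorem aux_withBot (a : WithBot ℕ∞) (d : ℕ) (h : a + 1 ≤ (d : WithBot ℕ∞)) :
    a = ⊥ ∨ ∃ d', d = d' + 1 ∧ a ≤ (d' : WithBot ℕ∞) := by
  induction a using WithBot.recBotCoe with
  | bot => exact Or.inl rfl
  | coe a =>
    right
    have h1 : (a + 1 : ℕ∞) ≤ (d : ℕ∞) := by
      have : ((a + 1 : ℕ∞) : WithBot ℕ∞) ≤ ((d : ℕ∞) : WithBot ℕ∞) := by
        simpa using h
      exact WithBot.coe_le_coe.mp this
    have hne : a ≠ ⊤ := by
      rintro rfl
      simp at h1
    lift a to ℕ using hne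
    have h2 : a + 1 ≤ d := by exact_mod_cast h1
    refine ⟨d - 1, by omega, ?_⟩
    have h3 : a ≤ d - 1 := by omega
    change (((a : ℕ∞)) : WithBot ℕ∞) ≤ (((d - 1 : ℕ) : ℕ∞) : WithBot ℕ∞)
    exact WithBot.coe_le_coe.mpr (by exact_mod_cast h3)

theorem isEmpty_of_topologicalKrullDim_eq_bot {Y : Type*} [TopologicalSpace Y]
    (h : topologicalKrullDim Y = ⊥) : IsEmpty Y := by
  unfold topologicalKrullDim at h
  rw [Order.krullDim_eq_bot_iff] at h
  refine ⟨fun y => h.elim ⟨closure {y}, isIrreducible_singleton.closure, isClosed_closure⟩⟩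

/-- `Q = 0` or `deg Q + 1 ≤ d`. -/
def Ltd {σ : Type*} (d : ℕ) (Q : MvPolynomial σ ℚ) : Prop := Q = 0 ∨ Q.totalDegree + 1 ≤ d

theorem Ltd.sub {σ : Type*} {d : ℕ} {Q₁ Q₂ : MvPolynomial σ ℚ} (h₁ : Ltd d Q₁) (h₂ : Ltd d Q₂) :
    Ltd d (Q₁ - Q₂) := by
  rcases Nat.eq_zero_or_pos d with hd | hd
  · subst hd
    have e1 : Q₁ = 0 := by
      rcases h₁ with h | h
      · exact h
      · omega
    have e2 : Q₂ = 0 := by
      rcases h₂ with h | h
      · exact h
      · omega
    left
    rw [e1, e2, sub_zero]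
  · have t1 : Q₁.totalDegree + 1 ≤ d := by
      rcases h₁ with h | h
      · rw [h, MvPolynomial.totalDegree_zero]; omega
      · exact h
    have t2 : Q₂.totalDegree + 1 ≤ d := by
      rcases h₂ with h | h
      · rw [h, MvPolynomial.totalDegree_zero]; omega
      · exact h
    right
    have := MvPolynomial.totalDegree_sub Q₁ Q₂
    have h3 : max Q₁.totalDegree Q₂.totalDegree + 1 ≤ d := by
      rcases max_cases Q₁.totalDegree Q₂.totalDegree with ⟨h, _⟩ | ⟨h, _⟩ <;> rw [h] <;> assumption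
    omega

end Aux

variable {X : Scheme.{u}}

theorem support_tensorMod_subset_support {N M : X.Modules} (hN : Coh.IsCoh N)
    (hM : PicF.IsInvertible M) : CohB1.support (CohB1.tensorMod N M) ⊆ CohB1.support N := by
  have hcl : IsClosed (CohB1.support N) :=
    Groth.Agent.Lib.Helper1.isClosed_support_of_isFiniteType N hN.2
  let U : X.Opens := ⟨(CohB1.support N)ᶜ, hcl.isOpen_compl⟩
  have hz : ZeroOn N U := by
    rw [zeroOn_iff_stalk]
    intro z hz
    exact not_not.mp hz
  have := support_tensorMod_subset N M hM U hz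
  intro z hz
  have h1 := this hz
  exact not_not.mp h1

section HasPoly

variable (k : Type u) [Field k] (X : Scheme.{u}) [X.Over (Spec (CommRingCat.of k))]

/-- `F` has Snapper polynomials of total degree `≤ d`. -/
def HasPoly (d : ℕ) (F : X.Modules) : Prop :=
  ∀ (r : ℕ) (L : Fin r → X.Modules), (∀ i, PicF.IsInvertible (L i)) →
    ∃ P : MvPolynomial (Fin r) ℚ, P.totalDegree ≤ d ∧
      ∀ n : Fin r → ℕ, (Curv2.euler k X (Curv2.tensorPows F r L n) : ℚ) =
        MvPolynomial.eval (fun i => (n i : ℚ)) P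

/-- `F` has Snapper polynomials of total degree `< d` (zero if `d = 0`). -/
def HasPolyLt (d : ℕ) (F : X.Modules) : Prop :=
  ∀ (r : ℕ) (L : Fin r → X.Modules), (∀ i, PicF.IsInvertible (L i)) →
    ∃ P : MvPolynomial (Fin r) ℚ, Ltd d P ∧
      ∀ n : Fin r → ℕ, (Curv2.euler k X (Curv2.tensorPows F r L n) : ℚ) =
        MvPolynomial.eval (fun i => (n i : ℚ)) P

variable {k X}

theorem HasPoly.of_iso {d : ℕ} {A B : X.Modules} (e : A ≅ B) (h : HasPoly k X d A) :
    HasPoly k X d B := by
  intro r L hL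
  obtain ⟨P, hP, hPe⟩ := h r L hL
  refine ⟨P, hP, fun n => ?_⟩
  rw [← hPe n, euler_congr k X (tensorPowsCongr e r L n)]

theorem HasPoly.of_isZero {d : ℕ} {A : X.Modules} (h : IsZero A) : HasPoly k X d A := by
  intro r L hL
  refine ⟨0, by simp, fun n => ?_⟩
  rw [euler_of_isZero k X (isZero_tensorPows h r L hL n)]
  simp

theorem HasPolyLt.of_isZero {d : ℕ} {A : X.Modules} (h : IsZero A) : HasPolyLt k X d A := by
  intro r L hL
  refine ⟨0, Or.inl rfl, fun n => ?_⟩
  rw [euler_of_isZero k X (isZero_tensorPows h r L hL n)]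
  simp

theorem HasPoly.ext [IsProper (X ↘ Spec (CommRingCat.of k))] {d : ℕ}
    {S : ShortComplex X.Modules} (hS : S.ShortExact)
    (h1 : Coh.IsCoh S.X₁) (h2 : Coh.IsCoh S.X₂) (h3 : Coh.IsCoh S.X₃)
    (p1 : HasPoly k X d S.X₁) (p3 : HasPoly k X d S.X₃) : HasPoly k X d S.X₂ := by
  intro r L hL
  obtain ⟨P1, hP1, e1⟩ := p1 r L hL
  obtain ⟨P3, hP3, e3⟩ := p3 r L hL
  refine ⟨P1 + P3, (MvPolynomial.totalDegree_add _ _).trans (max_le hP1 hP3), fun n => ?_⟩
  rw [euler_tensorPows_add k X hS h1 h2 h3 r L hL n, map_add, ← e1, ← e3]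
  push_cast
  rfl

end HasPoly

section Core

variable (k : Type u) [Field k] (X : Scheme.{u}) [X.Over (Spec (CommRingCat.of k))]

theorem euler_tensorPows_snoc_zero (N : X.Modules) (r : ℕ) (L : Fin (r + 1) → X.Modules)
    (n' : Fin r → ℕ) :
    Curv2.euler k X (Curv2.tensorPows N (r + 1) L (Fin.snoc (α := fun _ => ℕ) n' 0)) =
      Curv2.euler k X (Curv2.tensorPows N r (fun i => L i.castSucc) n') := by
  rw [tensorPows_succ]
  simp only [Fin.snoc_castSucc, Fin.snoc_last]
  exact euler_congr k X (tensorUnitIso _)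

theorem euler_tensorPows_snoc_succ (N : X.Modules) (r : ℕ) (L : Fin (r + 1) → X.Modules)
    (n' : Fin r → ℕ) (m : ℕ) :
    Curv2.euler k X (Curv2.tensorPows N (r + 1) L (Fin.snoc (α := fun _ => ℕ) n' (m + 1))) =
      Curv2.euler k X (Curv2.tensorPows (CohB1.tensorMod N (L (Fin.last r))) (r + 1) L
        (Fin.snoc (α := fun _ => ℕ) n' m)) := by
  rw [euler_congr k X (tensorPowsTensor N (L (Fin.last r)) (r + 1) L
    (Fin.snoc (α := fun _ => ℕ) n' m))]
  rw [tensorPows_succ, tensorPows_succ]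
  simp only [Fin.snoc_castSucc, Fin.snoc_last]
  exact euler_congr k X (tensorModAssoc _ _ _).symm

variable [IsProper (X ↘ Spec (CommRingCat.of k))]

/-- the core step: a coherent module supported on `closure {x}` has Snapper polynomials of degree
`≤ d` as soon as all coherent modules supported on `closure {x}` with vanishing stalk at `x` have
Snapper polynomials of degree `< d`. -/
theorem core (d : ℕ) (x : X)
    (hsm : ∀ K : X.Modules, Coh.IsCoh K → CohB1.support K ⊆ closure {x} →
      Subsingleton ↑(K.presheaf.stalk x) → HasPolyLt k X d K)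
    (N : X.Modules) (hN : Coh.IsCoh N) (hNZ : CohB1.support N ⊆ closure {x}) :
    HasPoly k X d N := by
  haveI : IsLocallyNoetherian X :=
    LocallyOfFiniteType.isLocallyNoetherian (X ↘ (Spec (CommRingCat.of k)))
  intro r
  induction r with
  | zero =>
    intro L hL
    refine ⟨MvPolynomial.C (Curv2.euler k X N : ℚ),
      by rw [MvPolynomial.totalDegree_C]; exact Nat.zero_le _, fun n => ?_⟩
    rw [MvPolynomial.eval_C]
    rfl
  | succ r ihr =>
    intro L hL
    obtain ⟨P', hP', hP'e⟩ := ihr (fun i => L i.castSucc) (fun _ => hL _)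
    have hLl : PicF.IsInvertible (L (Fin.last r)) := hL _
    have hNL : Coh.IsCoh (CohB1.tensorMod N (L (Fin.last r))) := isCoh_tensorMod_inv hN hLl
    have hNLZ : CohB1.support (CohB1.tensorMod N (L (Fin.last r))) ⊆ closure {x} :=
      (support_tensorMod_subset_support hN hLl).trans hNZ
    -- the stalk isomorphism
    obtain ⟨U, hxU, ⟨e⟩⟩ := hLl x
    let φ := (restrictTensorTrivIso N (L (Fin.last r)) U e).symm
    let y : U := ⟨x, hxU⟩
    let ψ : ↑(N.presheaf.stalk x) →ₗ[X.presheaf.stalk x]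
        ↑((CohB1.tensorMod N (L (Fin.last r))).presheaf.stalk x) :=
      conjStalkMapLinear U.ι φ.hom y
    have hψ : Function.Bijective ψ := by
      haveI : IsIso (stalkMap φ.hom y) :=
        (ConcreteCategory.isIso_iff_bijective _).mpr (stalkMap_bijective_of_isIso φ.hom y)
      have : IsIso (conjStalkMap U.ι φ.hom y) := by
        unfold conjStalkMap
        infer_instance
      exact (ConcreteCategory.isIso_iff_bijective _).mp this
    obtain ⟨H, q₁, q₂, hH, hq₁, hq₂, -, hjs⟩ :=
      exists_graph N (CohB1.tensorMod N (L (Fin.last r))) hN hNL x ψ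
    have hq₂b : Function.Bijective (stalkMap q₂ x).hom := by
      have : ((stalkMap q₂ x).hom : _ → _) = ψ ∘ (stalkMap q₁ x).hom := funext hq₂
      rw [this]
      exact hψ.comp hq₁
    have hHZ : CohB1.support H ⊆ closure {x} :=
      Groth.Agent.Lib.Helper45.DevRoots.support_graph_subset q₁ q₂ _ hNZ hNLZ hjs
    obtain ⟨QK1, hQK1, eK1⟩ := hsm (kernel q₁) (isCoh_kernel q₁ hH hN.1)
      ((Groth.Agent.Lib.Helper45.DevCore.support_subset_of_mono (kernel.ι q₁)).trans hHZ)
      ((subsingleton_stalk_kernel_iff q₁ x).mpr hq₁.1) (r + 1) L hL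
    obtain ⟨QC1, hQC1, eC1⟩ := hsm (cokernel q₁) (isCoh_cokernel q₁ hH.1 hN)
      ((Groth.Agent.Lib.Helper45.NowhereDense.support_subset_of_epi (cokernel.π q₁)).trans hNZ)
      ((subsingleton_stalk_cokernel_iff q₁ x).mpr hq₁.2) (r + 1) L hL
    obtain ⟨QK2, hQK2, eK2⟩ := hsm (kernel q₂) (isCoh_kernel q₂ hH hNL.1)
      ((Groth.Agent.Lib.Helper45.DevCore.support_subset_of_mono (kernel.ι q₂)).trans hHZ)
      ((subsingleton_stalk_kernel_iff q₂ x).mpr hq₂b.1) (r + 1) L hL
    obtain ⟨QC2, hQC2, eC2⟩ := hsm (cokernel q₂) (isCoh_cokernel q₂ hH.1 hNL)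
      ((Groth.Agent.Lib.Helper45.NowhereDense.support_subset_of_epi (cokernel.π q₂)).trans hNLZ)
      ((subsingleton_stalk_cokernel_iff q₂ x).mpr hq₂b.2) (r + 1) L hL
    have f1 := euler_tensorPows_four k X q₁ hH hN (r + 1) L hL
    have f2 := euler_tensorPows_four k X q₂ hH hNL (r + 1) L hL
    refine Groth.Agent.Lib.Helper45.SnapperAlg.exists_mvPoly_of_last_diff d
      (fun n => (Curv2.euler k X (Curv2.tensorPows N (r + 1) L n) : ℚ)) P' hP' ?_
      ((QK1 - QC1) - (QK2 - QC2)) ((hQK1.sub hQC1).sub (hQK2.sub hQC2)) ?_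
    · intro n'
      change ((Curv2.euler k X (Curv2.tensorPows N (r + 1) L
        (Fin.snoc (α := fun _ => ℕ) n' 0)) : ℤ) : ℚ) = _
      rw [euler_tensorPows_snoc_zero, hP'e n']
    · intro n' m
      change ((Curv2.euler k X (Curv2.tensorPows N (r + 1) L
        (Fin.snoc (α := fun _ => ℕ) n' (m + 1))) : ℤ) : ℚ) -
        ((Curv2.euler k X (Curv2.tensorPows N (r + 1) L
        (Fin.snoc (α := fun _ => ℕ) n' m)) : ℤ) : ℚ) = _
      rw [euler_tensorPows_snoc_succ]
      have g1 := f1 (Fin.snoc (α := fun _ => ℕ) n' m)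
      have g2 := f2 (Fin.snoc (α := fun _ => ℕ) n' m)
      have a1 := eK1 (Fin.snoc (α := fun _ => ℕ) n' m)
      have a2 := eC1 (Fin.snoc (α := fun _ => ℕ) n' m)
      have a3 := eK2 (Fin.snoc (α := fun _ => ℕ) n' m)
      have a4 := eC2 (Fin.snoc (α := fun _ => ℕ) n' m)
      change _ = MvPolynomial.eval (Groth.Agent.Lib.Helper45.SnapperAlg.pt n' m) _ at a1 a2 a3 a4
      rw [map_sub, map_sub, map_sub, ← a1, ← a2, ← a3, ← a4]
      have g1' := congrArg (fun z : ℤ => (z : ℚ)) g1
      have g2' := congrArg (fun z : ℤ => (z : ℚ)) g2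
      simp only [Int.cast_sub] at g1' g2'
      linarith

/-- **Snapper's theorem.** -/
theorem snapper (d : ℕ) : ∀ (F : X.Modules), Coh.IsCoh F →
    topologicalKrullDim (CohB1.support F) ≤ d → HasPoly k X d F := by
  haveI : IsLocallyNoetherian X :=
    LocallyOfFiniteType.isLocallyNoetherian (X ↘ (Spec (CommRingCat.of k)))
  haveI : CompactSpace X := QuasiCompact.compactSpace_of_compactSpace (X ↘ (Spec (CommRingCat.of k)))
  haveI : IsNoetherian X := {}
  induction d using Nat.strong_induction_on with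
  | _ d IH =>
  intro F hF hdim
  have hT : IsClosed (CohB1.support F) :=
    Groth.Agent.Lib.Helper1.isClosed_support_of_isFiniteType F hF.2
  refine Groth.Agent.Lib.Helper45.DevRoots.noeth_induction (HasPoly k X d)
    (fun A B ⟨e⟩ h => h.of_iso e) (fun A h => HasPoly.of_isZero h) (CohB1.support F) hT
    (fun S hS h1 h2 h3 _ p1 p3 => HasPoly.ext hS h1 h2 h3 p1 p3) ?_ F hF subset_rfl
  intro x hxT _ N hN hNx
  refine core k X d x ?_ N hN hNx
  intro K hK hKx hKs
  have hKclosed : IsClosed (CohB1.support K) :=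
    Groth.Agent.Lib.Helper1.isClosed_support_of_isFiniteType K hK.2
  have hne : CohB1.support K ≠ closure {x} := by
    intro h
    have hx : x ∈ CohB1.support K := h ▸ subset_closure (Set.mem_singleton x)
    exact hx hKs
  have h1 := TopDim.topologicalKrullDim_add_one_le_of_ssubset hKclosed hKx hne
    (isIrreducible_singleton.closure)
  have hsub : closure {x} ⊆ CohB1.support F :=
    hT.closure_subset_iff.mpr (Set.singleton_subset_iff.mpr hxT)
  have h2 : topologicalKrullDim ↥(closure ({x} : Set X)) ≤ topologicalKrullDim ↥(CohB1.support F) :=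
    (Topology.IsEmbedding.inclusion hsub).isInducing.topologicalKrullDim_le
  have h3 : topologicalKrullDim ↥(CohB1.support K) + 1 ≤ (d : WithBot ℕ∞) :=
    h1.trans (h2.trans hdim)
  rcases aux_withBot _ _ h3 with h | ⟨d', rfl, h⟩
  · haveI := isEmpty_of_topologicalKrullDim_eq_bot h
    have hz : IsZero K := by
      rw [Groth.Agent.Lib.Helper45.isZero_iff_stalk_subsingleton]
      intro z
      by_contra hz
      exact IsEmpty.false (⟨z, hz⟩ : ↥(CohB1.support K))
    exact HasPolyLt.of_isZero hz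
  · have hP := IH d' (Nat.lt_succ_self d') K hK h
    intro r L hL
    obtain ⟨P, hP1, hP2⟩ := hP r L hL
    exact ⟨P, Or.inr (by omega), hP2⟩

end Core

end Groth.Agent.Lib.Helper45.Snapper
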