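import Mathlib

/-!
# Numerical polynomials in several variables (helper45)

* `eq_of_eval_nat`: a rational polynomial in `r` variables is determined by its values on `ℕ^r`;
* `coeff_one_eq_sum`: for `P` in `d` variables of total degree `≤ d`, the coefficient of
  `n₁ ⋯ n_d` is the mixed difference `Σ_I (-1)^{d - |I|} P(1_I)`.
-/

set_option autoImplicit false

namespace Groth.Agent.Lib.Helper45.SnapperNum

open MvPolynomial

theorem eq_of_eval_nat {r : ℕ} (P Q : MvPolynomial (Fin r) ℚ)
    (h : ∀ n : Fin r → ℕ, eval (fun i => (n i : ℚ)) P = eval (fun i => (n i : ℚ)) Q) : P = Q := by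
  refine funext_set (fun _ => Set.range (Nat.cast : ℕ → ℚ))
    (fun _ => Set.infinite_range_of_injective Nat.cast_injective) ?_
  intro x hx
  have : ∀ i, ∃ n : ℕ, (n : ℚ) = x i := fun i => hx i (Set.mem_univ i)
  choose n hn using this
  have hx' : x = fun i => (n i : ℚ) := funext fun i => (hn i).symm
  rw [hx']
  exact h n

/-- the indicator exponent vector of a subset. -/
def ind {d : ℕ} (I : Finset (Fin d)) : Fin d → ℕ := fun i => if i ∈ I then 1 else 0

theorem sum_monomial_ind {d : ℕ} (s : Fin d →₀ ℕ) :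
    ∑ I : Finset (Fin d), (-1 : ℚ) ^ (d - I.card) * ∏ i, ((ind I i : ℕ) : ℚ) ^ s i =
      if ∀ i, s i ≠ 0 then 1 else 0 := by
  classical
  have key : ∏ i : Fin d, ((1 : ℚ) + (-(0 : ℚ) ^ s i)) =
      ∑ I : Finset (Fin d), (-1 : ℚ) ^ (d - I.card) * ∏ i, ((ind I i : ℕ) : ℚ) ^ s i := by
    rw [Finset.prod_add, Finset.powerset_univ]
    refine Finset.sum_congr rfl fun I _ => ?_
    rw [Finset.prod_const_one, one_mul]
    have h1 : ∏ i ∈ Finset.univ \ I, (-(0 : ℚ) ^ s i) =
        (-1 : ℚ) ^ (d - I.card) * ∏ i ∈ Finset.univ \ I, (0 : ℚ) ^ s i := by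
      have : ∀ i ∈ Finset.univ \ I, (-(0 : ℚ) ^ s i) = (-1) * (0 : ℚ) ^ s i := fun i _ => by ring
      rw [Finset.prod_congr rfl this, Finset.prod_mul_distrib, Finset.prod_const]
      congr 2
      rw [← Finset.compl_eq_univ_sdiff, Finset.card_compl, Fintype.card_fin]
    rw [h1]
    congr 1
    rw [← Finset.prod_sdiff (Finset.subset_univ I)]
    have h2 : ∏ i ∈ I, ((ind I i : ℕ) : ℚ) ^ s i = 1 := by
      refine Finset.prod_eq_one fun i hi => ?_
      simp [ind, hi]
    rw [h2, mul_one]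
    refine Finset.prod_congr rfl fun i hi => ?_
    have : i ∉ I := (Finset.mem_sdiff.mp hi).2
    simp [ind, this]
  rw [← key]
  split_ifs with h
  · refine Finset.prod_eq_one fun i _ => ?_
    rw [zero_pow (h i)]
    ring
  · push Not at h
    obtain ⟨i, hi⟩ := h
    refine Finset.prod_eq_zero (Finset.mem_univ i) ?_
    rw [hi, pow_zero]
    ring

theorem coeff_one_eq_sum {d : ℕ} (P : MvPolynomial (Fin d) ℚ) (hP : P.totalDegree ≤ d) :
    coeff (Finsupp.equivFunOnFinite.symm fun _ : Fin d => 1) P =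
      ∑ I : Finset (Fin d), (-1 : ℚ) ^ (d - I.card) * eval (fun i => ((ind I i : ℕ) : ℚ)) P := by
  classical
  have h1 : ∀ I : Finset (Fin d), eval (fun i => ((ind I i : ℕ) : ℚ)) P =
      ∑ s ∈ P.support, coeff s P * ∏ i, ((ind I i : ℕ) : ℚ) ^ s i := fun I => eval_eq' _ _
  simp only [h1, Finset.mul_sum]
  rw [Finset.sum_comm]
  have h2 : ∀ s ∈ P.support, ∑ I : Finset (Fin d),
      (-1 : ℚ) ^ (d - I.card) * (coeff s P * ∏ i, ((ind I i : ℕ) : ℚ) ^ s i) =
      if s = (Finsupp.equivFunOnFinite.symm fun _ : Fin d => 1) then coeff s P else 0 := by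
    intro s hs
    have : ∀ I : Finset (Fin d), (-1 : ℚ) ^ (d - I.card) *
        (coeff s P * ∏ i, ((ind I i : ℕ) : ℚ) ^ s i) =
        coeff s P * ((-1 : ℚ) ^ (d - I.card) * ∏ i, ((ind I i : ℕ) : ℚ) ^ s i) := fun I => by ring
    simp only [this, ← Finset.mul_sum]
    rw [sum_monomial_ind]
    have hdeg : (s.sum fun _ e => e) ≤ d := (le_totalDegree hs).trans hP
    have hsum : (s.sum fun _ e => e) = ∑ i, s i := Finsupp.sum_fintype _ _ (fun _ => rfl)
    by_cases hs1 : s = (Finsupp.equivFunOnFinite.symm fun _ : Fin d => 1)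
    · rw [if_pos hs1, if_pos, mul_one]
      intro i
      rw [hs1]
      simp
    · rw [if_neg hs1, if_neg, mul_zero]
      intro hall
      apply hs1
      -- all `s i ≥ 1` and the sum is `≤ d`, so all `s i = 1`
      have hge : ∀ i, 1 ≤ s i := fun i => Nat.one_le_iff_ne_zero.mpr (hall i)
      have hle : ∑ i : Fin d, s i ≤ ∑ _i : Fin d, 1 := by
        rw [← hsum]
        simpa using hdeg
      have heq : ∀ i ∈ Finset.univ, (1 : ℕ) = s i := by
        have := (Finset.sum_eq_sum_iff_of_le (s := Finset.univ) (f := fun _ : Fin d => 1)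
          (g := fun i => s i) (fun i _ => hge i)).mp
          (le_antisymm (Finset.sum_le_sum fun i _ => hge i) hle)
        exact this
      ext i
      simp [(heq i (Finset.mem_univ i)).symm]
  rw [Finset.sum_congr rfl h2, Finset.sum_ite_eq']
  split_ifs with h
  · rfl
  · exact notMem_support_iff.mp h

end Groth.Agent.Lib.Helper45.SnapperNum
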