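import Mathlib
import Groth.Agent.Lib.Helper45.Dev.SnapperB
import Groth.Agent.Lib.Helper45.Dev.SnapperNum
import Groth.Agent.Lib.Helper49.QuotModStalk

/-!
# Snapper's theorem, refined: the leading term (helper45)

For `F` coherent with `dim Supp F ≤ d` the difference
`χ(F ⊗ L^n) - Σ_ξ length(F_ξ) χ(O_{Z_ξ} ⊗ L^n)` (sum over the points `ξ` with `dim closure ξ = d`,
`Z_ξ` the closure with reduced structure) is a polynomial of total degree `< d`.
-/

set_option autoImplicit false
set_option linter.style.haveILetI false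
universe u
open CategoryTheory CategoryTheory.Limits AlgebraicGeometry TopologicalSpace Opposite

namespace Groth.Agent.Lib.Helper45.Snapper

open Groth.Agent.Lib.Helper11.FinFreeAdj Groth.Agent.Lib.Helper11.TensorMap
  Groth.Agent.Lib.Helper11.TensorFormulas Groth.Agent.Lib.Helper11.GenLocus
  Groth.Agent.Lib.Helper45.SerreVanish Groth.Agent.Lib.Helper45.GraphTrick
  Groth.Agent.Lib.Helper45.HilbPoly Groth.Agent.Lib.Helper49 Groth.Agent.Lib.Helper45
  Groth.Agent.Lib.Helper45.DevCore

variable {X : Scheme.{u}}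

section StalkLength

theorem length_stalk_eq_of_iso {A B : X.Modules} (e : A ≅ B) (x : X) :
    Module.length (X.presheaf.stalk x) ↑(A.presheaf.stalk x) =
      Module.length (X.presheaf.stalk x) ↑(B.presheaf.stalk x) :=
  (LinearEquiv.ofBijective (stalkMapLinear e.hom x)
    (stalkMap_bijective_of_isIso e.hom x)).length_eq

theorem length_stalk_add {S : ShortComplex X.Modules} (hS : S.ShortExact) (x : X) :
    Module.length (X.presheaf.stalk x) ↑(S.X₂.presheaf.stalk x) =
      Module.length (X.presheaf.stalk x) ↑(S.X₁.presheaf.stalk x) +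
        Module.length (X.presheaf.stalk x) ↑(S.X₃.presheaf.stalk x) := by
  haveI := hS.mono_f
  haveI := hS.epi_g
  exact Module.length_eq_add_of_exact (stalkMapLinear S.f x) (stalkMapLinear S.g x)
    (stalkMap_injective_of_mono S.f x) (stalkMap_surjective_of_epi S.g x)
    (stalkMap_exact_of_shortExact S hS x)

attribute [local instance] stalkModuleSections

/-- The stalk at `ξ` of a coherent module has finite length if no proper generization of `ξ` lies
in the support. -/
theorem isFiniteLength_stalk' [IsLocallyNoetherian X] (M : X.Modules) (hM : Coh.IsCoh M) (ξ : X)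
    (hgen : ∀ z ∈ CohB1.support M, z ⤳ ξ → ξ ⤳ z) :
    IsFiniteLength (X.presheaf.stalk ξ) (M.presheaf.stalk ξ) := by
  haveI := hM.1
  obtain ⟨_, ⟨V, hV : IsAffineOpen V, rfl⟩, hξV, -⟩ :=
    X.isBasis_affineOpens.exists_subset_of_mem_open (Set.mem_univ ξ) isOpen_univ
  obtain ⟨x, rfl⟩ : ∃ x : V, (x : X) = ξ := ⟨⟨ξ, hξV⟩, rfl⟩
  haveI : IsNoetherianRing Γ(X, V) := IsLocallyNoetherian.component_noetherian ⟨V, hV⟩
  haveI : Module.Finite Γ(X, V) Γ(M, V) := finite_sections_of_isCoh hV M hM
  haveI := hV.isLocalization_stalk x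
  haveI := isLocalizedModule_germₗ hV M x
  haveI : Module.Finite (X.presheaf.stalk (x : X)) (M.presheaf.stalk (x : X)) :=
    Groth.Agent.Lib.Helper12.QuasiFlat.finite_stalk_of_isCoh M hM x
  haveI : IsNoetherianRing (X.presheaf.stalk (x : X)) :=
    IsLocalization.isNoetherianRing (hV.primeIdealOf x).asIdeal.primeCompl _ inferInstance
  apply Groth.Agent.Lib.Helper85.HS.isFiniteLength_of_supportDim_le_zero
  rcases withBot_enat_le_zero_or_one_le
    (Module.supportDim (X.presheaf.stalk (x : X)) (M.presheaf.stalk (x : X))) with h | h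
  · exact h
  · exfalso
    obtain ⟨q, hq, hqp⟩ := (one_le_supportDim_iff (hV.primeIdealOf x).asIdeal
      (X.presheaf.stalk (x : X)) (germₗ M x)).mp h
    obtain ⟨z, hz⟩ := exists_primeIdealOf_eq hV q
    have hzM : (z : X) ∈ CohB1.support M := mem_support_of_primeIdealOf_mem hV M z (hz ▸ hq)
    have hzx : (z : X) ⤳ (x : X) := by
      rw [← primeIdealOf_le_iff hV x z, hz]
      exact hqp.le
    have hspec : (x : X) ⤳ (z : X) := hgen _ hzM hzx
    have hle : (hV.primeIdealOf x).asIdeal ≤ (hV.primeIdealOf z).asIdeal :=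
      (primeIdealOf_le_iff hV z x).mpr hspec
    rw [hz] at hle
    exact absurd hqp (not_lt_of_ge hle)

end StalkLength

section Dim

/-- a point of a closed set of dimension `≤ d` whose closure has dimension `d` has no proper
generization in that set. -/
theorem specializes_of_dim {T : Set X} (hT : IsClosed T) (d : ℕ)
    (hdim : topologicalKrullDim ↥T ≤ d) {ξ z : X} (hz : z ∈ T) (hzξ : z ⤳ ξ)
    (hξ : topologicalKrullDim ↥(closure ({ξ} : Set X)) = (d : WithBot ℕ∞)) : ξ ⤳ z := by
  have hsub : closure ({ξ} : Set X) ⊆ closure {z} :=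
    isClosed_closure.closure_subset_iff.mpr
      (Set.singleton_subset_iff.mpr (specializes_iff_mem_closure.mp hzξ))
  by_cases heq : closure ({ξ} : Set X) = closure {z}
  · rw [specializes_iff_mem_closure, heq]
    exact subset_closure (Set.mem_singleton z)
  · exfalso
    have h1 := TopDim.topologicalKrullDim_add_one_le_of_ssubset isClosed_closure hsub heq
      (isIrreducible_singleton.closure)
    have hzT : closure ({z} : Set X) ⊆ T :=
      hT.closure_subset_iff.mpr (Set.singleton_subset_iff.mpr hz)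
    have h2 : topologicalKrullDim ↥(closure ({z} : Set X)) ≤ topologicalKrullDim ↥T :=
      (Topology.IsEmbedding.inclusion hzT).isInducing.topologicalKrullDim_le
    have h3 : ((d + 1 : ℕ) : WithBot ℕ∞) ≤ ((d : ℕ) : WithBot ℕ∞) := by
      rw [hξ] at h1
      push_cast
      exact h1.trans (h2.trans hdim)
    have h4 : d + 1 ≤ d := by exact_mod_cast h3
    omega

end Dim

section Ltd

theorem Ltd.zero {σ : Type*} {d : ℕ} : Ltd d (0 : MvPolynomial σ ℚ) := Or.inl rfl

theorem Ltd.add {σ : Type*} {d : ℕ} {Q₁ Q₂ : MvPolynomial σ ℚ} (h₁ : Ltd d Q₁) (h₂ : Ltd d Q₂) :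
    Ltd d (Q₁ + Q₂) := by
  have h := h₁.sub ((Ltd.zero (d := d)).sub h₂)
  have e : Q₁ - (0 - Q₂) = Q₁ + Q₂ := by ring
  rwa [e] at h

theorem Ltd.coeff_eq_zero {r d : ℕ} {Q : MvPolynomial (Fin r) ℚ} (h : Ltd d Q)
    (m : Fin r →₀ ℕ) (hm : d ≤ m.sum fun _ e => e) : MvPolynomial.coeff m Q = 0 := by
  rcases h with h | h
  · rw [h, MvPolynomial.coeff_zero]
  · by_contra hne
    have := MvPolynomial.le_totalDegree (MvPolynomial.mem_support_iff.mpr hne)
    omega

theorem aux_lt (a : WithBot ℕ∞) (d : ℕ) (h : a ≤ (d : WithBot ℕ∞)) (hne : a ≠ (d : WithBot ℕ∞)) :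
    a + 1 ≤ (d : WithBot ℕ∞) := by
  induction a using WithBot.recBotCoe with
  | bot => simp
  | coe a =>
    have h1 : a ≤ (d : ℕ∞) := by
      have : ((a : ℕ∞) : WithBot ℕ∞) ≤ ((d : ℕ∞) : WithBot ℕ∞) := by simpa using h
      exact WithBot.coe_le_coe.mp this
    have hne' : a ≠ (d : ℕ∞) := by
      rintro rfl
      exact hne rfl
    have hne2 : a ≠ ⊤ := ne_top_of_le_ne_top (ENat.natCast_ne_top d) h1
    lift a to ℕ using hne2
    have h2 : a ≤ d := by exact_mod_cast h1
    have h3 : a ≠ d := by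
      rintro rfl
      exact hne' rfl
    have h4 : a + 1 ≤ d := by omega
    change (((a : ℕ∞) + 1 : ℕ∞) : WithBot ℕ∞) ≤ (((d : ℕ) : ℕ∞) : WithBot ℕ∞)
    exact WithBot.coe_le_coe.mpr (by exact_mod_cast h4)

end Ltd

section Corr

variable (k : Type u) [Field k] (X : Scheme.{u}) [X.Over (Spec (CommRingCat.of k))]

/-- the structure sheaf of the closure of a point (reduced structure), as an `O_X`-module. -/
noncomputable abbrev ptMod (ξ : X) : X.Modules := ClSub.quotMod (QuotModStalk.ptIdeal ξ)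

/-- the correction term at `ξ`. -/
noncomputable def corrTerm (d : ℕ) (F : X.Modules) (r : ℕ) (L : Fin r → X.Modules)
    (n : Fin r → ℕ) (ξ : X) : ℚ :=
  if topologicalKrullDim (closure ({ξ} : Set X)) = (d : WithBot ℕ∞) then
    ((Module.length (X.presheaf.stalk ξ) (F.presheaf.stalk ξ)).toNat : ℚ) *
      (Curv2.euler k X (Curv2.tensorPows (ptMod X ξ) r L n) : ℚ)
  else 0

/-- the points of the support whose closure has dimension `d`. -/
def maxPts (d : ℕ) (F : X.Modules) : Set X :=
  {ξ | topologicalKrullDim (closure ({ξ} : Set X)) = (d : WithBot ℕ∞) ∧ ξ ∈ CohB1.support F}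

/-- `χ(F ⊗ L^n) - Σ_ξ length(F_ξ) χ(O_{Z_ξ} ⊗ L^n)` is a polynomial of degree `< d`. -/
def HasCorr (d : ℕ) (F : X.Modules) : Prop :=
  ∀ (r : ℕ) (L : Fin r → X.Modules), (∀ i, PicF.IsInvertible (L i)) →
    ∃ Q : MvPolynomial (Fin r) ℚ, Ltd d Q ∧
      ∀ n : Fin r → ℕ, (Curv2.euler k X (Curv2.tensorPows F r L n) : ℚ) -
        ∑ᶠ ξ : X, corrTerm k X d F r L n ξ = MvPolynomial.eval (fun i => (n i : ℚ)) Q

variable {k X}

theorem support_corrTerm_subset (d : ℕ) (F : X.Modules) (r : ℕ) (L : Fin r → X.Modules)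
    (n : Fin r → ℕ) : Function.support (corrTerm k X d F r L n) ⊆ maxPts X d F := by
  intro ξ hξ
  rw [Function.mem_support] at hξ
  unfold corrTerm at hξ
  split_ifs at hξ with h
  · refine ⟨h, fun hsub => hξ ?_⟩
    haveI := hsub
    rw [Module.length_eq_zero]
    simp
  · exact absurd rfl hξ

theorem corrTerm_congr {d : ℕ} {A B : X.Modules} (e : A ≅ B) (r : ℕ) (L : Fin r → X.Modules)
    (n : Fin r → ℕ) : corrTerm k X d A r L n = corrTerm k X d B r L n := by
  funext ξ
  unfold corrTerm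
  rw [length_stalk_eq_of_iso e ξ]

theorem support_eq_of_iso {A B : X.Modules} (e : A ≅ B) : CohB1.support A = CohB1.support B := by
  ext z
  constructor
  · intro hz hB
    exact hz (Groth.Agent.Lib.Helper45.DevRoots.subsingleton_stalk_of_iso e z hB)
  · intro hz hA
    exact hz (Groth.Agent.Lib.Helper45.DevRoots.subsingleton_stalk_of_iso e.symm z hA)

theorem HasCorr.of_iso {d : ℕ} {A B : X.Modules} (e : A ≅ B) (h : HasCorr k X d A) :
    HasCorr k X d B := by
  intro r L hL
  obtain ⟨Q, hQ, hQe⟩ := h r L hL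
  refine ⟨Q, hQ, fun n => ?_⟩
  rw [← hQe n, euler_congr k X (tensorPowsCongr e r L n), corrTerm_congr e r L n]

theorem hasCorr_of_maxPts_empty {d : ℕ} {M : X.Modules} (h : maxPts X d M = ∅)
    (hp : HasPolyLt k X d M) : HasCorr k X d M := by
  intro r L hL
  obtain ⟨Q, hQ, hQe⟩ := hp r L hL
  refine ⟨Q, hQ, fun n => ?_⟩
  have h0 : ∀ ξ, corrTerm k X d M r L n ξ = 0 := by
    intro ξ
    by_contra hne
    have := support_corrTerm_subset d M r L n (Function.mem_support.mpr hne)
    rw [h] at this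
    exact this
  rw [finsum_congr h0, finsum_zero, sub_zero, hQe n]

theorem corrTerm_add {d : ℕ} {S : ShortComplex X.Modules} (hS : S.ShortExact)
    (hfin : ∀ ξ : X, topologicalKrullDim (closure ({ξ} : Set X)) = (d : WithBot ℕ∞) →
      IsFiniteLength (X.presheaf.stalk ξ) (S.X₂.presheaf.stalk ξ))
    (r : ℕ) (L : Fin r → X.Modules) (n : Fin r → ℕ) (ξ : X) :
    corrTerm k X d S.X₂ r L n ξ = corrTerm k X d S.X₁ r L n ξ + corrTerm k X d S.X₃ r L n ξ := by
  unfold corrTerm
  split_ifs with h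
  · have hadd := length_stalk_add hS ξ
    have h2 : Module.length (X.presheaf.stalk ξ) ↑(S.X₂.presheaf.stalk ξ) ≠ ⊤ :=
      Module.length_ne_top_iff.mpr (hfin ξ h)
    rw [hadd] at h2
    have h1 : Module.length (X.presheaf.stalk ξ) ↑(S.X₁.presheaf.stalk ξ) ≠ ⊤ :=
      fun h => h2 (by rw [h, top_add])
    have h3 : Module.length (X.presheaf.stalk ξ) ↑(S.X₃.presheaf.stalk ξ) ≠ ⊤ :=
      fun h => h2 (by rw [h, add_top])
    rw [hadd, ENat.toNat_add h1 h3]
    push_cast
    ring
  · rw [add_zero]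

end Corr

end Groth.Agent.Lib.Helper45.Snapper
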