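import Mathlib
import Groth.Agent.Lib.Helper45.Dev.SnapperC

/-!
# Snapper's theorem, refined: the leading term, main theorem (helper45)

`snapper_refined`: for `F` coherent with `dim Supp F ≤ d` there are finitely many points `ξ` of
the support with `dim closure ξ = d`, and
`χ(F ⊗ L^n) - Σ_ξ length(F_ξ) χ(O_{Z_ξ} ⊗ L^n)` is a polynomial of total degree `< d`.
-/

set_option autoImplicit false
set_option linter.style.haveILetI false
universe u
open CategoryTheory CategoryTheory.Limits AlgebraicGeometry TopologicalSpace Opposite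

namespace Groth.Agent.Lib.Helper45.Snapper

open Groth.Agent.Lib.Helper11.FinFreeAdj Groth.Agent.Lib.Helper11.TensorMap
  Groth.Agent.Lib.Helper11.TensorFormulas Groth.Agent.Lib.Helper11.GenLocus
  Groth.Agent.Lib.Helper45.SerreVanish Groth.Agent.Lib.Helper45.GraphTrick
  Groth.Agent.Lib.Helper45.HilbPoly Groth.Agent.Lib.Helper49 Groth.Agent.Lib.Helper45
  Groth.Agent.Lib.Helper45.DevCore

section Main

variable (k : Type u) [Field k] (X : Scheme.{u}) [X.Over (Spec (CommRingCat.of k))]
  [IsProper (X ↘ Spec (CommRingCat.of k))]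

theorem hasPolyLt_of_dim (d : ℕ) (M : X.Modules) (hM : Coh.IsCoh M)
    (h : topologicalKrullDim ↥(CohB1.support M) + 1 ≤ (d : WithBot ℕ∞)) : HasPolyLt k X d M := by
  rcases aux_withBot _ _ h with h' | ⟨d', rfl, h'⟩
  · haveI := isEmpty_of_topologicalKrullDim_eq_bot h'
    have hz : IsZero M := by
      rw [Groth.Agent.Lib.Helper45.isZero_iff_stalk_subsingleton]
      intro z
      by_contra hz
      exact IsEmpty.false (⟨z, hz⟩ : ↥(CohB1.support M))
    exact HasPolyLt.of_isZero hz
  · have hP := snapper k X d' M hM h'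
    intro r L hL
    obtain ⟨P, hP1, hP2⟩ := hP r L hL
    exact ⟨P, Or.inr (by omega), hP2⟩

variable {k X}

theorem maxPts_subset_singleton {T : Set X} (hT : IsClosed T) (d : ℕ)
    (hdim : topologicalKrullDim ↥T ≤ d) {x : X} (hx : x ∈ T) {N : X.Modules}
    (hN : CohB1.support N ⊆ closure {x}) : maxPts X d N ⊆ {x} := by
  rintro ξ ⟨hξd, hξN⟩
  have h1 : x ⤳ ξ := specializes_iff_mem_closure.mpr (hN hξN)
  have h2 : ξ ⤳ x := specializes_of_dim hT d hdim hx h1 hξd
  exact (h2.antisymm h1).eq

theorem hasCorr_two_of_three {d : ℕ} {S : ShortComplex X.Modules} (hS : S.ShortExact)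
    (h1 : Coh.IsCoh S.X₁) (h2 : Coh.IsCoh S.X₂) (h3 : Coh.IsCoh S.X₃)
    (hfin : ∀ ξ : X, topologicalKrullDim (closure ({ξ} : Set X)) = (d : WithBot ℕ∞) →
      IsFiniteLength (X.presheaf.stalk ξ) (S.X₂.presheaf.stalk ξ))
    (hm1 : (maxPts X d S.X₁).Finite) (hm3 : (maxPts X d S.X₃).Finite) :
    (HasCorr k X d S.X₁ → HasCorr k X d S.X₂ → HasCorr k X d S.X₃) ∧
      (HasCorr k X d S.X₁ → HasCorr k X d S.X₃ → HasCorr k X d S.X₂) ∧
      (HasCorr k X d S.X₂ → HasCorr k X d S.X₃ → HasCorr k X d S.X₁) := by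
  have key : ∀ (r : ℕ) (L : Fin r → X.Modules), (∀ i, PicF.IsInvertible (L i)) →
      ∀ n : Fin r → ℕ,
      (Curv2.euler k X (Curv2.tensorPows S.X₂ r L n) : ℚ) -
        ∑ᶠ ξ : X, corrTerm k X d S.X₂ r L n ξ =
      ((Curv2.euler k X (Curv2.tensorPows S.X₁ r L n) : ℚ) -
        ∑ᶠ ξ : X, corrTerm k X d S.X₁ r L n ξ) +
      ((Curv2.euler k X (Curv2.tensorPows S.X₃ r L n) : ℚ) -
        ∑ᶠ ξ : X, corrTerm k X d S.X₃ r L n ξ) := by
    intro r L hL n
    have hf1 : (Function.support (corrTerm k X d S.X₁ r L n)).Finite :=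
      hm1.subset (support_corrTerm_subset d S.X₁ r L n)
    have hf3 : (Function.support (corrTerm k X d S.X₃ r L n)).Finite :=
      hm3.subset (support_corrTerm_subset d S.X₃ r L n)
    rw [finsum_congr (corrTerm_add hS hfin r L n), finsum_add_distrib hf1 hf3,
      euler_tensorPows_add k X hS h1 h2 h3 r L hL n]
    push_cast
    ring
  refine ⟨fun p1 p2 => ?_, fun p1 p3 => ?_, fun p2 p3 => ?_⟩
  · intro r L hL
    obtain ⟨Q1, hQ1, e1⟩ := p1 r L hL
    obtain ⟨Q2, hQ2, e2⟩ := p2 r L hL
    refine ⟨Q2 - Q1, hQ2.sub hQ1, fun n => ?_⟩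
    rw [map_sub, ← e1 n, ← e2 n, key r L hL n]
    ring
  · intro r L hL
    obtain ⟨Q1, hQ1, e1⟩ := p1 r L hL
    obtain ⟨Q3, hQ3, e3⟩ := p3 r L hL
    refine ⟨Q1 + Q3, hQ1.add hQ3, fun n => ?_⟩
    rw [map_add, ← e1 n, ← e3 n, key r L hL n]
  · intro r L hL
    obtain ⟨Q2, hQ2, e2⟩ := p2 r L hL
    obtain ⟨Q3, hQ3, e3⟩ := p3 r L hL
    refine ⟨Q2 - Q3, hQ2.sub hQ3, fun n => ?_⟩
    rw [map_sub, ← e2 n, ← e3 n, key r L hL n]
    ring

variable (k X)

/-- **Snapper's theorem, refined.** -/
theorem snapper_refined (d : ℕ) (F : X.Modules) (hF : Coh.IsCoh F)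
    (hdim : topologicalKrullDim ↥(CohB1.support F) ≤ d) :
    (maxPts X d F).Finite ∧ HasCorr k X d F := by
  haveI : IsLocallyNoetherian X :=
    LocallyOfFiniteType.isLocallyNoetherian (X ↘ (Spec (CommRingCat.of k)))
  haveI : CompactSpace X := QuasiCompact.compactSpace_of_compactSpace (X ↘ (Spec (CommRingCat.of k)))
  haveI : IsNoetherian X := {}
  have hT : IsClosed (CohB1.support F) :=
    Groth.Agent.Lib.Helper1.isClosed_support_of_isFiniteType F hF.2
  generalize hTdef : CohB1.support F = T at hT hdim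
  have hfinlen : ∀ M : X.Modules, Coh.IsCoh M → CohB1.support M ⊆ T → ∀ ξ : X,
      topologicalKrullDim (closure ({ξ} : Set X)) = (d : WithBot ℕ∞) →
      IsFiniteLength (X.presheaf.stalk ξ) (M.presheaf.stalk ξ) := by
    intro M hM hMT ξ hξ
    exact isFiniteLength_stalk' M hM ξ
      (fun z hz hzξ => specializes_of_dim hT d hdim (hMT hz) hzξ hξ)
  have main := Groth.Agent.Lib.Helper45.DevRoots.noeth_induction
    (fun M => CohB1.support M ⊆ T → (maxPts X d M).Finite ∧ HasCorr k X d M) ?_ ?_ T hT ?_ ?_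
    F hF hTdef.le
  · exact main hTdef.le
  · -- isomorphisms
    rintro A B ⟨e⟩ hA hBT
    have hs := support_eq_of_iso e
    obtain ⟨f, c⟩ := hA (hs ▸ hBT)
    refine ⟨?_, c.of_iso e⟩
    have : maxPts X d B = maxPts X d A := by
      unfold maxPts
      rw [hs]
    rw [this]
    exact f
  · -- zero
    intro A hA _
    have hm : maxPts X d A = ∅ := by
      ext ξ
      simp only [Set.mem_empty_iff_false, iff_false]
      rintro ⟨-, hξ⟩
      exact hξ ((Groth.Agent.Lib.Helper45.isZero_iff_stalk_subsingleton A).mp hA ξ)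
    exact ⟨hm ▸ Set.finite_empty, hasCorr_of_maxPts_empty hm (HasPolyLt.of_isZero hA)⟩
  · -- extensions
    intro S hS h1 h2 h3 h2T p1 p3 _
    haveI := hS.mono_f
    haveI := hS.epi_g
    have s1 : CohB1.support S.X₁ ⊆ T := (support_subset_of_mono S.f).trans h2T
    have s3 : CohB1.support S.X₃ ⊆ T :=
      (Groth.Agent.Lib.Helper45.NowhereDense.support_subset_of_epi S.g).trans h2T
    obtain ⟨f1, c1⟩ := p1 s1
    obtain ⟨f3, c3⟩ := p3 s3
    refine ⟨?_, (hasCorr_two_of_three hS h1 h2 h3 (hfinlen _ h2 h2T) f1 f3).2.1 c1 c3⟩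
    refine (f1.union f3).subset ?_
    rintro ξ ⟨hξd, hξ2⟩
    by_contra hcon
    apply hξ2
    have hn1 : Subsingleton ↑(S.X₁.presheaf.stalk ξ) :=
      by_contra fun h => hcon (Or.inl ⟨hξd, h⟩)
    have hn3 : Subsingleton ↑(S.X₃.presheaf.stalk ξ) :=
      by_contra fun h => hcon (Or.inr ⟨hξd, h⟩)
    have := length_stalk_add hS ξ
    rw [Module.length_eq_zero_iff.mpr hn1, Module.length_eq_zero_iff.mpr hn3, add_zero] at this
    exact Module.length_eq_zero_iff.mp this
  · -- the core
    intro x hxT _ N hN hNx hNT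
    have hmp := maxPts_subset_singleton hT d hdim hxT hNx
    refine ⟨(Set.finite_singleton x).subset hmp, ?_⟩
    have hclT : closure {x} ⊆ T := hT.closure_subset_iff.mpr (Set.singleton_subset_iff.mpr hxT)
    have hdimx : topologicalKrullDim ↥(closure ({x} : Set X)) ≤ (d : WithBot ℕ∞) :=
      ((Topology.IsEmbedding.inclusion hclT).isInducing.topologicalKrullDim_le).trans hdim
    have hsmallLt : ∀ M : X.Modules, Coh.IsCoh M → CohB1.support M ⊆ closure {x} →
        Subsingleton ↑(M.presheaf.stalk x) → HasPolyLt k X d M := by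
      intro M hM hMx hMs
      have hMclosed : IsClosed (CohB1.support M) :=
        Groth.Agent.Lib.Helper1.isClosed_support_of_isFiniteType M hM.2
      have hne : CohB1.support M ≠ closure {x} := by
        intro h
        have hx : x ∈ CohB1.support M := h ▸ subset_closure (Set.mem_singleton x)
        exact hx hMs
      have h1 := TopDim.topologicalKrullDim_add_one_le_of_ssubset hMclosed hMx hne
        (isIrreducible_singleton.closure)
      exact hasPolyLt_of_dim k X d M hM (h1.trans hdimx)
    have hptsupp : CohB1.support (ptMod X x) ⊆ closure {x} := by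
      rw [QuotModStalk.support_quotMod, QuotModStalk.support_ptIdeal]
    by_cases hx : topologicalKrullDim ↥(closure ({x} : Set X)) = (d : WithBot ℕ∞)
    · refine devissage_core (fun M => CohB1.support M ⊆ closure {x} → HasCorr k X d M) ?_ x ?_ ?_
        (ptMod X x) (QuotModStalk.isCoh_quotMod _) hptsupp ?_
        (QuotModStalk.isSimpleModule_stalk_quotMod x) N hN hNx hNx
      · rintro A B ⟨e⟩ hA hB
        exact (hA (support_eq_of_iso e ▸ hB)).of_iso e
      · intro S hS h1 h2 h3 h2x
        haveI := hS.mono_f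
        haveI := hS.epi_g
        have s1 : CohB1.support S.X₁ ⊆ closure {x} := (support_subset_of_mono S.f).trans h2x
        have s3 : CohB1.support S.X₃ ⊆ closure {x} :=
          (Groth.Agent.Lib.Helper45.NowhereDense.support_subset_of_epi S.g).trans h2x
        have f1 := (Set.finite_singleton x).subset (maxPts_subset_singleton hT d hdim hxT s1)
        have f3 := (Set.finite_singleton x).subset (maxPts_subset_singleton hT d hdim hxT s3)
        have tt := hasCorr_two_of_three (k := k) hS h1 h2 h3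
          (hfinlen _ h2 (h2x.trans hclT)) f1 f3
        exact ⟨fun p1 p2 _ => tt.1 (p1 s1) (p2 h2x), fun p1 p3 _ => tt.2.1 (p1 s1) (p3 s3),
          fun p2 p3 _ => tt.2.2 (p2 h2x) (p3 s3)⟩
      · intro M hM hMx hMs _
        refine hasCorr_of_maxPts_empty ?_ (hsmallLt M hM hMx hMs)
        ext ξ
        simp only [Set.mem_empty_iff_false, iff_false]
        intro hξ
        have h1 := maxPts_subset_singleton hT d hdim hxT hMx hξ
        rw [Set.mem_singleton_iff] at h1
        subst h1
        exact hξ.2 hMs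
      · intro _ r L hL
        refine ⟨0, Ltd.zero, fun n => ?_⟩
        have hsingle : ∑ᶠ ξ : X, corrTerm k X d (ptMod X x) r L n ξ =
            corrTerm k X d (ptMod X x) r L n x := by
          refine finsum_eq_single _ x (fun ξ hξ => ?_)
          by_contra hne
          have h1 := support_corrTerm_subset d (ptMod X x) r L n (Function.mem_support.mpr hne)
          exact hξ (maxPts_subset_singleton hT d hdim hxT hptsupp h1)
        rw [hsingle]
        unfold corrTerm
        rw [if_pos hx]
        haveI := QuotModStalk.isSimpleModule_stalk_quotMod x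
        rw [Module.length_eq_one]
        simp
    · refine hasCorr_of_maxPts_empty ?_ ?_
      · ext ξ
        simp only [Set.mem_empty_iff_false, iff_false]
        intro hξ
        have h1 := hmp hξ
        rw [Set.mem_singleton_iff] at h1
        subst h1
        exact hx hξ.1
      · refine hasPolyLt_of_dim k X d N hN ?_
        have h1 : topologicalKrullDim ↥(CohB1.support N) ≤
            topologicalKrullDim ↥(closure ({x} : Set X)) :=
          (Topology.IsEmbedding.inclusion hNx).isInducing.topologicalKrullDim_le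
        exact (add_le_add_left h1 1).trans (aux_lt _ d hdimx hx)

end Main

end Groth.Agent.Lib.Helper45.Snapper
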