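import Mathlib
import Groth.Agent.Lib.Helper45.Dev.SnapperNum

/-!
# Splitting the mixed difference along the first variable (helper45)
-/

set_option autoImplicit false

namespace Groth.Agent.Lib.Helper45.SnapperNum

open MvPolynomial

/-- subsets of `Fin (e + 1)` correspond to pairs (does it contain `0`, the rest). -/
def finsetSuccEquiv (e : ℕ) : Finset (Fin (e + 1)) ≃ Bool × Finset (Fin e) where
  toFun I := (decide (0 ∈ I), Finset.univ.filter fun j => j.succ ∈ I)
  invFun p := (if p.1 then {0} else ∅) ∪ p.2.map (Fin.succEmb e)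
  left_inv I := by
    ext i
    induction i using Fin.cases with
    | zero => by_cases h : (0 : Fin (e + 1)) ∈ I <;> simp [h, Fin.succ_ne_zero]
    | succ j => by_cases h : (0 : Fin (e + 1)) ∈ I <;> simp [h, Fin.succ_ne_zero]
  right_inv p := by
    obtain ⟨b, J⟩ := p
    cases b <;> (ext <;> simp [Fin.succ_ne_zero])

theorem ind_finsetSuccEquiv_symm {e : ℕ} (b : Bool) (J : Finset (Fin e)) :
    ind ((finsetSuccEquiv e).symm (b, J)) =
      Fin.cons (α := fun _ => ℕ) (if b then 1 else 0) (ind J) := by
  funext i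
  induction i using Fin.cases with
  | zero => cases b <;> simp [ind, finsetSuccEquiv, Fin.succ_ne_zero]
  | succ j => cases b <;> simp [ind, finsetSuccEquiv, Fin.succ_ne_zero]

theorem card_finsetSuccEquiv_symm {e : ℕ} (b : Bool) (J : Finset (Fin e)) :
    ((finsetSuccEquiv e).symm (b, J)).card = J.card + (if b then 1 else 0) := by
  have hdisj : Disjoint (if b then ({0} : Finset (Fin (e + 1))) else ∅)
      (J.map (Fin.succEmb e)) := by
    rw [Finset.disjoint_left]
    intro i hi hi'
    rw [Finset.mem_map] at hi'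
    obtain ⟨j, -, rfl⟩ := hi'
    cases b <;> simp [Fin.succ_ne_zero] at hi
  change ((if b then ({0} : Finset (Fin (e + 1))) else ∅) ∪ J.map (Fin.succEmb e)).card = _
  rw [Finset.card_union_of_disjoint hdisj, Finset.card_map]
  cases b <;> simp [add_comm]

theorem sum_ind_succ {e : ℕ} (f : (Fin (e + 1) → ℕ) → ℚ) :
    ∑ I : Finset (Fin (e + 1)), (-1 : ℚ) ^ (e + 1 - I.card) * f (ind I) =
      ∑ J : Finset (Fin e), (-1 : ℚ) ^ (e - J.card) *
        (f (Fin.cons (α := fun _ => ℕ) 1 (ind J)) - f (Fin.cons (α := fun _ => ℕ) 0 (ind J))) := by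
  rw [← (finsetSuccEquiv e).symm.sum_comp, Fintype.sum_prod_type, Fintype.sum_bool, ← Finset.sum_add_distrib]
  refine Finset.sum_congr rfl fun J _ => ?_
  rw [ind_finsetSuccEquiv_symm, ind_finsetSuccEquiv_symm, card_finsetSuccEquiv_symm,
    card_finsetSuccEquiv_symm]
  have hJ : J.card ≤ e := by
    have := Finset.card_le_univ J
    simpa using this
  simp only [if_true, Bool.false_eq_true, if_false, add_zero]
  have h1 : e + 1 - (J.card + 1) = e - J.card := by omega
  have h2 : e + 1 - J.card = (e - J.card) + 1 := by omega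
  rw [h1, h2, pow_succ]
  ring

end Groth.Agent.Lib.Helper45.SnapperNum
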