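import Mathlib
import Groth.Agent.Lib.Helper45.Dev.SnapperD
import Groth.Agent.Lib.Helper45.Dev.SnapperNum2
import Groth.Agent.Lib.Helper1.IdealMod
import Groth.Prelude.Def_FGA

/-!
# Intersection with an effective Cartier divisor (helper45)

* `nonempty_tensorPowsHead`: `F ⊗ L₀^{n₀} ⊗ ⋯ ⊗ L_r^{n_r} ≅ (F ⊗ L₀^{n₀}) ⊗ L₁^{n₁} ⊗ ⋯`;
* `notMem_support_of_effCartier`: an effective Cartier divisor contains no generic point;
* `maxPts_quotMod_effCartier`.
-/

set_option autoImplicit false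
set_option linter.style.haveILetI false
universe u
open CategoryTheory CategoryTheory.Limits AlgebraicGeometry TopologicalSpace Opposite

namespace Groth.Agent.Lib.Helper45.Snapper

open Groth.Agent.Lib.Helper11.FinFreeAdj Groth.Agent.Lib.Helper11.TensorMap
  Groth.Agent.Lib.Helper11.TensorFormulas Groth.Agent.Lib.Helper11.GenLocus
  Groth.Agent.Lib.Helper45.SerreVanish Groth.Agent.Lib.Helper45.GraphTrick
  Groth.Agent.Lib.Helper45.HilbPoly Groth.Agent.Lib.Helper49 Groth.Agent.Lib.Helper45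

variable {X : Scheme.{u}}

theorem nonempty_tensorPowsHead (F : X.Modules) :
    ∀ (r : ℕ) (L : Fin (r + 1) → X.Modules) (n : Fin (r + 1) → ℕ),
      Nonempty (Curv2.tensorPows F (r + 1) L n ≅
        Curv2.tensorPows (CohB1.tensorMod F (CohB1.tensorPow (L 0) (n 0))) r
          (fun i => L i.succ) (fun i => n i.succ))
  | 0, L, n => ⟨Iso.refl _⟩
  | r + 1, L, n => by
    obtain ⟨e⟩ := nonempty_tensorPowsHead F r (fun i => L i.castSucc) (fun i => n i.castSucc)
    rw [tensorPows_succ (r := r + 1),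
      tensorPows_succ (F := CohB1.tensorMod F (CohB1.tensorPow (L 0) (n 0))) (r := r)]
    simp only [Fin.succ_castSucc, Fin.succ_last]
    simp only [Fin.castSucc_zero] at e
    exact ⟨tensorModCongr e (Iso.refl _)⟩

theorem notMem_support_of_effCartier (D : X.IdealSheafData) (hD : FGA.IsEffCartier D) (ξ : X)
    (hgen : ∀ z : X, z ⤳ ξ → z = ξ) : ξ ∉ D.support := by
  intro hξ
  obtain ⟨U, hξU, a, ha, hI⟩ := hD ξ
  rw [Scheme.IdealSheafData.mem_support_iff_of_mem hξU, Scheme.mem_zeroLocus_iff] at hξ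
  have ha' : a ∈ D.ideal U := by
    rw [hI]
    exact Ideal.mem_span_singleton_self a
  have h1 : ξ ∉ X.basicOpen a := hξ a ha'
  have h2 : a ∈ (U.2.primeIdealOf ⟨ξ, hξU⟩).asIdeal := by
    rw [QuotModStalk.mem_primeIdealOf_iff ξ U.2 hξU a, IsLocalRing.mem_maximalIdeal]
    intro hu
    exact h1 ((Scheme.mem_basicOpen X a ξ hξU).mpr hu)
  have hmin : (U.2.primeIdealOf ⟨ξ, hξU⟩).asIdeal ∈ minimalPrimes Γ(X, (U : X.Opens)) :=
    (primeIdealOf_mem_minimalPrimes_iff U.2 ⟨ξ, hξU⟩).mpr hgen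
  exact Set.disjoint_left.mp (Ideal.disjoint_nonZeroDivisors_of_mem_minimalPrimes hmin) h2 ha

theorem maxPts_quotMod_effCartier (D : X.IdealSheafData) (hD : FGA.IsEffCartier D) (d : ℕ)
    (hX : topologicalKrullDim X ≤ d) : maxPts X d (ClSub.quotMod D) = ∅ := by
  ext ξ
  simp only [Set.mem_empty_iff_false, iff_false]
  rintro ⟨hξd, hξ⟩
  rw [QuotModStalk.support_quotMod] at hξ
  refine notMem_support_of_effCartier D hD ξ ?_ hξ
  intro z hz
  have hdim : topologicalKrullDim ↥(Set.univ : Set X) ≤ d :=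
    (topologicalKrullDim_subspace_le X Set.univ).trans hX
  have := specializes_of_dim (T := Set.univ) isClosed_univ d hdim (Set.mem_univ z) hz hξd
  exact (hz.antisymm this).eq

section Euler

variable (k : Type u) [Field k] (X : Scheme.{u}) [X.Over (Spec (CommRingCat.of k))]

theorem euler_tensorPows_cons (F : X.Modules) (r : ℕ) (L : Fin (r + 1) → X.Modules) (a : ℕ)
    (n' : Fin r → ℕ) :
    Curv2.euler k X (Curv2.tensorPows F (r + 1) L (Fin.cons (α := fun _ => ℕ) a n')) =
      Curv2.euler k X (Curv2.tensorPows (CohB1.tensorMod F (CohB1.tensorPow (L 0) a)) r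
        (fun i => L i.succ) n') := by
  obtain ⟨e⟩ := nonempty_tensorPowsHead F r L (Fin.cons (α := fun _ => ℕ) a n')
  simp only [Fin.cons_zero, Fin.cons_succ] at e
  exact euler_congr k X e

theorem hasPolyLt_of_hasCorr {d : ℕ} {M : X.Modules} (h : maxPts X d M = ∅)
    (hc : HasCorr k X d M) : HasPolyLt k X d M := by
  intro r L hL
  obtain ⟨Q, hQ, hQe⟩ := hc r L hL
  refine ⟨Q, hQ, fun n => ?_⟩
  have h0 : ∀ ξ, corrTerm k X d M r L n ξ = 0 := by
    intro ξ
    by_contra hne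
    have := support_corrTerm_subset d M r L n (Function.mem_support.mpr hne)
    rw [h] at this
    exact this
  rw [← hQe n, finsum_congr h0, finsum_zero, sub_zero]

variable [IsProper (X ↘ Spec (CommRingCat.of k))]

/-- twisting by `O(D)`: `χ(O_X ⊗ L₀ ⊗ L'^n) = χ(O_X ⊗ L'^n) + χ(O_D ⊗ L₀ ⊗ L'^n)`. -/
theorem euler_effCartier_step (D : X.IdealSheafData) (r : ℕ) (L : Fin (r + 1) → X.Modules)
    (hL : ∀ i, PicF.IsInvertible (L i)) (hLD : ClSub.IsInverseOf (L 0) (ClSub.idealMod D))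
    (n' : Fin r → ℕ) :
    Curv2.euler k X (Curv2.tensorPows (Coh.structureModule X) (r + 1) L
        (Fin.cons (α := fun _ => ℕ) 1 n')) =
      Curv2.euler k X (Curv2.tensorPows (Coh.structureModule X) (r + 1) L
        (Fin.cons (α := fun _ => ℕ) 0 n')) +
      Curv2.euler k X (Curv2.tensorPows (ClSub.quotMod D) (r + 1) L
        (Fin.cons (α := fun _ => ℕ) 1 n')) := by
  haveI : IsLocallyNoetherian X :=
    LocallyOfFiniteType.isLocallyNoetherian (X ↘ (Spec (CommRingCat.of k)))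
  have hO : Coh.IsCoh (Coh.structureModule X) :=
    Groth.Agent.Lib.Helper45.RefHullStalk.isCoh_structureModule X
  have hOD : Coh.IsCoh (ClSub.quotMod D) := QuotModStalk.isCoh_quotMod D
  have hI : Coh.IsCoh (ClSub.idealMod D) := isCoh_kernel (ClSub.toSubscheme D) hO hOD.1
  have hadd := euler_tensorPows_add k X (Groth.Agent.Lib.Helper1.idealModComplex_shortExact D)
    hI hO hOD (r + 1) L hL (Fin.cons (α := fun _ => ℕ) 1 n')
  change Curv2.euler k X (Curv2.tensorPows (Coh.structureModule X) (r + 1) L _) =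
    Curv2.euler k X (Curv2.tensorPows (ClSub.idealMod D) (r + 1) L _) +
      Curv2.euler k X (Curv2.tensorPows (ClSub.quotMod D) (r + 1) L _) at hadd
  rw [hadd]
  congr 1
  rw [euler_tensorPows_cons, euler_tensorPows_cons]
  obtain ⟨e0⟩ := hLD
  -- `I_D ⊗ L₀^1 ≅ O_X ⊗ L₀^0`
  let e1 : CohB1.tensorMod (ClSub.idealMod D) (CohB1.tensorPow (L 0) 1) ≅
      CohB1.tensorMod (Coh.structureModule X) (CohB1.tensorPow (L 0) 0) :=
    tensorModCongr (Iso.refl _) (unitTensorIso (L 0)) ≪≫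
      Groth.Agent.Lib.Helper17.TwistLoc.tensorModComm _ _ ≪≫ e0 ≪≫
      (tensorUnitIso (Coh.structureModule X)).symm
  exact euler_congr k X (tensorPowsCongr e1 r _ n')

omit [IsProper (X ↘ Spec (CommRingCat.of k))] in
/-- `χ(O_D ⊗ L₀^0 ⊗ L'^n) = χ(O_D ⊗ L'^n)`. -/
theorem euler_tensorPows_cons_zero (F : X.Modules) (r : ℕ) (L : Fin (r + 1) → X.Modules)
    (n' : Fin r → ℕ) :
    Curv2.euler k X (Curv2.tensorPows F (r + 1) L (Fin.cons (α := fun _ => ℕ) 0 n')) =
      Curv2.euler k X (Curv2.tensorPows F r (fun i => L i.succ) n') := by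
  rw [euler_tensorPows_cons]
  exact euler_congr k X (tensorPowsCongr (tensorUnitIso F) r _ n')

end Euler

end Groth.Agent.Lib.Helper45.Snapper
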