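import Mathlib
import Groth.Agent.Lib.Helper45.Dev.SnapperF
import Groth.Agent.S0458
import Groth.Prelude.Def_FGA

/-!
# `FGA.intNum` in terms of `Curv2.tensorPows` (helper45)

* `eulerCharLE_eq_euler`: on a Noetherian scheme of dimension `≤ d`, the truncated Euler
  characteristic `FGA.eulerCharLE · d` is `Curv2.euler`;
* `nonempty_tensorList_iso`: `(⊗_{i ∈ I} M_i) ⊗ F ≅ F ⊗ M_0^{1_I(0)} ⊗ ⋯`;
* `intNum_eq_sum`: `FGA.intNum k X d M F = Σ_I (-1)^{|I|} χ(tensorPows F r M 1_I)`.
-/

set_option autoImplicit false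
set_option linter.style.haveILetI false
universe u
open CategoryTheory CategoryTheory.Limits AlgebraicGeometry TopologicalSpace Opposite

namespace Groth.Agent.Lib.Helper45.Snapper

open Groth.Agent.Lib.Helper11.FinFreeAdj Groth.Agent.Lib.Helper11.TensorMap
  Groth.Agent.Lib.Helper11.TensorFormulas Groth.Agent.Lib.Helper11.GenLocus
  Groth.Agent.Lib.Helper45.SerreVanish Groth.Agent.Lib.Helper45.GraphTrick
  Groth.Agent.Lib.Helper45.HilbPoly Groth.Agent.Lib.Helper49 Groth.Agent.Lib.Helper45
  Groth.Agent.Lib.Helper45.SnapperNum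

section Truncation

variable (k : Type u) [Field k] (X : Scheme.{u}) [X.Over (Spec (CommRingCat.of k))]

theorem eulerCharLE_eq_euler [IsNoetherian X] (d : ℕ) (hd : topologicalKrullDim X ≤ d)
    (G : X.Modules) : FGA.eulerCharLE k X G d = Curv2.euler k X G := by
  have hvan : ∀ p : ℕ, d + 1 ≤ p → Subsingleton (Coh.HH X G p) := by
    intro p hp
    haveI : NoetherianSpace ↑X.toTopCat := (inferInstance : NoetherianSpace X)
    exact Groth.Agent.S0458.result (X := X.toTopCat) d hd (Coh.toAb G) p (by omega)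
  rw [Groth.Agent.Lib.Helper63.EulerAdd.euler_eq_sum (k := k) G (d + 1) hvan]
  rfl

end Truncation

section TensorList

variable {X : Scheme.{u}}

/-- `(a ⊗ T) ⊗ F ≅ T ⊗ (F ⊗ a)`. -/
noncomputable def tensorListConsIso (a T F : X.Modules) :
    CohB1.tensorMod (CohB1.tensorMod a T) F ≅ CohB1.tensorMod T (CohB1.tensorMod F a) :=
  tensorModCongr (Groth.Agent.Lib.Helper17.TwistLoc.tensorModComm a T) (Iso.refl F) ≪≫
    tensorModAssoc T a F ≪≫
    tensorModCongr (Iso.refl T) (Groth.Agent.Lib.Helper17.TwistLoc.tensorModComm a F)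

theorem sort_map_succ {r : ℕ} (J : Finset (Fin r)) :
    (J.map (Fin.succEmb r)).sort (· ≤ ·) = (J.sort (· ≤ ·)).map Fin.succ := by
  have h : StrictMonoOn (Fin.succEmb r) (J : Set (Fin r)) :=
    (Fin.strictMono_succ).strictMonoOn _
  exact (h.map_finsetSort).symm

theorem sort_insert_zero_map_succ {r : ℕ} (J : Finset (Fin r)) :
    (insert 0 (J.map (Fin.succEmb r))).sort (· ≤ ·) = 0 :: (J.sort (· ≤ ·)).map Fin.succ := by
  rw [Finset.sort_insert (r := (· ≤ ·)) (fun b _ => Fin.zero_le b) (by simp [Fin.succ_ne_zero]),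
    sort_map_succ]

theorem nonempty_tensorList_iso :
    ∀ (r : ℕ) (M : Fin r → X.Modules) (F : X.Modules) (I : Finset (Fin r)),
      Nonempty (CohB1.tensorMod (FGA.tensorList ((I.sort (· ≤ ·)).map M)) F ≅
        Curv2.tensorPows F r M (ind I))
  | 0, M, F, I => by
    have hI : I = ∅ := Finset.eq_empty_of_isEmpty I
    subst hI
    simp only [Finset.sort_empty, List.map_nil]
    exact ⟨unitTensorIso F⟩
  | r + 1, M, F, I => by
    obtain ⟨⟨b, J⟩, rfl⟩ := (finsetSuccEquiv r).symm.surjective I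
    rw [ind_finsetSuccEquiv_symm]
    obtain ⟨e1⟩ := nonempty_tensorPowsHead F r M
      (Fin.cons (α := fun _ => ℕ) (if b then 1 else 0) (ind J))
    simp only [Fin.cons_zero, Fin.cons_succ] at e1
    cases b with
    | false =>
      have hs : ((finsetSuccEquiv r).symm (false, J)).sort (· ≤ ·) =
          (J.sort (· ≤ ·)).map Fin.succ := by
        have : (finsetSuccEquiv r).symm (false, J) = J.map (Fin.succEmb r) := by
          simp [finsetSuccEquiv]
        rw [this, sort_map_succ]
      rw [hs, List.map_map]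
      obtain ⟨e2⟩ := nonempty_tensorList_iso r (fun i => M i.succ) F J
      simp only [Bool.false_eq_true, if_false] at e1
      exact ⟨e2 ≪≫ (tensorPowsCongr (tensorUnitIso F) r _ _).symm ≪≫ e1.symm⟩
    | true =>
      have hs : ((finsetSuccEquiv r).symm (true, J)).sort (· ≤ ·) =
          0 :: (J.sort (· ≤ ·)).map Fin.succ := by
        have : (finsetSuccEquiv r).symm (true, J) = insert 0 (J.map (Fin.succEmb r)) := by
          simp [finsetSuccEquiv]
        rw [this, sort_insert_zero_map_succ]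
      rw [hs, List.map_cons, List.map_map]
      obtain ⟨e2⟩ := nonempty_tensorList_iso r (fun i => M i.succ) (CohB1.tensorMod F (M 0)) J
      simp only [if_true] at e1
      have e3 : CohB1.tensorMod F (CohB1.tensorPow (M 0) 1) ≅ CohB1.tensorMod F (M 0) :=
        tensorModCongr (Iso.refl F) (unitTensorIso (M 0))
      exact ⟨tensorListConsIso _ _ _ ≪≫ e2 ≪≫ (tensorPowsCongr e3 r _ _).symm ≪≫ e1.symm⟩

end TensorList

section IntNum

variable (k : Type u) [Field k] (X : Scheme.{u}) [X.Over (Spec (CommRingCat.of k))]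

theorem intNum_eq_sum [IsNoetherian X] (d : ℕ) (hd : topologicalKrullDim X ≤ d) {r : ℕ}
    (M : Fin r → X.Modules) (F : X.Modules) :
    FGA.intNum k X d M F = ∑ I : Finset (Fin r), (-1 : ℤ) ^ I.card *
      Curv2.euler k X (Curv2.tensorPows F r M (ind I)) := by
  unfold FGA.intNum
  refine Finset.sum_congr rfl fun I _ => ?_
  rw [eulerCharLE_eq_euler k X d hd]
  obtain ⟨e⟩ := nonempty_tensorList_iso r M F I
  rw [euler_congr k X e]

end IntNum

end Groth.Agent.Lib.Helper45.Snapper
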