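import Mathlib
import Groth.Agent.Lib.Helper45.Dev.SnapperD
import Groth.Agent.Lib.Helper83.LerayLinSch
import Groth.Agent.Lib.Helper11.ProjFormulaDerived
import Groth.Agent.Lib.Helper11.PullbackTensor

/-!
# Euler characteristics on a closed subscheme (helper45)

* `nonempty_linearEquiv_push_affine`: `H^p(Y, G) ≃ₗ[k] H^p(X, g_* G)` for an affine morphism
  `g : Y ⟶ X` to a separated scheme and `G` quasi-coherent;
* `euler_push_affine`: `χ(Y, G) = χ(X, g_* G)`;
* `pushTensorPowsIso`: `g_*(G ⊗ (g^*L)^n) ≅ g_* G ⊗ L^n`;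
* `euler_tensorPows_push`.
-/

set_option autoImplicit false
set_option linter.style.haveILetI false
universe u
open CategoryTheory CategoryTheory.Limits AlgebraicGeometry TopologicalSpace Opposite

namespace Groth.Agent.Lib.Helper45.Snapper

open Groth.Agent.Lib.Helper11.FinFreeAdj Groth.Agent.Lib.Helper11.TensorMap
  Groth.Agent.Lib.Helper11.TensorFormulas Groth.Agent.Lib.Helper11.GenLocus
  Groth.Agent.Lib.Helper45.SerreVanish Groth.Agent.Lib.Helper45.GraphTrick
  Groth.Agent.Lib.Helper45.HilbPoly Groth.Agent.Lib.Helper49 Groth.Agent.Lib.Helper45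

section Affine

variable {X : Scheme.{u}}

theorem isAffineOpen_inf_of_isSeparated' [X.IsSeparated] {V V' : X.Opens} (hV : IsAffineOpen V)
    (hV' : IsAffineOpen V') : IsAffineOpen (V ⊓ V') := by
  haveI : IsAffine V := hV
  have : IsAffineHom (V.ι ≫ terminal.from X) := by
    rw [HasAffineProperty.iff_of_isAffine (P := @IsAffineHom)]
    infer_instance
  have : IsAffineHom V.ι := IsAffineHom.of_comp V.ι (terminal.from X)
  have h1 : IsAffineOpen (V.ι ⁻¹ᵁ V') := hV'.preimage V.ι
  rw [← V.ι.isAffineOpen_iff_of_isOpenImmersion, V.ι.image_preimage_eq_opensRange_inf,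
    Scheme.Opens.opensRange_ι] at h1
  exact h1

theorem isAffineOpen_iInf_fin' [X.IsSeparated] : ∀ (p : ℕ) (V : Fin (p + 1) → X.Opens),
    (∀ k, IsAffineOpen (V k)) → IsAffineOpen (⨅ k, V k)
  | 0, V, hV => by
    have : (⨅ k, V k) = V 0 :=
      le_antisymm (iInf_le _ 0) (le_iInf fun k => by
        obtain rfl : k = 0 := Subsingleton.elim (α := Fin 1) k 0
        exact le_rfl)
    rw [this]
    exact hV 0
  | p + 1, V, hV => by
    have : (⨅ k, V k) = V 0 ⊓ ⨅ k : Fin (p + 1), V k.succ := by
      apply le_antisymm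
      · exact le_inf (iInf_le _ 0) (le_iInf fun k => iInf_le _ k.succ)
      · refine le_iInf fun k => ?_
        induction k using Fin.cases with
        | zero => exact inf_le_left
        | succ b => exact inf_le_right.trans (iInf_le (fun k : Fin (p + 1) => V k.succ) b)
    rw [this]
    exact isAffineOpen_inf_of_isSeparated' (hV 0) (isAffineOpen_iInf_fin' p _ fun k => hV k.succ)

variable (k : Type u) [Field k] {Y : Scheme.{u}} [X.Over (Spec (CommRingCat.of k))]
  [Y.Over (Spec (CommRingCat.of k))] (g : Y ⟶ X) [g.IsOver (Spec (CommRingCat.of k))]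

theorem nonempty_linearEquiv_push_affine [X.IsSeparated] [IsAffineHom g] (G : Y.Modules)
    [G.IsQuasicoherent] (p : ℕ) :
    Nonempty (Coh.HH Y G p ≃ₗ[k] Coh.HH X ((Coh.push g).obj G) p) := by
  haveI : ((Coh.push g).obj G).IsQuasicoherent := isQuasicoherent_pushforward G g
  refine Groth.Agent.Lib.Helper83.LerayLin.nonempty_linearEquiv_push g G
    (fun U : X.affineOpens => (U : X.Opens)) k ?_ ?_ ?_ p
  · exact iSup_affineOpens_eq_top X
  · intro q a
    exact isAffineOpen_iInf_fin' q _ (fun j => (a j).2)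
  · intro n a q
    exact Groth.Agent.Lib.Helper1.subsingleton_HU_of_isAffineOpen _ _
      ((isAffineOpen_iInf_fin' n _ (fun j => (a j).2)).preimage g) q

theorem euler_push_affine [X.IsSeparated] [IsAffineHom g] (G : Y.Modules) [G.IsQuasicoherent] :
    Curv2.euler k Y G = Curv2.euler k X ((Coh.push g).obj G) := by
  unfold Curv2.euler
  refine finsum_congr fun i => ?_
  obtain ⟨e⟩ := nonempty_linearEquiv_push_affine k g G i
  rw [e.finrank_eq]

end Affine

section ProjFormula

variable {X Y : Scheme.{u}} (g : Y ⟶ X)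

/-- `g_*(G ⊗ (g^*L)^n) ≅ g_* G ⊗ L^n`. -/
noncomputable def pushTensorPowsIso (G : Y.Modules) :
    (r : ℕ) → (L : Fin r → X.Modules) → (∀ i, PicF.IsInvertible (L i)) → (n : Fin r → ℕ) →
      ((Scheme.Modules.pushforward g).obj
        (Curv2.tensorPows G r (fun i => (Scheme.Modules.pullback g).obj (L i)) n) ≅
      Curv2.tensorPows ((Scheme.Modules.pushforward g).obj G) r L n)
  | 0, _, _, _ => Iso.refl _
  | r + 1, L, hL, n => by
    have hfl := isFinLocFree_of_isInvertible
      (isInvertible_tensorPow (hL (Fin.last r)) (n (Fin.last r)))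
    haveI := Groth.Agent.Lib.Helper11.ProjFormulaDerived.isIso_theta g
      (CohB1.tensorPow (L (Fin.last r)) (n (Fin.last r)))
      (Curv2.tensorPows G r (fun i => (Scheme.Modules.pullback g).obj (L i.castSucc))
        (fun i => n i.castSucc)) hfl
    exact (Scheme.Modules.pushforward g).mapIso
        (tensorModCongr (Iso.refl _)
          (Groth.Agent.Lib.Helper11.PullbackTensor.pullbackTensorPowIso g (hL (Fin.last r))
            (n (Fin.last r))).symm) ≪≫
      (asIso (Groth.Agent.Lib.Helper11.ProjFormulaDerived.theta g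
        (CohB1.tensorPow (L (Fin.last r)) (n (Fin.last r)))
        (Curv2.tensorPows G r (fun i => (Scheme.Modules.pullback g).obj (L i.castSucc))
          (fun i => n i.castSucc)))).symm ≪≫
      tensorModCongr (pushTensorPowsIso G r (fun i => L i.castSucc) (fun _ => hL _)
        (fun i => n i.castSucc)) (Iso.refl _)

theorem isQuasicoherent_tensorPows (G : Y.Modules) [G.IsQuasicoherent] :
    ∀ (r : ℕ) (L : Fin r → Y.Modules) (_ : ∀ i, PicF.IsInvertible (L i)) (n : Fin r → ℕ),
      (Curv2.tensorPows G r L n).IsQuasicoherent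
  | 0, _, _, _ => ‹_›
  | r + 1, L, hL, n => by
    haveI := isQuasicoherent_tensorPows G r (fun i => L i.castSucc) (fun _ => hL _)
      (fun i => n i.castSucc)
    exact isQuasicoherent_tensorMod_of_isInvertible _ _ (isInvertible_tensorPow (hL _) _)

end ProjFormula

section Combined

variable (k : Type u) [Field k] {X Y : Scheme.{u}} [X.Over (Spec (CommRingCat.of k))]
  [Y.Over (Spec (CommRingCat.of k))] (g : Y ⟶ X) [g.IsOver (Spec (CommRingCat.of k))]

theorem euler_tensorPows_push [X.IsSeparated] [IsAffineHom g] (G : Y.Modules)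
    [G.IsQuasicoherent] (r : ℕ) (L : Fin r → X.Modules) (hL : ∀ i, PicF.IsInvertible (L i))
    (n : Fin r → ℕ) :
    Curv2.euler k Y (Curv2.tensorPows G r (fun i => (Scheme.Modules.pullback g).obj (L i)) n) =
      Curv2.euler k X (Curv2.tensorPows ((Scheme.Modules.pushforward g).obj G) r L n) := by
  haveI := isQuasicoherent_tensorPows G r (fun i => (Scheme.Modules.pullback g).obj (L i))
    (fun i => Groth.Agent.Lib.Helper11.PullbackTensor.isInvertible_pullback g (hL i)) n
  rw [euler_push_affine k g]
  exact euler_congr k X (pushTensorPowsIso g G r L hL n)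

end Combined

end Groth.Agent.Lib.Helper45.Snapper
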